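import Groth.Agent.StrictSSLib.NodeSubcurve
import Groth.Agent.Omega.GrStalk
import Groth.Agent.IdealSh.IdealMod
import Groth.Agent.CycLib.ModStalk

/-!
# A separating node splits the ideal of the point
-/

set_option autoImplicit false
set_option linter.style.haveILetI false

universe u

open CategoryTheory Limits AlgebraicGeometry Opposite TopologicalSpace IsLocalRing
open Groth.Agent.PullStalk.Sky Groth.Agent.PullStalk.Exact
open Groth.Agent.Omega.Stalks OmegaSh
open Groth.Agent.StrictSSLib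

noncomputable section

namespace Groth.Agent.NodalLib

section Algebra

variable {K : Type u} [Field K] {B : Type u} [CommRing B] [IsLocalRing B] [IsNoetherianRing B]
  [Algebra B (FormalNode K)] [IsLocalHom (algebraMap B (FormalNode K))] [Module.Flat B (FormalNode K)]

omit [IsLocalRing B] [IsNoetherianRing B] [IsLocalHom (algebraMap B (FormalNode K))] in
/-- Regularity modulo an ideal persists in a flat algebra. -/
theorem mem_map_of_mul_mem (I : Ideal B) {s : B} (hs : ∀ x, s * x ∈ I → x ∈ I) (x : FormalNode K)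
    (hx : algebraMap B _ s * x ∈ I.map (algebraMap B (FormalNode K))) : x ∈ I.map (algebraMap B (FormalNode K)) := by
  set φ := algebraMap B (FormalNode K)
  set J := I.map φ
  have hs' : IsSMulRegular (B ⧸ I) s := fun x y h => by
    obtain ⟨a, rfl⟩ := Ideal.Quotient.mk_surjective x
    obtain ⟨b, rfl⟩ := Ideal.Quotient.mk_surjective y
    simp only [Algebra.smul_def, Ideal.Quotient.algebraMap_eq, ← map_mul, Ideal.Quotient.eq, ← mul_sub] at h ⊢
    exact hs _ h
  have hN : IsSMulRegular (TensorProduct B (FormalNode K) (B ⧸ I)) s := IsSMulRegular.lTensor (M := FormalNode K) hs'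
  let e : (TensorProduct B (FormalNode K) (B ⧸ I)) ≃ₐ[FormalNode K] FormalNode K ⧸ J :=
    (Algebra.TensorProduct.quotIdealMapEquivTensorQuot (FormalNode K) I).symm
  rw [← Ideal.Quotient.eq_zero_iff_mem] at hx ⊢
  refine e.symm.injective ((hN ?_).trans (map_zero _).symm)
  show s • e.symm (Ideal.Quotient.mk J x) = s • (0 : _)
  rw [smul_zero, ← algebraMap_smul (FormalNode K) s, ← map_smul]
  show e.symm (Ideal.Quotient.mk J (φ s * x)) = 0
  rw [hx, map_zero]

/-- Two orthogonal branches of a node generate the maximal ideal. -/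
theorem maximalIdeal_le_sup (hm : (maximalIdeal B).map (algebraMap B (FormalNode K)) = maximalIdeal (FormalNode K))
    {I J : Ideal B} (hIJ : I * J = ⊥) (hI : I ≤ maximalIdeal B) (hJ : J ≤ maximalIdeal B) (hI0 : I ≠ ⊥) (hJ0 : J ≠ ⊥)
    {s : B} (hs : s ∈ maximalIdeal B) (hsI : ∀ x, s * x ∈ I → x ∈ I) (hsJ : ∀ x, s * x ∈ J → x ∈ J) :
    maximalIdeal B ≤ I ⊔ J := by
  haveI : Module.FaithfullyFlat B (FormalNode K) := Module.FaithfullyFlat.of_flat_of_isLocalHom
  have hz : ∀ {I : Ideal B}, I ≠ ⊥ → I.map (algebraMap B (FormalNode K)) ≠ ⊥ := fun h0 h =>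
    h0 ((Ideal.map_eq_bot_iff_of_injective (FaithfulSMul.algebraMap_injective B (FormalNode K))).mp h)
  have ht : ∀ {I : Ideal B}, I ≤ maximalIdeal B → I.map (algebraMap B (FormalNode K)) ≠ ⊤ := fun h1 h =>
    (maximalIdeal.isMaximal (FormalNode K)).ne_top (top_le_iff.mp (h ▸ (Ideal.map_mono h1).trans hm.le))
  have hsN : algebraMap B (FormalNode K) s ∈ maximalIdeal _ := hm ▸ Ideal.mem_map_of_mem _ hs
  obtain ⟨i, hi⟩ := node_quotient _ (hz hI0) (ht hI) hsN (mem_map_of_mul_mem I hsI)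
  obtain ⟨j, hj⟩ := node_quotient _ (hz hJ0) (ht hJ) hsN (mem_map_of_mul_mem J hsJ)
  have hij : i ≠ j := fun h => by
    have h1 := congrArg (Ideal.map (algebraMap B (FormalNode K))) hIJ
    rw [Ideal.map_mul, hi, hj, ← h, Ideal.map_bot, Ideal.span_singleton_mul_span_singleton,
      Ideal.span_singleton_eq_bot] at h1
    have h2 := congrArg (nodeAxis (K := K) i) h1
    rw [map_mul, nodeAxis_gen, map_zero] at h2
    exact mul_ne_zero PowerSeries.X_ne_zero PowerSeries.X_ne_zero h2
  rw [← Ideal.comap_map_eq_self_of_faithfullyFlat (B := FormalNode K) (I ⊔ J), ← Ideal.map_le_iff_le_comap, hm,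
    Ideal.map_sup, hi, hj, maximalIdeal_formalNode, Ideal.span_le]
  rintro _ (rfl | rfl)
  · rcases (show i = 0 ∨ j = 0 by omega) with rfl | rfl
    · exact Submodule.mem_sup_left (Ideal.subset_span rfl)
    · exact Submodule.mem_sup_right (Ideal.subset_span rfl)
  · rcases (show i = 1 ∨ j = 1 by omega) with rfl | rfl
    · exact Submodule.mem_sup_left (Ideal.subset_span rfl)
    · exact Submodule.mem_sup_right (Ideal.subset_span rfl)

end Algebra

variable {X : Scheme.{u}}

/-- The stalk of an ideal sheaf inside the local ring. -/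
abbrev stalkId (I : X.IdealSheafData) (x : X) : Ideal (X.presheaf.stalk x) := LinearMap.range (idealStalk I x)

theorem stalkId_eq (I : X.IdealSheafData) {U : X.affineOpens} {x : X} (hx : x ∈ U.1) :
    stalkId I x = Ideal.map (X.presheaf.germ U.1 x hx).hom (I.ideal U) :=
  Groth.Agent.Omega.GrStalk.range_idealStalk_affine I U x hx

/-- The inclusion of ideal modules. -/
def leHom {I J : X.IdealSheafData} (h : I ≤ J) : ClSub.idealMod I ⟶ ClSub.idealMod J :=
  kernel.lift (ClSub.toSubscheme J) (ClSub.idealModι I) (by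
    ext U s
    show J.subschemeι.app U (idealSect I U s) = 0
    refine TopCat.Sheaf.eq_of_locally_eq' J.subscheme.sheaf
      (fun W : {W : X.affineOpens // W.1 ≤ U} => J.subschemeι ⁻¹ᵁ W.1.1) (J.subschemeι ⁻¹ᵁ U)
      (fun W => homOfLE (J.subschemeι.preimage_mono W.2)) (fun y hy => ?_) _ _ fun W => ?_
    · obtain ⟨_, ⟨W, hW, rfl⟩, hyW, hWU⟩ :=
        X.isBasis_affineOpens.exists_subset_of_mem_open (show J.subschemeι y ∈ U from hy) U.isOpen
      exact Opens.mem_iSup.mpr ⟨⟨⟨W, hW⟩, hWU⟩, hyW⟩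
    · have hnat : J.subschemeι.app W.1.1 (X.presheaf.map (homOfLE W.2).op (idealSect I U s)) =
          J.subscheme.presheaf.map (homOfLE (J.subschemeι.preimage_mono W.2)).op
            (J.subschemeι.app U (idealSect I U s)) :=
        congr($(J.subschemeι.naturality (homOfLE W.2).op) (idealSect I U s))
      refine (hnat.symm.trans ?_).trans (map_zero _).symm
      rw [← idealSect_map]
      exact (Groth.Agent.IdealSh.IdealMod.mem_ideal_iff J W.1 _).mp (h W.1 (Groth.Agent.IdealSh.IdealMod.sect_mem I W.1 _)))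

theorem leHom_ι {I J : X.IdealSheafData} (h : I ≤ J) : leHom h ≫ ClSub.idealModι J = ClSub.idealModι I :=
  kernel.lift_ι _ _ _

theorem idealStalk_leHom {I J : X.IdealSheafData} (h : I ≤ J) (x : X) (t : (ClSub.idealMod I).presheaf.stalk x) :
    idealStalk J x (stalkLin (leHom h) x t) = idealStalk I x t := by
  obtain ⟨U, hx, s, rfl⟩ := exists_germM_eq _ x t
  rw [stalkLin_germ, idealStalk_germ, idealStalk_germ]
  exact congrArg (X.presheaf.germ U x hx) (congrArg (fun φ => Scheme.Modules.Hom.app φ U s) (leHom_ι h))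

theorem stalkId_mono {I J : X.IdealSheafData} (h : I ≤ J) (x : X) : stalkId I x ≤ stalkId J x := by
  rintro _ ⟨t, rfl⟩
  exact ⟨_, idealStalk_leHom h x t⟩

/-- The stalks of orthogonal ideals. -/
theorem stalkId_mul {I J : X.IdealSheafData} (h : I ⊓ J = ⊥) (x : X) : stalkId I x * stalkId J x = ⊥ := by
  obtain ⟨U, hU, hx, -⟩ := exists_isAffineOpen_mem_and_subset (X := X) (Opens.mem_top x)
  rw [stalkId_eq I (U := ⟨U, hU⟩) hx, stalkId_eq J (U := ⟨U, hU⟩) hx, ← Ideal.map_mul, eq_bot_iff]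
  refine (Ideal.map_mono (Ideal.mul_le_inf)).trans ?_
  rw [show I.ideal ⟨U, hU⟩ ⊓ J.ideal ⟨U, hU⟩ = (I ⊓ J).ideal ⟨U, hU⟩ from rfl, h, Scheme.IdealSheafData.ideal_bot,
    Pi.bot_apply, Ideal.map_bot]

theorem stalkId_eq_top {Z : Closeds X} {x : X} (hx : x ∉ Z) :
    stalkId (Scheme.IdealSheafData.vanishingIdeal Z) x = ⊤ := by
  obtain ⟨U, hU, hxU, hUZ⟩ := exists_isAffineOpen_mem_and_subset (X := X)
    (U := ⟨(Z : Set X)ᶜ, Z.isClosed.isOpen_compl⟩) hx
  rw [stalkId_eq _ (U := ⟨U, hU⟩) hxU, Scheme.IdealSheafData.vanishingIdeal_ideal]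
  have : hU.fromSpec ⁻¹' (Z : Set X) = ∅ := Set.eq_empty_iff_forall_notMem.mpr fun q hq => by
    have h2 : hU.fromSpec q ∈ (U : Set X) := hU.range_fromSpec.le (Set.mem_range_self q)
    exact hUZ h2 hq
  refine Eq.trans (congrArg _ ?_) (Ideal.map_top _)
  exact (congrArg PrimeSpectrum.vanishingIdeal this).trans PrimeSpectrum.vanishingIdeal_empty

theorem stalkId_le_maximalIdeal {Z : Closeds X} {x : X} (hx : x ∈ Z) :
    stalkId (Scheme.IdealSheafData.vanishingIdeal Z) x ≤ maximalIdeal _ := by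
  obtain ⟨U, hU, hxU, -⟩ := exists_isAffineOpen_mem_and_subset (X := X) (Opens.mem_top x)
  rw [stalkId_eq _ (U := ⟨U, hU⟩) hxU, Ideal.map_le_iff_le_comap]
  intro f hf
  have hx' : x ∈ (Scheme.IdealSheafData.vanishingIdeal Z).support := hx
  rw [Scheme.IdealSheafData.mem_support_iff_of_mem (U := ⟨U, hU⟩) hxU, X.mem_zeroLocus_iff] at hx'
  rw [Ideal.mem_comap, mem_maximalIdeal, mem_nonunits_iff, ← X.mem_basicOpen _ _ hxU]
  exact hx' f hf

variable [IsLocallyNoetherian X]

/-- The stalk of the ideal of `closure A` is saturated. -/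
theorem mem_stalkId_of_mul {A : X.Opens} {ZB : Closeds X} (hAB : Disjoint (A : Set X) ZB) {P : X}
    (c : X.presheaf.stalk P) (hc : ∀ d ∈ stalkId (Scheme.IdealSheafData.vanishingIdeal ZB) P, c * d = 0) :
    c ∈ stalkId (Scheme.IdealSheafData.vanishingIdeal ⟨closure (A : Set X), isClosed_closure⟩) P := by
  classical
  obtain ⟨U, hU, hP, -⟩ := exists_isAffineOpen_mem_and_subset (X := X) (Opens.mem_top P)
  haveI : IsNoetherianRing Γ(X, U) := IsLocallyNoetherian.component_noetherian ⟨U, hU⟩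
  letI := X.presheaf.algebra_section_stalk ⟨P, hP⟩
  haveI := hU.isLocalization_stalk ⟨P, hP⟩
  let IB := (Scheme.IdealSheafData.vanishingIdeal ZB).ideal ⟨U, hU⟩
  obtain ⟨⟨g, w⟩, hg⟩ := IsLocalization.surj (hU.primeIdealOf ⟨P, hP⟩).asIdeal.primeCompl c
  obtain ⟨S, hS⟩ := IsNoetherian.noetherian IB
  have hk : ∀ f ∈ S, ∃ v : (hU.primeIdealOf ⟨P, hP⟩).asIdeal.primeCompl, (v : Γ(X, U)) * (g * f) = 0 := fun f hf => by
    have h1 : algebraMap Γ(X, U) (X.presheaf.stalk P) (g * f) = algebraMap Γ(X, U) (X.presheaf.stalk P) 0 := by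
      rw [map_mul, map_zero, ← hg, mul_assoc, mul_comm (algebraMap _ _ (w : Γ(X, U))), ← mul_assoc,
        hc _ (by rw [stalkId_eq _ (U := ⟨U, hU⟩) hP]; exact Ideal.mem_map_of_mem _ (hS.le (Ideal.subset_span hf))),
        zero_mul]
    obtain ⟨v, hv⟩ := (IsLocalization.eq_iff_exists (hU.primeIdealOf ⟨P, hP⟩).asIdeal.primeCompl _).mp h1
    exact ⟨v, hv.trans (mul_zero _)⟩
  choose v hv using hk
  let V := ∏ f ∈ S.attach, v f.1 f.2
  have hV : ∀ f ∈ IB, ((V : Γ(X, U)) * g) * f = 0 := by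
    intro f hf
    rw [← hS] at hf
    induction hf using Submodule.span_induction with
    | mem f hf =>
      obtain ⟨r, hr⟩ := Finset.dvd_prod_of_mem (fun f : {x // x ∈ S} => v f.1 f.2) (S.mem_attach ⟨f, hf⟩)
      show ((V : Γ(X, U)) * g) * f = 0
      rw [show V = v f hf * r from hr, Submonoid.coe_mul, show ((v f hf : Γ(X, U)) * r * g) * f =
        r * ((v f hf : Γ(X, U)) * (g * f)) by ring, hv f hf, mul_zero]
    | zero => rw [mul_zero]
    | add a b _ _ ha hb => rw [mul_add, ha, hb, add_zero]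
    | smul r a _ ha => rw [smul_eq_mul, mul_left_comm, ha, mul_zero]
  have hmem : (V : Γ(X, U)) * g ∈
      (Scheme.IdealSheafData.vanishingIdeal ⟨closure (A : Set X), isClosed_closure⟩).ideal ⟨U, hU⟩ := by
    rw [Scheme.IdealSheafData.vanishingIdeal_ideal, PrimeSpectrum.mem_vanishingIdeal]
    intro q hq
    by_contra hgq
    have hqb : hU.fromSpec q ∈ X.basicOpen ((V : Γ(X, U)) * g) := by
      rw [← Scheme.Hom.mem_preimage, hU.fromSpec_preimage_basicOpen]
      exact hgq
    obtain ⟨z, hzb, hzA⟩ := mem_closure_iff.mp hq _ (X.basicOpen _).isOpen hqb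
    have hzU : z ∈ U := X.basicOpen_le _ hzb
    have hzB : z ∉ (Scheme.IdealSheafData.vanishingIdeal ZB).support := Set.disjoint_left.mp hAB hzA
    rw [Scheme.IdealSheafData.mem_support_iff_of_mem (U := ⟨U, hU⟩) hzU, X.mem_zeroLocus_iff] at hzB
    push Not at hzB
    obtain ⟨f, hf, hfz⟩ := hzB
    have hb : z ∈ X.basicOpen ((V : Γ(X, U)) * g * f) := by
      rw [X.basicOpen_mul]; exact ⟨hzb, hfz⟩
    rw [hV f hf, X.basicOpen_zero] at hb
    exact hb
  rw [stalkId_eq _ (U := ⟨U, hU⟩) hP]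
  have h2 := Ideal.mem_map_of_mem (algebraMap Γ(X, U) (X.presheaf.stalk P)) hmem
  rw [map_mul, ← hg, ← mul_assoc, mul_comm _ c, mul_assoc] at h2
  exact ((IsLocalization.map_units (X.presheaf.stalk P) V).mul (IsLocalization.map_units (X.presheaf.stalk P) w))
    |> fun hu => (Ideal.mul_unit_mem_iff_mem _ hu).mp h2

end Groth.Agent.NodalLib

end
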