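import Groth.Agent.HilbPolyX.Sheaf
import Groth.Agent.EulerChar.Push
import Groth.Agent.CohDev.Coh
import Groth.Agent.ProperFin.Supp
import Groth.Agent.ProperFin.Projective
import Groth.Agent.AmpCrit.RelVan
import Groth.Agent.TwistFlat.Projection
import Groth.Agent.Omega.ProdDiff
import Groth.Agent.HomShQC.Stalk
import Mathlib.AlgebraicGeometry.Morphisms.ClosedImmersion

/-!
# Decomposition of modules along clopen subsets
-/

set_option autoImplicit false
set_option linter.style.haveILetI false

universe u

open CategoryTheory Limits AlgebraicGeometry Opposite TopologicalSpace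
open Groth.Agent.PullStalk.Sky Groth.Agent.PullStalk.Exact
open Groth.Agent.Omega.Stalks

noncomputable section

namespace Groth.Agent.NodalLib

variable {X : Scheme.{u}}

/-- The part of a module supported on an open and closed set. -/
abbrev part (U : X.Opens) (M : X.Modules) : X.Modules :=
  (Scheme.Modules.pushforward U.ι).obj (M.restrict U.ι)

/-- Functoriality of the part. -/
abbrev partMap (U : X.Opens) {M N : X.Modules} (φ : M ⟶ N) : part U M ⟶ part U N :=
  (Scheme.Modules.pushforward U.ι).map ((Scheme.Modules.restrictFunctor U.ι).map φ)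

/-- The projection to the part. -/
abbrev toPart (U : X.Opens) (M : X.Modules) : M ⟶ part U M :=
  (Scheme.Modules.restrictAdjunction U.ι).unit.app M

theorem toPart_natural (U : X.Opens) {M N : X.Modules} (φ : M ⟶ N) :
    φ ≫ toPart U N = toPart U M ≫ partMap U φ :=
  (Scheme.Modules.restrictAdjunction U.ι).unit.naturality φ

theorem isClosedImmersion_ι {U : X.Opens} (hU : IsClosed (U : Set X)) : IsClosedImmersion U.ι :=
  IsClosedImmersion.of_isPreimmersion _ (by rw [Scheme.Opens.range_ι]; exact hU)

theorem bijective_toPart_app {U W : X.Opens} (M : X.Modules) (hW : W ≤ U) :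
    Function.Bijective ((toPart U M).app W) := by
  rw [Scheme.Modules.restrictAdjunction_unit_app_app]
  have e : U.ι ''ᵁ U.ι ⁻¹ᵁ W = W := by
    rw [Scheme.Hom.image_preimage_eq_opensRange_inf, Scheme.Opens.opensRange_ι]
    exact inf_eq_right.mpr hW
  haveI : IsIso (homOfLE (U.ι.image_preimage_le W)) := ⟨homOfLE e.ge, Subsingleton.elim _ _, Subsingleton.elim _ _⟩
  haveI : IsIso (M.presheaf.map (homOfLE (U.ι.image_preimage_le W)).op) :=
    Functor.map_isIso M.presheaf (homOfLE (U.ι.image_preimage_le W)).op
  exact ConcreteCategory.bijective_of_isIso (M.presheaf.map (homOfLE (U.ι.image_preimage_le W)).op)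

theorem bijective_stalk_toPart {U : X.Opens} (M : X.Modules) {x : X} (hx : x ∈ U) :
    Function.Bijective (stalkLin (toPart U M) x) := by
  refine ⟨(injective_iff_map_eq_zero _).mpr fun t ht => ?_, fun t => ?_⟩
  · obtain ⟨W, hW, m, rfl⟩ := exists_germM_eq M x t
    rw [stalkLin_germ] at ht
    obtain ⟨W', hW', i₁, i₂, e⟩ := (part U M).presheaf.germ_eq x hW hW _ 0 (ht.trans (map_zero _).symm)
    have hle : W' ⊓ U ≤ W := inf_le_left.trans i₁.le
    have h0 : (toPart U M).app (W' ⊓ U) (M.presheaf.map (homOfLE hle).op m) = 0 := by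
      have h1 := ConcreteCategory.congr_hom ((toPart U M).mapPresheaf.naturality (homOfLE hle).op) m
      refine h1.trans ?_
      have h2 : homOfLE hle = homOfLE (inf_le_left : W' ⊓ U ≤ W') ≫ i₁ := Subsingleton.elim _ _
      rw [h2, op_comp, Functor.map_comp]
      refine (congrArg ((part U M).presheaf.map (homOfLE (inf_le_left : W' ⊓ U ≤ W')).op)
        (e.trans (map_zero _))).trans (map_zero _)
    have h3 := (bijective_toPart_app M inf_le_right).1 (h0.trans (map_zero _).symm)
    refine (M.presheaf.germ_res_apply (homOfLE hle) x (⟨hW', hx⟩ : x ∈ W' ⊓ U) m).symm.trans ?_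
    exact (congrArg (M.presheaf.germ (W' ⊓ U) x ⟨hW', hx⟩) h3).trans (map_zero _)
  · obtain ⟨W, hW, m, rfl⟩ := exists_germM_eq (part U M) x t
    obtain ⟨m', hm'⟩ := (bijective_toPart_app M (inf_le_right : W ⊓ U ≤ U)).2
      ((part U M).presheaf.map (homOfLE (inf_le_left : W ⊓ U ≤ W)).op m)
    refine ⟨germM M (W ⊓ U) x (⟨hW, hx⟩ : x ∈ W ⊓ U) m', ?_⟩
    refine (stalkLin_germ _ _ x _ m').trans ?_
    exact (congrArg (germM (part U M) (W ⊓ U) x (⟨hW, hx⟩ : x ∈ W ⊓ U)) hm').trans
      ((part U M).presheaf.germ_res_apply _ x (⟨hW, hx⟩ : x ∈ W ⊓ U) m)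

theorem subsingleton_stalk_part {U : X.Opens} (hU : IsClosed (U : Set X)) (M : X.Modules) {x : X} (hx : x ∉ U) :
    Subsingleton ((part U M).presheaf.stalk x) := by
  haveI := isClosedImmersion_ι hU
  by_contra h
  obtain ⟨z, -, hz⟩ := ProperFin.support_push_subset U.ι (M.restrict U.ι) (show x ∈ CohB1.support (part U M) from h)
  exact hx (hz ▸ z.2)

theorem isCoh_part [IsLocallyNoetherian X] {U : X.Opens} (hU : IsClosed (U : Set X)) {M : X.Modules}
    (hM : Coh.IsCoh M) : Coh.IsCoh (part U M) := by
  haveI := isClosedImmersion_ι hU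
  exact ProperFin.isCoh_push_of_isFinite _ _ (ProperFin.isCoh_restrict U.ι hM)

/-- Passing to a smaller part. -/
theorem isIso_partMap_toPart {A C : X.Opens} (hA : IsClosed (A : Set X)) (hAC : A ≤ C) (M : X.Modules) :
    IsIso (partMap A (toPart C M)) := by
  refine (HomShQC.isIso_iff_bijective_stalk _).mpr fun x => ?_
  by_cases hx : x ∈ A
  · show Function.Bijective (stalkLin (partMap A (toPart C M)) x)
    have h : Function.Bijective (stalkLin (partMap A (toPart C M)) x ∘ stalkLin (toPart A M) x) := by
      have e : stalkLin (partMap A (toPart C M)) x ∘ stalkLin (toPart A M) x =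
          stalkLin (toPart A (part C M)) x ∘ stalkLin (toPart C M) x := funext fun t => by
        simp only [Function.comp_apply]
        rw [← stalkLin_comp, ← stalkLin_comp, ← toPart_natural]
      rw [e]
      exact (bijective_stalk_toPart _ hx).comp (bijective_stalk_toPart _ (hAC hx))
    exact (Function.Bijective.of_comp_iff _ (bijective_stalk_toPart _ hx)).mp h
  · haveI := subsingleton_stalk_part hA M hx
    haveI := subsingleton_stalk_part hA (part C M) hx
    exact ⟨fun a b _ => Subsingleton.elim _ _, fun b => ⟨0, Subsingleton.elim _ _⟩⟩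

variable {A B : X.Opens}

/-- Two complementary parts. -/
theorem isIso_lift_toPart (hA : IsClosed (A : Set X)) (hB : IsClosed (B : Set X)) (hAB : Disjoint (A : Set X) B)
    (M : X.Modules) (hM : ∀ x, x ∉ A → x ∉ B → Subsingleton (M.presheaf.stalk x)) :
    IsIso (biprod.lift (toPart A M) (toPart B M)) := by
  refine (HomShQC.isIso_iff_bijective_stalk _).mpr fun x => ?_
  set Φ := biprod.lift (toPart A M) (toPart B M)
  have hf : ∀ t, stalkLin biprod.fst x (stalkLin Φ x t) = stalkLin (toPart A M) x t := fun t => by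
    rw [← stalkLin_comp, biprod.lift_fst]
  have hs : ∀ t, stalkLin biprod.snd x (stalkLin Φ x t) = stalkLin (toPart B M) x t := fun t => by
    rw [← stalkLin_comp, biprod.lift_snd]
  have hext : ∀ v v' : (part A M ⊞ part B M).presheaf.stalk x, stalkLin biprod.fst x v = stalkLin biprod.fst x v' →
      stalkLin biprod.snd x v = stalkLin biprod.snd x v' → v = v' := by
    intro v v' h1 h2
    have hd : ∀ w : (part A M ⊞ part B M).presheaf.stalk x, w = stalkLin biprod.inl x (stalkLin biprod.fst x w) +
        stalkLin biprod.inr x (stalkLin biprod.snd x w) := fun w => by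
      conv_lhs => rw [← Omega.ProdDiff.stalkLin_id x w, ← biprod.total]
      rw [Omega.ProdDiff.stalkLin_add, stalkLin_comp, stalkLin_comp]
    rw [hd v, hd v', h1, h2]
  show Function.Bijective (stalkLin Φ x)
  by_cases hxA : x ∈ A
  · have hxB : x ∉ B := Set.disjoint_left.mp hAB hxA
    haveI := subsingleton_stalk_part hB M hxB
    refine ⟨fun a b h => (bijective_stalk_toPart M hxA).1 (by rw [← hf, ← hf, h]), fun v => ?_⟩
    obtain ⟨t, ht⟩ := (bijective_stalk_toPart M hxA).2 (stalkLin biprod.fst x v)
    exact ⟨t, hext _ _ ((hf t).trans ht) (Subsingleton.elim _ _)⟩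
  · haveI := subsingleton_stalk_part hA M hxA
    by_cases hxB : x ∈ B
    · refine ⟨fun a b h => (bijective_stalk_toPart M hxB).1 (by rw [← hs, ← hs, h]), fun v => ?_⟩
      obtain ⟨t, ht⟩ := (bijective_stalk_toPart M hxB).2 (stalkLin biprod.snd x v)
      exact ⟨t, hext _ _ (Subsingleton.elim _ _) ((hs t).trans ht)⟩
    · haveI := subsingleton_stalk_part hB M hxB
      haveI := hM x hxA hxB
      exact ⟨fun a b _ => Subsingleton.elim _ _, fun v => ⟨0, hext _ _ (Subsingleton.elim _ _) (Subsingleton.elim _ _)⟩⟩

end Groth.Agent.NodalLib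

end
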