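import Groth.Agent.NodalLib.ClopenDecomp
import Groth.Agent.HilbPolyX.Order
import Groth.Agent.CurveCoh.Integral
import Groth.Agent.TwistFlat.RankStrata
import Groth.Agent.KFlat.LocFree
import Groth.Agent.EulerChar.AmpleCurve
import Groth.Agent.EulerChar.Deg
import Groth.Agent.Props.QRank
import Groth.Agent.PerfTri.Betti
import Mathlib.Topology.NoetherianSpace

/-!
# Euler characteristics and semistability along connected components
-/

set_option autoImplicit false
set_option linter.style.haveILetI false

universe u

open CategoryTheory Limits AlgebraicGeometry Opposite TopologicalSpace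
open Groth.Agent.PullStalk.Sky Groth.Agent.PullStalk.Exact
open StabCat Groth.Agent.HilbPolyX

noncomputable section

namespace Groth.Agent.NodalLib

variable {X : Scheme.{u}}

theorem discrete_components (T : Type*) [TopologicalSpace T] [NoetherianSpace T] :
    DiscreteTopology (ConnectedComponents T) := by
  have : Finite (irreducibleComponents T) := NoetherianSpace.finite_irreducibleComponents.to_subtype
  have : Finite (ConnectedComponents T) := by
    refine Finite.of_surjective (fun Z : irreducibleComponents T => ConnectedComponents.mk Z.2.1.nonempty.some) ?_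
    intro c
    obtain ⟨x, rfl⟩ := ConnectedComponents.surjective_coe c
    refine ⟨⟨irreducibleComponent x, irreducibleComponent_mem_irreducibleComponents x⟩, ?_⟩
    refine ConnectedComponents.coe_eq_coe'.2 ?_
    exact isIrreducible_irreducibleComponent.isConnected.isPreconnected.subset_connectedComponent
      mem_irreducibleComponent (Set.Nonempty.some_mem _)
  have : T1Space (ConnectedComponents T) := ⟨fun c => by
    obtain ⟨x, rfl⟩ := ConnectedComponents.surjective_coe c
    rw [← ConnectedComponents.isQuotientMap_coe.isClosed_preimage, connectedComponents_preimage_singleton]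
    exact isClosed_connectedComponent⟩
  infer_instance

theorem finite_components (T : Type*) [TopologicalSpace T] [NoetherianSpace T] :
    Finite (ConnectedComponents T) := by
  have : Finite (irreducibleComponents T) := NoetherianSpace.finite_irreducibleComponents.to_subtype
  refine Finite.of_surjective (fun Z : irreducibleComponents T => ConnectedComponents.mk Z.2.1.nonempty.some) fun c => ?_
  obtain ⟨x, rfl⟩ := ConnectedComponents.surjective_coe c
  refine ⟨⟨irreducibleComponent x, irreducibleComponent_mem_irreducibleComponents x⟩, ?_⟩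
  refine ConnectedComponents.coe_eq_coe'.2 ?_
  exact isIrreducible_irreducibleComponent.isConnected.isPreconnected.subset_connectedComponent
    mem_irreducibleComponent (Set.Nonempty.some_mem _)

variable [AlgebraicGeometry.IsNoetherian X]

/-- A connected component as an open. -/
def comp (c : _root_.ConnectedComponents X) : X.Opens :=
  haveI := discrete_components X
  ⟨(ConnectedComponents.mk : X → _root_.ConnectedComponents X) ⁻¹' {c}, (isOpen_discrete {c}).preimage ConnectedComponents.continuous_coe⟩

theorem mem_comp {c : _root_.ConnectedComponents X} {x : X} : x ∈ comp c ↔ ConnectedComponents.mk x = c := Iff.rfl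

theorem isClosed_comp (c : _root_.ConnectedComponents X) : IsClosed (comp c : Set X) :=
  haveI := discrete_components X
  (isClosed_discrete {c}).preimage ConnectedComponents.continuous_coe

theorem isConnected_comp (c : _root_.ConnectedComponents X) : _root_.IsConnected (comp c : Set X) := by
  obtain ⟨x, rfl⟩ := ConnectedComponents.surjective_coe c
  show _root_.IsConnected ((ConnectedComponents.mk : X → _root_.ConnectedComponents X) ⁻¹' {ConnectedComponents.mk x})
  rw [connectedComponents_preimage_singleton]
  exact isConnected_connectedComponent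

theorem eq_comp {U : X.Opens} (hU : IsClopen (U : Set X)) (hc : _root_.IsConnected (U : Set X)) :
    ∃ c, U = comp c := by
  obtain ⟨x, hx⟩ := hc.nonempty
  refine ⟨ConnectedComponents.mk x, Opens.ext ?_⟩
  show (U : Set X) = (ConnectedComponents.mk : X → _root_.ConnectedComponents X) ⁻¹' {ConnectedComponents.mk x}
  rw [connectedComponents_preimage_singleton]
  exact Set.Subset.antisymm (hc.isPreconnected.subset_connectedComponent hx) (hU.connectedComponent_subset hx)

/-- An additive invariant is the sum over a partition. -/
theorem additive_eq_sum {ι G : Type*} [AddCommGroup G] (U : ι → X.Opens) (hU : ∀ i, IsClosed (U i : Set X))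
    (hd : ∀ i j, i ≠ j → Disjoint (U i : Set X) (U j)) (φ : X.Modules → G)
    (hiso : ∀ A B : X.Modules, (A ≅ B) → φ A = φ B) (hzero : ∀ A : X.Modules, IsZero A → φ A = 0)
    (hadd : ∀ A B : X.Modules, Coh.IsCoh A → Coh.IsCoh B → φ (A ⊞ B) = φ A + φ B) :
    ∀ (s : Finset ι) (M : X.Modules), Coh.IsCoh M →
      (∀ x, (∀ i ∈ s, x ∉ U i) → Subsingleton (M.presheaf.stalk x)) → φ M = ∑ i ∈ s, φ (part (U i) M) := by
  classical
  intro s
  induction s using Finset.induction with
  | empty =>
    intro M hM h
    rw [Finset.sum_empty, hzero M (CohDev.isZero_of_support_eq_empty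
      (Set.eq_empty_iff_forall_notMem.mpr fun x hx => hx (h x (by simp))))]
  | @insert a s ha ih =>
    intro M hM h
    let B : X.Opens := ⟨⋃ i ∈ s, (U i : Set X), isOpen_biUnion fun i _ => (U i).2⟩
    have hB : IsClosed (B : Set X) := isClosed_biUnion_finset fun i _ => hU i
    have hdB : Disjoint (U a : Set X) (B : Set X) :=
      Set.disjoint_iUnion₂_right.mpr fun i hi => hd a i fun e => ha (e ▸ hi)
    haveI := isIso_lift_toPart (hU a) hB hdB M fun x hxa hxB => h x fun i hi => by
      rcases Finset.mem_insert.mp hi with rfl | hi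
      · exact hxa
      · exact fun hx => hxB (Set.mem_biUnion hi hx)
    rw [hiso _ _ (asIso (biprod.lift (toPart (U a) M) (toPart B M))),
      hadd _ _ (isCoh_part (hU a) hM) (isCoh_part hB hM), Finset.sum_insert ha,
      ih (part B M) (isCoh_part hB hM) (fun x hx => subsingleton_stalk_part hB M fun hxB => by
        obtain ⟨i, hi, hxi⟩ := Set.mem_iUnion₂.mp hxB
        exact hx i hi hxi)]
    refine congrArg (φ (part (U a) M) + ·) (Finset.sum_congr rfl fun i hi => ?_)
    haveI := isIso_partMap_toPart (hU i) (show U i ≤ B from fun x hx => Set.mem_biUnion hi hx) M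
    exact (hiso _ _ (asIso (partMap (U i) (toPart B M)))).symm

variable (k : Type u) [Field k] [X.Over (Spec (CommRingCat.of k))] [IsProper (X ↘ Spec (CommRingCat.of k))]

omit [AlgebraicGeometry.IsNoetherian X] in
theorem euler_biprod {A B : X.Modules} (hA : Coh.IsCoh A) (hB : Coh.IsCoh B) :
    Curv2.euler k X (A ⊞ B) = Curv2.euler k X A + Curv2.euler k X B := by
  haveI := EulerChar.isLocallyNoetherian k (X := X)
  have hS : (ShortComplex.mk (biprod.inl : A ⟶ A ⊞ B) (biprod.snd : A ⊞ B ⟶ B) biprod.inl_snd).ShortExact :=
    (ShortComplex.Splitting.ofHasBinaryBiproduct A B).shortExact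
  have hAB : Coh.IsCoh (A ⊞ B) := CohDev.isCoh_biprod hA hB
  have e := EulerChar.euler_add k (S := ShortComplex.mk (biprod.inl : A ⟶ A ⊞ B) (biprod.snd : A ⊞ B ⟶ B) biprod.inl_snd)
    hS hA hAB hB
  exact e

/-- The Euler characteristic is the sum over the connected components. -/
theorem euler_eq_sum_comp [Fintype (_root_.ConnectedComponents X)] {M : X.Modules} (hM : Coh.IsCoh M) :
    Curv2.euler k X M = ∑ c, Curv2.euler k X (part (comp c) M) :=
  additive_eq_sum comp isClosed_comp
    (fun c d hcd => Set.disjoint_left.mpr fun x hc hd' => hcd ((mem_comp.mp hc).symm.trans (mem_comp.mp hd')))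
    (fun A => Curv2.euler k X A) (fun _ _ e => EulerChar.euler_iso k e) (fun _ h => EulerChar.euler_of_isZero k h)
    (fun _ _ hA hB => euler_biprod k hA hB) Finset.univ M hM fun x hx =>
      absurd (mem_comp.mpr rfl) (hx (ConnectedComponents.mk x) (Finset.mem_univ _))

section Part

variable (U : X.Opens)

omit [AlgebraicGeometry.IsNoetherian X] in
/-- The Euler characteristic of a part is computed on the open. -/
theorem euler_part (hU : IsClosed (U : Set X)) {M : X.Modules} (hM : Coh.IsQCoh M) :
    letI : (U : Scheme.{u}).Over (Spec (CommRingCat.of k)) := ⟨U.ι ≫ (X ↘ Spec (CommRingCat.of k))⟩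
    Curv2.euler k X (part U M) = Curv2.euler k U (M.restrict U.ι) := by
  letI : (U : Scheme.{u}).Over (Spec (CommRingCat.of k)) := ⟨U.ι ≫ (X ↘ Spec (CommRingCat.of k))⟩
  haveI := isClosedImmersion_ι hU
  haveI : M.IsQuasicoherent := hM
  exact EulerChar.euler_push U.ι rfl _ (inferInstanceAs ((Scheme.Modules.restrictFunctor U.ι).obj M).IsQuasicoherent)

omit [AlgebraicGeometry.IsNoetherian X] in
/-- Twisting a part by an invertible module. -/
theorem euler_part_tens (hU : IsClosed (U : Set X)) {M L : X.Modules} (hM : Coh.IsQCoh M) (hL : PicF.IsInvertible L) :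
    Curv2.euler k X (CohB1.tensorMod (part U M) L) = Curv2.euler k X (part U (CohB1.tensorMod M L)) := by
  haveI := isClosedImmersion_ι hU
  haveI : M.IsQuasicoherent := hM
  exact EulerChar.euler_iso k (TwistFlat.projIso U.ι (M.restrict U.ι) L hL ≪≫
    (Scheme.Modules.pushforward U.ι).mapIso (ProjTwist.tensCongr (Iso.refl _)
      ((Scheme.Modules.restrictFunctorIsoPullback U.ι).app L).symm ≪≫ (AmpCrit.RelVan.restrictTensIso U.ι M L).symm))

omit [AlgebraicGeometry.IsNoetherian X] in
/-- A connected open and closed part of a smooth proper scheme is integral. -/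
theorem isIntegral_part [Smooth (X ↘ Spec (CommRingCat.of k))] (hU : IsClosed (U : Set X))
    (hc : _root_.IsConnected (U : Set X)) : IsIntegral (U : Scheme.{u}) := by
  letI : (U : Scheme.{u}).Over (Spec (CommRingCat.of k)) := ⟨U.ι ≫ (X ↘ Spec (CommRingCat.of k))⟩
  haveI := isClosedImmersion_ι hU
  haveI : IsProper ((U : Scheme.{u}) ↘ Spec (CommRingCat.of k)) :=
    inferInstanceAs (IsProper (U.ι ≫ (X ↘ Spec (CommRingCat.of k))))
  haveI : Smooth ((U : Scheme.{u}) ↘ Spec (CommRingCat.of k)) :=
    inferInstanceAs (Smooth (U.ι ≫ (X ↘ Spec (CommRingCat.of k))))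
  haveI := EulerChar.isNoetherian k (X := (U : Scheme.{u}))
  haveI : ConnectedSpace (U : Scheme.{u}) := Subtype.connectedSpace hc
  haveI := CurveCoh.irreducibleSpace_of_domain_stalks (U : Scheme.{u}) (CurveCoh.isDomain_stalk k (U : Scheme.{u}))
  haveI : ∀ x : (U : Scheme.{u}), _root_.IsReduced ((U : Scheme.{u}).presheaf.stalk x) := fun x =>
    haveI := CurveCoh.isDomain_stalk k (U : Scheme.{u}) x
    inferInstance
  haveI : IsReduced (U : Scheme.{u}) := isReduced_of_isReduced_stalk _
  exact isIntegral_of_irreducibleSpace_of_isReduced _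

omit [AlgebraicGeometry.IsNoetherian X] in
/-- A connected part of a smooth curve without isolated points is a curve. -/
theorem dim_part [Smooth (X ↘ Spec (CommRingCat.of k))] (hdim : topologicalKrullDim X = 1)
    (hpure : ∀ y : X, ¬ IsOpen ({y} : Set X)) (hU : IsClosed (U : Set X))
    (hc : _root_.IsConnected (U : Set X)) : topologicalKrullDim (U : Scheme.{u}) = 1 := by
  haveI := isIntegral_part k U hU hc
  have hle : topologicalKrullDim (U : Scheme.{u}) ≤ 1 :=
    hdim ▸ Topology.IsInducing.topologicalKrullDim_le U.ι.isOpenEmbedding.isInducing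
  refine le_antisymm hle ?_
  by_contra hlt
  -- a zero-dimensional irreducible space is a point
  have hsub : ∀ a : (U : Scheme.{u}), a = genericPoint (U : Scheme.{u}) := by
    intro a
    by_contra ha
    have hd : IsClosed (closure {a}) := isClosed_closure
    let s₀ : IrreducibleCloseds (U : Scheme.{u}) := ⟨closure {a}, isIrreducible_singleton.closure, hd⟩
    let s₁ : IrreducibleCloseds (U : Scheme.{u}) := ⟨Set.univ, IrreducibleSpace.isIrreducible_univ _, isClosed_univ⟩
    have h01 : s₀ < s₁ := lt_of_le_of_ne (fun _ _ => trivial) fun e => ha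
      (((genericPoint_specializes a).antisymm (specializes_iff_mem_closure.mpr
        ((show (closure {a} : Set (U : Scheme.{u})) = Set.univ from congrArg SetLike.coe e).symm ▸ Set.mem_univ _))).eq.symm)
    exact hlt (Order.LTSeries.length_le_krullDim (((RelSeries.singleton _ s₁).cons s₀ h01)))
  obtain ⟨y, hy⟩ := hc.nonempty
  refine hpure y ?_
  convert U.2 using 1
  ext z
  exact ⟨fun h => h ▸ hy, fun hz => congrArg Subtype.val ((hsub ⟨z, hz⟩).trans (hsub ⟨y, hy⟩).symm)⟩

omit [AlgebraicGeometry.IsNoetherian X] in
/-- A locally free module has constant rank on a connected part. -/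
theorem exists_ofRank_part {E : X.Modules} (hE : FlatMod.IsFinLocFree E) (hc : _root_.IsConnected (U : Set X)) :
    ∃ r, FlatMod.IsFinLocFreeOfRank r (E.restrict U.ι) := by
  have h := KFlat.LocFree.isFinLocFree_restrict hE U
  haveI : (E.restrict U.ι).IsQuasicoherent := PerfTri.Betti.isQuasicoherent_of_isFinLocFree h
  haveI : ConnectedSpace (U : Scheme.{u}) := Subtype.connectedSpace hc
  obtain ⟨y⟩ : Nonempty (U : Scheme.{u}) := inferInstance
  exact ⟨_, TwistFlat.ofRank_of_fibreRank h fun s =>
    (Props.QRank.isLocallyConstant_fibreRank _ h).apply_eq_of_preconnectedSpace s y⟩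

end Part

end Groth.Agent.NodalLib

end
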