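import Groth.Agent.NodalLib.ClopenEuler
import Groth.Agent.VBLib.TwistLine
import Groth.Agent.AmpleLib.Functorial
import Groth.Agent.AmpleFam.Pullback

/-!
# Semistable modules on a disconnected curve
-/

set_option autoImplicit false
set_option linter.style.haveILetI false

universe u

open CategoryTheory Limits AlgebraicGeometry Opposite TopologicalSpace
open Groth.Agent.PullStalk.Sky Groth.Agent.PullStalk.Exact
open StabCat Groth.Agent.HilbPolyX

noncomputable section

namespace Groth.Agent.NodalLib

variable {X : Scheme.{u}} (k : Type u) [Field k] [X.Over (Spec (CommRingCat.of k))]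
  [IsProper (X ↘ Spec (CommRingCat.of k))]

/-- The multiplicity. -/
abbrev mult (L M : X.Modules) : ℤ := Curv2.euler k X (CohB1.tensorMod M L) - Curv2.euler k X M

theorem eval_zero_hilb {L E : X.Modules} {P : Polynomial ℚ} (hP : ShStab.IsHilbPoly k X L E P) :
    P.eval 0 = (Curv2.euler k X E : ℚ) := by
  have e : ShStab.twist X L E 0 ≅ E := ProjTwist.tensOne E
  have h := hP 0
  rw [EulerChar.euler_iso k e] at h
  exact_mod_cast h.symm

theorem eval_one_hilb {L E : X.Modules} {P : Polynomial ℚ} (hP : ShStab.IsHilbPoly k X L E P) :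
    P.eval 1 = (Curv2.euler k X (CohB1.tensorMod E L) : ℚ) := by
  have e : ShStab.twist X L E 1 ≅ CohB1.tensorMod E L := ProjTwist.tensCongr (Iso.refl E) (ProjTwist.oneTens L)
  have h := hP 1
  rw [EulerChar.euler_iso k e] at h
  exact_mod_cast h.symm

theorem natDegree_hilb {L E : X.Modules} (hL : PicF.IsInvertible L) (hdim : topologicalKrullDim X ≤ 1)
    (hE : Coh.IsCoh E) {P : Polynomial ℚ} (hP : ShStab.IsHilbPoly k X L E P) : P.natDegree ≤ 1 :=
  natDegree_le k hL hE hP (d := 1) (by exact_mod_cast EulerChar.dim_support_le hdim)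

theorem alpha_hilb {L E : X.Modules} (hL : PicF.IsInvertible L) (hdim : topologicalKrullDim X ≤ 1)
    (hE : Coh.IsCoh E) {P : Polynomial ℚ} (hP : ShStab.IsHilbPoly k X L E P) :
    alpha 1 P = (mult k L E : ℚ) := by
  rw [alpha, Nat.factorial_one, Nat.cast_one, one_mul, mult, Int.cast_sub, ← eval_one_hilb k hP, ← eval_zero_hilb k hP]
  conv_rhs => rw [Polynomial.eq_X_add_C_of_natDegree_le_one (natDegree_hilb k hL hdim hE hP)]
  simp

/-- The reduced Hilbert polynomial of a semistable module is that of each of its parts. -/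
theorem ss_part_eq {L E : X.Modules} (hL : PicF.IsInvertible L) (hdim : topologicalKrullDim X ≤ 1)
    {A : X.Opens} (hA : IsClosed (A : Set X)) (hE : ShStab.IsSemistable k X L E 1) :
    Curv2.euler k X (part A E) * mult k L E = Curv2.euler k X E * mult k L (part A E) := by
  haveI := EulerChar.isLocallyNoetherian k (X := X)
  obtain ⟨hc, h0, hp, hss⟩ := hE
  let B : X.Opens := ⟨(A : Set X)ᶜ, hA.isOpen_compl⟩
  have hB : IsClosed (B : Set X) := A.2.isClosed_compl
  haveI := isIso_lift_toPart hA hB disjoint_compl_right E fun x hxA hxB => absurd hxA hxB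
  let Φ := asIso (biprod.lift (toPart A E) (toPart B E))
  have hcA := isCoh_part hA hc
  have hcB := isCoh_part hB hc
  obtain ⟨pa, hpa⟩ := exists_hilbPoly k hL hcA
  obtain ⟨pb, hpb⟩ := exists_hilbPoly k hL hcB
  obtain ⟨pE, hpE⟩ := exists_hilbPoly k hL hc
  have hS : (ShortComplex.mk (biprod.inl : part A E ⟶ part A E ⊞ part B E) biprod.snd biprod.inl_snd).ShortExact :=
    (ShortComplex.Splitting.ofHasBinaryBiproduct _ _).shortExact
  have hAB : Coh.IsCoh (part A E ⊞ part B E) := CohDev.isCoh_biprod hcA hcB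
  have hadd : pE = pa + pb :=
    hilbPoly_add k hL (S := ShortComplex.mk (biprod.inl : part A E ⟶ part A E ⊞ part B E) biprod.snd biprod.inl_snd)
      hS hcA hAB hcB hpa (hilbPoly_iso k Φ hpE) hpb
  have key : alpha 1 pE • pa = alpha 1 pa • pE := by
    by_cases hzA : IsZero (part A E)
    · rw [show pa = 0 from hilbPoly_unique k hpa (hilbPoly_of_isZero k hzA)]
      simp [alpha]
    by_cases hzB : IsZero (part B E)
    · rw [show pE = pa by rw [hadd, show pb = 0 from hilbPoly_unique k hpb (hilbPoly_of_isZero k hzB), add_zero]]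
    have h1 : ¬ IsIso (biprod.inl ≫ Φ.inv) := fun h => hzB (by
      haveI : IsIso (biprod.inl : part A E ⟶ part A E ⊞ part B E) := IsIso.of_isIso_comp_right biprod.inl Φ.inv
      have h2 : (biprod.snd : part A E ⊞ part B E ⟶ part B E) = 0 :=
        (cancel_epi (biprod.inl : part A E ⟶ part A E ⊞ part B E)).mp (by simp)
      rw [IsZero.iff_id_eq_zero, ← biprod.inr_snd (X := part A E), h2, comp_zero])
    have h2 : ¬ IsIso (biprod.inr ≫ Φ.inv) := fun h => hzA (by
      haveI : IsIso (biprod.inr : part B E ⟶ part A E ⊞ part B E) := IsIso.of_isIso_comp_right biprod.inr Φ.inv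
      have h2 : (biprod.fst : part A E ⊞ part B E ⟶ part A E) = 0 :=
        (cancel_epi (biprod.inr : part B E ⟶ part A E ⊞ part B E)).mp (by simp)
      rw [IsZero.iff_id_eq_zero, ← biprod.inl_fst (Y := part B E), h2, comp_zero])
    have ha : PolyLE (alpha 1 pE • pa) (alpha 1 pa • pE) := hss _ _ inferInstance hcA hzA h1 pa pE hpa hpE
    have hb : PolyLE (alpha 1 pE • pb) (alpha 1 pb • pE) := hss _ _ inferInstance hcB hzB h2 pb pE hpb hpE
    refine polyLE_antisymm ha ?_
    rw [polyLE_iff] at hb ⊢
    have e : alpha 1 pb • pE - alpha 1 pE • pb = alpha 1 pE • pa - alpha 1 pa • pE := by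
      simp only [hadd, alpha_add, smul_add, add_smul]
      abel
    rwa [e] at hb
  have h0' := congrArg (Polynomial.eval (0 : ℚ)) key
  rw [Polynomial.eval_smul, Polynomial.eval_smul, eval_zero_hilb k hpa, eval_zero_hilb k hpE,
    alpha_hilb k hL hdim hc hpE, alpha_hilb k hL hdim hcA hpa, smul_eq_mul, smul_eq_mul] at h0'
  have h3 : Curv2.euler k X (part A E) * mult k L E = mult k L (part A E) * Curv2.euler k X E := by
    rw [mul_comm]; exact_mod_cast h0'
  rw [h3, mul_comm]

/-- Riemann–Roch for a tensor product on a curve. -/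
theorem euler_tens_curve {Y : Scheme.{u}} [Y.Over (Spec (CommRingCat.of k))] [IsIntegral Y]
    [IsProper (Y ↘ Spec (CommRingCat.of k))] (hd : topologicalKrullDim Y ≤ 1) {r s : ℕ} {E F : Y.Modules}
    (hE : FlatMod.IsFinLocFreeOfRank r E) (hF : FlatMod.IsFinLocFreeOfRank s F) :
    Curv2.euler k Y (CohB1.tensorMod E F) = (s : ℤ) * Curv2.euler k Y E + (r : ℤ) * Curv2.euler k Y F -
      (r : ℤ) * s * Curv2.euler k Y (Coh.structureModule Y) := by
  have h := EulerChar.deg_tens k hE hd hF
  simp only [Curv2.deg, Nat.cast_mul] at h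
  have h' : Curv2.euler k Y (CohB1.tensorMod E F) = Curv2.euler k Y (CohDev.tens E F) := rfl
  rw [h']
  linear_combination h

section Numbers

variable [Smooth (X ↘ Spec (CommRingCat.of k))] (hdim : topologicalKrullDim X = 1)
  (hpure : ∀ y : X, ¬ IsOpen ({y} : Set X)) {U : X.Opens} (hU : IsClosed (U : Set X))
  (hc : _root_.IsConnected (U : Set X))

/-- The degree of the polarisation on a part. -/
abbrev partDeg (U : X.Opens) (L : X.Modules) : ℤ :=
  Curv2.euler k X (part U L) - Curv2.euler k X (part U (Coh.structureModule X))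

include hU hc hdim hpure in
/-- The degree of an ample module is positive on every part. -/
theorem partDeg_pos {L : X.Modules} (hL : CohB1.IsAmple L) : 0 < partDeg k U L := by
  letI : (U : Scheme.{u}).Over (Spec (CommRingCat.of k)) := ⟨U.ι ≫ (X ↘ Spec (CommRingCat.of k))⟩
  haveI := isClosedImmersion_ι hU
  haveI : IsProper ((U : Scheme.{u}) ↘ Spec (CommRingCat.of k)) :=
    inferInstanceAs (IsProper (U.ι ≫ (X ↘ Spec (CommRingCat.of k))))
  haveI := isIntegral_part k U hU hc
  have h1 := EulerChar.deg_pos_of_isAmple k (dim_part k U hdim hpure hU hc)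
    (AmpleLib.isAmple_pullback_of_qaMor U.ι (AmpleFam.Pullback.qaMor_of_isAffineHom U.ι) hL)
  haveI := EulerChar.isLocallyNoetherian k (X := X)
  have hO : Coh.IsQCoh (Coh.structureModule X) := (HomShQC.isCoh_structureModule).1
  have hLq : Coh.IsQCoh L := (VBLib.isCoh_of_ofRank (ProjTwist.isFinLocFreeOfRank_one hL.1)).1
  rw [partDeg, euler_part k U hU hLq, euler_part k U hU hO,
    EulerChar.euler_iso k ((Scheme.Modules.restrictFunctorIsoPullback U.ι).app L),
    EulerChar.euler_iso k (AmpCrit.restrictUnitIso U.ι)]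
  simpa [Curv2.deg] using h1

include hU hc hdim hpure in
/-- Twisting by the polarisation on a part. -/
theorem euler_part_twist {E L : X.Modules} (hE : FlatMod.IsFinLocFree E) (hL : PicF.IsInvertible L) {r : ℕ}
    (hr : FlatMod.IsFinLocFreeOfRank r (E.restrict U.ι)) :
    mult k L (part U E) = (r : ℤ) * partDeg k U L := by
  letI : (U : Scheme.{u}).Over (Spec (CommRingCat.of k)) := ⟨U.ι ≫ (X ↘ Spec (CommRingCat.of k))⟩
  haveI := isClosedImmersion_ι hU
  haveI : IsProper ((U : Scheme.{u}) ↘ Spec (CommRingCat.of k)) :=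
    inferInstanceAs (IsProper (U.ι ≫ (X ↘ Spec (CommRingCat.of k))))
  haveI := isIntegral_part k U hU hc
  haveI := EulerChar.isLocallyNoetherian k (X := X)
  haveI := EulerChar.isNoetherian k (X := X)
  have hEc : Coh.IsCoh E := VBLib.isCoh_of_isFinLocFree hE
  have hLr : FlatMod.IsFinLocFreeOfRank 1 (L.restrict U.ι) :=
    ProjTwist.isFinLocFreeOfRank_one (PicCl.isInvertible_of_iso
      ((Scheme.Modules.restrictFunctorIsoPullback U.ι).app L).symm (PicCl.isInvertible_pullback U.ι hL))
  have hO : Coh.IsQCoh (Coh.structureModule X) := (HomShQC.isCoh_structureModule).1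
  have hLq : Coh.IsQCoh L := (VBLib.isCoh_of_ofRank (ProjTwist.isFinLocFreeOfRank_one hL)).1
  have hEL : Coh.IsQCoh (CohB1.tensorMod E L) := (ProjTwist.isCoh_tensor hL hEc).1
  have h1 := euler_tens_curve k (dim_part k U hdim hpure hU hc).le hr hLr
  have e1 : Curv2.euler k X (CohB1.tensorMod (part U E) L) =
      Curv2.euler k (U : Scheme.{u}) (CohB1.tensorMod (E.restrict U.ι) (L.restrict U.ι)) :=
    (euler_part_tens k U hU hEc.1 hL).trans ((euler_part k U hU hEL).trans
      (EulerChar.euler_iso k (AmpCrit.RelVan.restrictTensIso U.ι E L)))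
  have e2 := euler_part k U hU hEc.1
  have e3 := euler_part k U hU hLq
  have e4 : Curv2.euler k X (part U (Coh.structureModule X)) =
      Curv2.euler k (U : Scheme.{u}) (Coh.structureModule (U : Scheme.{u})) :=
    (euler_part k U hU hO).trans (EulerChar.euler_iso k (AmpCrit.restrictUnitIso U.ι))
  rw [mult, partDeg, e1, e2, e3, e4, h1]
  push_cast
  ring

include hU hc hdim hpure in
/-- The Euler characteristic of a tensor product on a part. -/
theorem euler_part_tensor {E F : X.Modules} (hE : FlatMod.IsFinLocFree E) (hF : FlatMod.IsFinLocFree F) {r s : ℕ}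
    (hr : FlatMod.IsFinLocFreeOfRank r (E.restrict U.ι)) (hs : FlatMod.IsFinLocFreeOfRank s (F.restrict U.ι))
    (hEF : Coh.IsQCoh (CohB1.tensorMod E F)) :
    Curv2.euler k X (part U (CohB1.tensorMod E F)) = (s : ℤ) * Curv2.euler k X (part U E) +
      (r : ℤ) * Curv2.euler k X (part U F) - (r : ℤ) * s * Curv2.euler k X (part U (Coh.structureModule X)) := by
  letI : (U : Scheme.{u}).Over (Spec (CommRingCat.of k)) := ⟨U.ι ≫ (X ↘ Spec (CommRingCat.of k))⟩
  haveI := isClosedImmersion_ι hU
  haveI : IsProper ((U : Scheme.{u}) ↘ Spec (CommRingCat.of k)) :=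
    inferInstanceAs (IsProper (U.ι ≫ (X ↘ Spec (CommRingCat.of k))))
  haveI := isIntegral_part k U hU hc
  haveI := EulerChar.isLocallyNoetherian k (X := X)
  have h1 := euler_tens_curve k (dim_part k U hdim hpure hU hc).le hr hs
  have e1 : Curv2.euler k X (part U (CohB1.tensorMod E F)) =
      Curv2.euler k (U : Scheme.{u}) (CohB1.tensorMod (E.restrict U.ι) (F.restrict U.ι)) :=
    (euler_part k U hU hEF).trans (EulerChar.euler_iso k (AmpCrit.RelVan.restrictTensIso U.ι E F))
  have e2 := euler_part k U hU (VBLib.isCoh_of_isFinLocFree hE).1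
  have e3 := euler_part k U hU (VBLib.isCoh_of_isFinLocFree hF).1
  have e4 : Curv2.euler k X (part U (Coh.structureModule X)) =
      Curv2.euler k (U : Scheme.{u}) (Coh.structureModule (U : Scheme.{u})) :=
    (euler_part k U hU (HomShQC.isCoh_structureModule).1).trans (EulerChar.euler_iso k (AmpCrit.restrictUnitIso U.ι))
  rw [e1, e2, e3, e4, h1]

include hU hc hdim hpure in
/-- The multiplicity of a tensor product on a part. -/
theorem euler_part_tensor_twist {E F L : X.Modules} {r s : ℕ}
    (hr : FlatMod.IsFinLocFreeOfRank r (E.restrict U.ι)) (hs : FlatMod.IsFinLocFreeOfRank s (F.restrict U.ι))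
    (hEF : Coh.IsCoh (CohB1.tensorMod E F)) (hL : PicF.IsInvertible L) :
    Curv2.euler k X (part U (CohB1.tensorMod (CohB1.tensorMod E F) L)) - Curv2.euler k X (part U (CohB1.tensorMod E F)) =
      (r : ℤ) * s * partDeg k U L := by
  letI : (U : Scheme.{u}).Over (Spec (CommRingCat.of k)) := ⟨U.ι ≫ (X ↘ Spec (CommRingCat.of k))⟩
  haveI := isClosedImmersion_ι hU
  haveI : IsProper ((U : Scheme.{u}) ↘ Spec (CommRingCat.of k)) :=
    inferInstanceAs (IsProper (U.ι ≫ (X ↘ Spec (CommRingCat.of k))))
  haveI := isIntegral_part k U hU hc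
  haveI := EulerChar.isLocallyNoetherian k (X := X)
  haveI := EulerChar.isNoetherian k (X := X)
  have hLr : FlatMod.IsFinLocFreeOfRank 1 (L.restrict U.ι) :=
    ProjTwist.isFinLocFreeOfRank_one (PicCl.isInvertible_of_iso
      ((Scheme.Modules.restrictFunctorIsoPullback U.ι).app L).symm (PicCl.isInvertible_pullback U.ι hL))
  have hO : Coh.IsQCoh (Coh.structureModule X) := (HomShQC.isCoh_structureModule).1
  have hLq : Coh.IsQCoh L := (VBLib.isCoh_of_ofRank (ProjTwist.isFinLocFreeOfRank_one hL)).1
  have hT : Coh.IsQCoh (CohB1.tensorMod (CohB1.tensorMod E F) L) := (ProjTwist.isCoh_tensor hL hEF).1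
  have hrs := VBLib.ofRank_tensor hr hs
  have h1 := euler_tens_curve k (dim_part k U hdim hpure hU hc).le hrs hLr
  have e1 : Curv2.euler k X (part U (CohB1.tensorMod (CohB1.tensorMod E F) L)) =
      Curv2.euler k (U : Scheme.{u}) (CohB1.tensorMod (CohB1.tensorMod (E.restrict U.ι) (F.restrict U.ι)) (L.restrict U.ι)) :=
    (euler_part k U hU hT).trans (EulerChar.euler_iso k (AmpCrit.RelVan.restrictTensIso U.ι _ L ≪≫
      ProjTwist.tensCongr (AmpCrit.RelVan.restrictTensIso U.ι E F) (Iso.refl _)))
  have e2 : Curv2.euler k X (part U (CohB1.tensorMod E F)) =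
      Curv2.euler k (U : Scheme.{u}) (CohB1.tensorMod (E.restrict U.ι) (F.restrict U.ι)) :=
    (euler_part k U hU hEF.1).trans (EulerChar.euler_iso k (AmpCrit.RelVan.restrictTensIso U.ι E F))
  have e3 := euler_part k U hU hLq
  have e4 : Curv2.euler k X (part U (Coh.structureModule X)) =
      Curv2.euler k (U : Scheme.{u}) (Coh.structureModule (U : Scheme.{u})) :=
    (euler_part k U hU hO).trans (EulerChar.euler_iso k (AmpCrit.restrictUnitIso U.ι))
  rw [partDeg, e1, e2, e3, e4, h1]
  push_cast
  ring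

include hU in
omit [Smooth (X ↘ Spec (CommRingCat.of k))] [IsProper (X ↘ Spec (CommRingCat.of k))] [Field k] [X.Over (Spec (CommRingCat.of k))] in
/-- The rank is positive where the stalks are nonzero. -/
theorem rank_pos {E : X.Modules} (hE : FlatMod.IsFinLocFree E) (h0 : ∀ y : X, ¬ Subsingleton (E.presheaf.stalk y))
    (hne : (U : Set X).Nonempty) {r : ℕ} (hr : FlatMod.IsFinLocFreeOfRank r (E.restrict U.ι)) : 0 < r := by
  by_contra hr0
  obtain rfl : r = 0 := by omega
  obtain ⟨y, hy⟩ := hne
  haveI : (E.restrict U.ι).IsQuasicoherent :=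
    PerfTri.Betti.isQuasicoherent_of_isFinLocFree (KFlat.LocFree.isFinLocFree_restrict hE U)
  haveI := isClosedImmersion_ι hU
  have hs : CohB1.support (E.restrict U.ι) = ∅ := Set.eq_empty_iff_forall_notMem.mpr fun z hz => hz (by
    obtain ⟨h1, h2⟩ := Props.QProj.free_stalk (E.restrict U.ι) (KFlat.LocFree.isFinLocFree_restrict hE U) z
    haveI := h1
    haveI := h2
    have h3 := TwistFlat.fibreRank_eq_of_ofRank hr z
    rw [Props.QRank.fibreRank_eq_of_free] at h3
    let b := Module.Free.chooseBasis ((U : Scheme.{u}).presheaf.stalk z) ((E.restrict U.ι).presheaf.stalk z)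
    haveI := Fintype.ofFinite (Module.Free.ChooseBasisIndex ((U : Scheme.{u}).presheaf.stalk z) ((E.restrict U.ι).presheaf.stalk z))
    rw [Module.finrank_eq_card_basis b, Fintype.card_eq_zero_iff] at h3
    exact b.repr.injective.subsingleton)
  haveI : Subsingleton ((part U E).presheaf.stalk y) := by
    by_contra h
    obtain ⟨z, hz, -⟩ := ProperFin.support_push_subset U.ι (E.restrict U.ι) (show y ∈ CohB1.support (part U E) from h)
    exact (hs.le hz).elim
  exact h0 y (bijective_stalk_toPart E hy).1.subsingleton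

end Numbers

end Groth.Agent.NodalLib

end
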