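import Groth.Agent.CohTop.Push
import Groth.Agent.CohBase.PushEdge
import Groth.Agent.CurveCoh.Euler

/-!
# First cohomology along a map without higher direct images, naturally in endomorphisms
-/

set_option autoImplicit false
set_option linter.style.haveILetI false

universe u

open CategoryTheory CategoryTheory.Limits Opposite TopologicalSpace

namespace Groth.Agent.NodalLib

open Groth.Agent.CohTop.Basic Groth.Agent.CohTop.Push

variable {X Y : TopCat.{u}}

/-- Naturality of the connecting map. -/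
theorem δ_natural {S T : ShortComplex (CohTop.Ab X)} (hS : S.ShortExact) (hT : T.ShortExact) (ψ : S ⟶ T)
    (U : Opens X) {n₀ n₁ : ℕ} (h : n₀ + 1 = n₁) (x : CohTop.HU S.X₃ n₀ U) :
    δ hT U n₀ n₁ h (CohTop.HUmap ψ.τ₃ n₀ U x) = CohTop.HUmap ψ.τ₁ n₁ U (δ hS U n₀ n₁ h x) := by
  have key := ShortComplex.ShortExact.extClass_naturality hS hT ψ
  exact ((Abelian.Ext.comp_assoc_of_second_deg_zero
      (x : Abelian.Ext (CohCx.freeSheaf (Opens.grothendieckTopology X) U) S.X₃ n₀) (Abelian.Ext.mk₀ ψ.τ₃)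
      hT.extClass h).trans (congrArg (fun e => Abelian.Ext.comp
        (x : Abelian.Ext (CohCx.freeSheaf (Opens.grothendieckTopology X) U) S.X₃ n₀) e h) key.symm)).trans
    (Abelian.Ext.comp_assoc_of_third_deg_zero
      (x : Abelian.Ext (CohCx.freeSheaf (Opens.grothendieckTopology X) U) S.X₃ n₀) hS.extClass
      (Abelian.Ext.mk₀ ψ.τ₁) h).symm

theorem sectδ_natural {S T : ShortComplex (CohTop.Ab X)} (hS : S.ShortExact) (hT : T.ShortExact) (ψ : S ⟶ T)
    (U : Opens X) (a : S.X₃.obj.obj (op U)) :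
    sectδ hT U ((ψ.τ₃.hom.app (op U)).hom a) = CohTop.HUmap ψ.τ₁ 1 U (sectδ hS U a) := by
  refine Eq.trans ?_ (δ_natural hS hT ψ U rfl ((HU0Equiv S.X₃ U).symm a))
  refine congrArg (δ hT U 0 1 rfl) ?_
  apply (HU0Equiv T.X₃ U).injective
  refine (AddEquiv.apply_symm_apply _ _).trans ?_
  rw [HU0Equiv_map, AddEquiv.apply_symm_apply]

theorem H_map_bijective_iff {F : CohTop.Ab X} (φ : F ⟶ F) (n : ℕ) :
    Function.Bijective (Sheaf.H.map φ n) ↔ Function.Bijective (CohTop.HUmap φ n ⊤) := by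
  have h : (fun x => CohTop.HUmap φ n ⊤ (HEquivHUTop F n x)) = fun x => HEquivHUTop F n (Sheaf.H.map φ n x) :=
    funext fun x => (HEquivHUTop_map φ n x).symm
  constructor
  · intro hb
    refine (Function.Bijective.of_comp_iff _ (HEquivHUTop F n).bijective).1 ?_
    show Function.Bijective fun x => CohTop.HUmap φ n ⊤ (HEquivHUTop F n x)
    rw [h]
    exact (HEquivHUTop F n).bijective.comp hb
  · intro hb
    refine (Function.Bijective.of_comp_iff' (HEquivHUTop F n).bijective _).1 ?_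
    show Function.Bijective fun x => HEquivHUTop F n (Sheaf.H.map φ n x)
    rw [← h]
    exact hb.comp (HEquivHUTop F n).bijective

/-- `H¹` of an endomorphism and of its direct image. -/
theorem bijective_H_one_push_iff (f : X ⟶ Y) (F : CohTop.Ab X) (hF : HigherVanish f F) (φ : F ⟶ F) :
    Function.Bijective (Sheaf.H.map φ 1) ↔ Function.Bijective (Sheaf.H.map ((CohTop.push f).map φ) 1) := by
  have hS := embedding_shortExact F
  have hS' := hF.map_shortExact
  haveI : Injective (embedding F).X₂ := Injective.injective_under F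
  haveI : Mono (embedding F).f := hS.mono_f
  haveI : Epi (embedding F).g := hS.epi_g
  let φ₂ : (embedding F).X₂ ⟶ (embedding F).X₂ := Injective.factorThru (φ ≫ (embedding F).f) (embedding F).f
  have h₂ : (embedding F).f ≫ φ₂ = φ ≫ (embedding F).f := Injective.comp_factorThru _ _
  let φ₃ : (embedding F).X₃ ⟶ (embedding F).X₃ := hS.exact.desc (φ₂ ≫ (embedding F).g) (by
    rw [reassoc_of% h₂, (embedding F).zero, comp_zero])
  have h₃ : (embedding F).g ≫ φ₃ = φ₂ ≫ (embedding F).g := hS.exact.g_desc _ _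
  let ψ : embedding F ⟶ embedding F :=
    { τ₁ := φ, τ₂ := φ₂, τ₃ := φ₃, comm₁₂ := h₂.symm, comm₂₃ := h₃.symm }
  let ψ' := (CohTop.push f).mapShortComplex.map ψ
  have hI : Subsingleton (CohTop.HU ((CohTop.push f).obj (embedding F).X₂) 1 ⊤) := by
    have := CohTop.Flasque.isFlasque_of_injective (embedding F).X₂
    exact @CohTop.Flasque.HU_subsingleton _ ((CohTop.push f).obj (embedding F).X₂)
      (TopCat.Sheaf.IsFlasque.pushforward_isFlasque (embedding F).X₂ f) 0 ⊤
  let p : (embedding F).X₃.obj.obj (op ⊤) →+ CohTop.HU F 1 ⊤ := sectδ hS ⊤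
  let q : (embedding F).X₃.obj.obj (op ⊤) →+ CohTop.HU ((CohTop.push f).obj F) 1 ⊤ := sectδ hS' ⊤
  have hp : Function.Surjective p := sectδ_surjective hS ⊤ inferInstance
  have hq : Function.Surjective q := sectδ_surjective hS' ⊤ hI
  have hker : ∀ a, p a = 0 ↔ q a = 0 := fun a => (sectδ_eq_zero_iff hS ⊤ a).trans (sectδ_eq_zero_iff hS' ⊤ a).symm
  have np : ∀ a, CohTop.HUmap φ 1 ⊤ (p a) = p ((φ₃.hom.app (op ⊤)).hom a) := fun a =>
    (sectδ_natural hS hS ψ ⊤ a).symm
  have nq : ∀ a, CohTop.HUmap ((CohTop.push f).map φ) 1 ⊤ (q a) = q ((φ₃.hom.app (op ⊤)).hom a) := fun a =>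
    (sectδ_natural hS' hS' ψ' ⊤ a).symm
  rw [H_map_bijective_iff, H_map_bijective_iff]
  constructor
  · intro hb
    refine ⟨(injective_iff_map_eq_zero _).2 fun y hy => ?_, fun y => ?_⟩
    · obtain ⟨a, rfl⟩ := hq y
      rw [nq, ← hker, ← np] at hy
      exact (hker a).1 ((injective_iff_map_eq_zero _).1 hb.1 _ hy)
    · obtain ⟨a, rfl⟩ := hq y
      obtain ⟨x, hx⟩ := hb.2 (p a)
      obtain ⟨a', rfl⟩ := hp x
      refine ⟨q a', ?_⟩
      rw [np, ← sub_eq_zero, ← map_sub, hker, map_sub, sub_eq_zero] at hx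
      rw [nq, hx]
  · intro hb
    refine ⟨(injective_iff_map_eq_zero _).2 fun y hy => ?_, fun y => ?_⟩
    · obtain ⟨a, rfl⟩ := hp y
      rw [np, hker, ← nq] at hy
      exact (hker a).2 ((injective_iff_map_eq_zero _).1 hb.1 _ hy)
    · obtain ⟨a, rfl⟩ := hp y
      obtain ⟨x, hx⟩ := hb.2 (q a)
      obtain ⟨a', rfl⟩ := hq x
      refine ⟨p a', ?_⟩
      rw [nq, ← sub_eq_zero, ← map_sub, ← hker, map_sub, sub_eq_zero] at hx
      rw [np, hx]

open AlgebraicGeometry in
/-- Quasi-coherent modules have no higher direct images along affine morphisms. -/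
theorem higherVanish_of_isAffineHom {A B : Scheme.{u}} (f : A ⟶ B) [IsAffineHom f] (M : A.Modules) [M.IsQuasicoherent] :
    HigherVanish f.base (Coh.toAb M) :=
  HigherVanish.of_isZero f.base _ fun q =>
    IsZero.of_iso ((ModShf.toAbFunctor B).map_isZero (CohBase.PushEdge.isZero_Rpush_of_isAffineHom f M q))
      ((ModShf.rpushCompToAb f (q + 1)).app M).symm

end Groth.Agent.NodalLib
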