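import Groth.Agent.NodalLib.NodeNormal
import Groth.Agent.NodalLib.ClopenEuler
import Groth.Agent.QuadP1.Main
import Groth.Agent.EulerChar.CurvePoint
import Groth.Agent.EulerChar.Components
import Groth.Agent.AlgSpCov.IntegralDim
import Groth.Agent.EulerChar.AmpleCurve
import Groth.Agent.EquidimPt.DimSum
import Groth.Agent.S1536
import Groth.Agent.S2501
import Groth.Agent.FBase.BC
import Groth.Agent.AmpCrit.AffineHom

/-!
# The genus of a nodal curve and of its normalisation
-/

set_option autoImplicit false
set_option linter.style.haveILetI false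

universe u

open CategoryTheory CategoryTheory.Limits AlgebraicGeometry TopologicalSpace
open Groth.Agent.PullStalk.Sky Groth.Agent.PullStalk.Exact
open Groth.Agent.StrictSSLib

noncomputable section

namespace Groth.Agent.NodalLib

/-- Over the open where the map is an isomorphism the unit is bijective. -/
theorem surjective_unitMap_of_mem {C C' : Scheme.{u}} (π : C' ⟶ C) [IsFinite π] (U : C.Opens) [IsIso (π ∣_ U)]
    {x : C} (hx : x ∈ U) :
    Function.Surjective (stalkLin (unitMap π) x) := by
  intro m
  obtain ⟨W, hxW, b, rfl⟩ := exists_germM_eq (pushO π) x m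
  obtain ⟨r, hr⟩ := (app_bijective π U (W := W ⊓ U) inf_le_right).2
    (QCoh.rres (π.preimage_mono (inf_le_left : W ⊓ U ≤ W)) b)
  refine ⟨C.presheaf.germ (W ⊓ U) x ⟨hxW, hx⟩ r • oneGerm x, ?_⟩
  rw [stalkLin_smul_oneGerm, ← germ_app π (U := W ⊓ U) ⟨hxW, hx⟩ r]
  exact (congrArg (fun z => germM (pushO π) (W ⊓ U) x ⟨hxW, hx⟩ z) hr).trans (GGDesc.germM_res_eq (pushO π) inf_le_left x ⟨hxW, hx⟩ b)

variable (k : Type u) [Field k] [IsAlgClosed k]

/-- Global functions of a reduced proper scheme count the components. -/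
theorem finrank_h0_structure (X : Scheme.{u}) [X.Over (Spec (CommRingCat.of k))]
    [IsProper (X ↘ (Spec (CommRingCat.of k)))] [IsReduced X] :
    Module.finrank k (Coh.HH X (Coh.structureModule X) 0) = Nat.card (_root_.ConnectedComponents X) := by
  haveI := EulerChar.isNoetherian k (X := X)
  haveI := finite_components (X : Type u)
  haveI : Fintype (_root_.ConnectedComponents X) := Fintype.ofFinite _
  have hO : Coh.IsCoh (Coh.structureModule X) := ProperFin.isCoh_structureModule X
  have hsum := additive_eq_sum (comp (X := X)) isClosed_comp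
    (fun c d hcd => Set.disjoint_left.mpr fun x hc hd' => hcd ((mem_comp.mp hc).symm.trans (mem_comp.mp hd')))
    (fun A => (Module.finrank k (Coh.HH X A 0) : ℤ))
    (fun _ _ e => congrArg Nat.cast (QuadP1.isoL k e 0).finrank_eq)
    (fun A hA => by
      haveI : Subsingleton (Coh.HH X A 0) := subsingleton_of_forall_eq 0 fun z => by
        have h := LinearMap.congr_fun (congrArg (fun f => CohLES.mapL k f 0) (hA.eq_of_src (𝟙 A) 0)) z
        rwa [CohLES.mapL_id, CohLES.mapL_zero, LinearMap.id_apply, LinearMap.zero_apply] at h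
      simp [Module.finrank_zero_of_subsingleton])
    (fun A B hA hB => by
      rw [(QuadP1.finrank_biprod k A B 0 (EulerChar.finite_HH k A hA 0) (EulerChar.finite_HH k B hB 0)).2, Nat.cast_add])
    Finset.univ (Coh.structureModule X) hO fun x hx =>
      absurd (mem_comp.mpr rfl) (hx (ConnectedComponents.mk x) (Finset.mem_univ _))
  have hone : ∀ c : _root_.ConnectedComponents X,
      Module.finrank k (Coh.HH X (part (comp c) (Coh.structureModule X)) 0) = 1 := by
    intro c
    let V := comp c
    letI : (V : Scheme.{u}).Over (Spec (CommRingCat.of k)) := ⟨V.ι ≫ (X ↘ Spec (CommRingCat.of k))⟩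
    haveI := isClosedImmersion_ι (isClosed_comp c)
    haveI : IsProper ((V : Scheme.{u}) ↘ Spec (CommRingCat.of k)) :=
      inferInstanceAs (IsProper (V.ι ≫ (X ↘ Spec (CommRingCat.of k))))
    haveI : IsReduced (V : Scheme.{u}) := isReduced_of_isOpenImmersion V.ι
    haveI : ConnectedSpace (V : Scheme.{u}) := isConnected_iff_connectedSpace.1 (isConnected_comp c)
    haveI : GeometricallyReduced ((V : Scheme.{u}) ↘ Spec (CommRingCat.of k)) :=
      FBase.BC.geometricallyReduced_of_isReduced_of_perfectField _
    haveI : GeometricallyConnected ((V : Scheme.{u}) ↘ Spec (CommRingCat.of k)) := S2501.result _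
    haveI : (Coh.structureModule X).IsQuasicoherent := hO.1
    haveI : ((Coh.structureModule X).restrict V.ι).IsQuasicoherent :=
      inferInstanceAs ((Scheme.Modules.restrictFunctor V.ι).obj (Coh.structureModule X)).IsQuasicoherent
    obtain ⟨e⟩ := EulerChar.nonempty_pushEquiv V.ι (A := k) rfl ((Coh.structureModule X).restrict V.ι)
      (inferInstanceAs ((Scheme.Modules.restrictFunctor V.ι).obj (Coh.structureModule X)).IsQuasicoherent) 0
    exact e.finrank_eq.trans ((QuadP1.isoL k (AmpCrit.restrictUnitIso V.ι) 0).finrank_eq.trans (S1536.result k (V : Scheme.{u})))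
  simp only [hone, Nat.cast_one, Finset.sum_const, Finset.card_univ, nsmul_eq_mul, mul_one] at hsum
  rw [Nat.card_eq_fintype_card]
  exact_mod_cast hsum

/-- On a curve the Euler characteristic is `h⁰ - h¹`. -/
theorem euler_structure (X : Scheme.{u}) [X.Over (Spec (CommRingCat.of k))]
    [IsProper (X ↘ (Spec (CommRingCat.of k)))] [IsReduced X] (hdim : topologicalKrullDim X ≤ 1) :
    Curv2.euler k X (Coh.structureModule X) =
      (Nat.card (_root_.ConnectedComponents X) : ℤ) - (Curv2.genus k X : ℤ) := by
  haveI := EulerChar.isNoetherian k (X := X)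
  rw [EulerChar.euler_eq_sum k (t := 2) fun p hp => ?_]
  · rw [Finset.sum_range_succ, Finset.sum_range_one, finrank_h0_structure]
    simp [Curv2.genus, sub_eq_add_neg]
  · haveI : NoetherianSpace X.toTopCat := inferInstanceAs (NoetherianSpace X)
    exact CohTop.Vanishing.grothendieck_vanishing (X := X.toTopCat) 1 hdim (Coh.toAb (Coh.structureModule X)) p hp

/-- Closed points have degree one. -/
theorem ptDeg_eq_one (X : Scheme.{u}) [X.Over (Spec (CommRingCat.of k))]
    [IsProper (X ↘ (Spec (CommRingCat.of k)))] {x : X} (hx : IsClosed ({x} : Set X)) :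
    EulerChar.ptDeg k x = 1 := by
  let D := IntMult.ptIdeal x
  haveI : IsIntegral D.subscheme :=
    Groth.Agent.S16188.isIntegral_subscheme _ isIrreducible_singleton.closure
  letI : D.subscheme.Over (Spec (CommRingCat.of k)) := ⟨D.subschemeι ≫ (X ↘ Spec (CommRingCat.of k))⟩
  haveI : IsProper (D.subscheme ↘ Spec (CommRingCat.of k)) :=
    inferInstanceAs (IsProper (D.subschemeι ≫ (X ↘ Spec (CommRingCat.of k))))
  obtain ⟨e⟩ := EulerChar.nonempty_pushEquiv D.subschemeι (A := k) rfl (Coh.structureModule D.subscheme)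
    (ProjTwist.isQuasicoherent_structureModule D.subscheme) 0
  have h1 : Module.finrank k (Coh.HH X (ClSub.quotMod (IntMult.ptIdeal x)) 0) = 1 :=
    e.finrank_eq.trans (VBLib.finrank_H0_structure_eq_one VBLib.bijective_toGlobal_of_isAlgClosed)
  have hd : topologicalKrullDim ↥(CohB1.support (Cyc.closureStructureSheaf x)) ≤ 0 :=
    EulerChar.topDim_of_subset k {x} (fun z hz => by rw [Finset.mem_singleton] at hz; exact hz ▸ hx) (by
      rw [Finset.coe_singleton]
      exact (EulerChar.support_oz_subset x).trans hx.closure_eq.subset)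
  rw [EulerChar.ptDeg, EulerChar.euler_eq_finrank_of_support k
    (show Coh.IsCoh (Cyc.closureStructureSheaf x) from EulerChar.isCoh_quotMod k (IntMult.ptIdeal x)) hd]
  exact_mod_cast h1

/-- Genus formula for the normalisation of a nodal curve. -/
theorem genus_normalization (C : Scheme.{u}) [C.Over (Spec (CommRingCat.of k))] [IsProper (C ↘ (Spec (CommRingCat.of k)))]
    (hdim : ∀ Z ∈ irreducibleComponents (C : Type u), topologicalKrullDim Z = 1) (hC : Curv2.AtWorstNodal k C)
    (hCred : IsReduced C)
    (C' : Scheme.{u}) (π : C' ⟶ C) [IsFinite π] (hC' : Pi1.IsNormalScheme C')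
    (U : C.Opens) (hU : Dense (U : Set C)) (hU' : Dense ((π ⁻¹ᵁ U : C'.Opens) : Set C')) (hπU : IsIso (π ∣_ U)) :
    letI : C'.Over (Spec (CommRingCat.of k)) := ⟨π ≫ (C ↘ (Spec (CommRingCat.of k)))⟩
    (Curv2.genus k C : ℤ) + Nat.card (_root_.ConnectedComponents C') =
      (Curv2.genus k C' : ℤ) + Nat.card {x : C // Curv2.IsNode k C x} + Nat.card (_root_.ConnectedComponents C) := by
  classical
  letI : C'.Over (Spec (CommRingCat.of k)) := ⟨π ≫ (C ↘ (Spec (CommRingCat.of k)))⟩
  haveI : IsProper (C' ↘ Spec (CommRingCat.of k)) :=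
    inferInstanceAs (IsProper (π ≫ (C ↘ (Spec (CommRingCat.of k)))))
  haveI := hπU
  haveI : IsReduced C' := @isReduced_of_isReduced_stalk C' fun x => by
    haveI := (hC' x).1
    infer_instance
  haveI := EulerChar.isNoetherian k (X := C)
  haveI := EulerChar.isNoetherian k (X := C')
  have hdim1 : topologicalKrullDim C ≤ 1 := EquidimPt.topDim_le_of_components fun Z hZ => (hdim Z hZ).le
  have hdim1' : topologicalKrullDim C' ≤ 1 := (AlgSpCov.IntegralDim.topologicalKrullDim_le_of_strictMono π
    (AlgSpCov.IntegralDim.strictMono_of_isIntegralHom π)).trans hdim1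
  have hg : genericPoints (C : Type u) ⊆ (U : Set C) := fun η hη =>
    FlatMor.GenericPts.mem_of_dense_of_finite NoetherianSpace.finite_irreducibleComponents U.2 hU hη
  have hg' : genericPoints (C' : Type u) ⊆ ((π ⁻¹ᵁ U : C'.Opens) : Set C') := fun η hη =>
    FlatMor.GenericPts.mem_of_dense_of_finite NoetherianSpace.finite_irreducibleComponents (π ⁻¹ᵁ U).2 hU' hη
  let φ := unitMap π
  have hM : Coh.IsCoh (pushO π) := ProperFin.isCoh_push_of_isFinite π _ (ProperFin.isCoh_structureModule C')
  have hO : Coh.IsCoh (Coh.structureModule C) := ProperFin.isCoh_structureModule C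
  have hns : ∀ x, ¬ Curv2.IsNode k C x → Function.Bijective (stalkLin φ x) := fun x hx =>
    bijective_unitMap π U hg hg' k (mem_smoothLocus_of_atWorstNodal C (fun Z hZ => (hdim Z hZ).le) hC hx)
  have hnd : ∀ x, Curv2.IsNode k C x → Function.Injective (stalkLin φ x) ∧
      Module.length (C.presheaf.stalk x) ((pushO π).presheaf.stalk x ⧸ LinearMap.range (stalkLin φ x)) = 1 :=
    fun x hx => node_length π U hg hg' k hC' hdim1 hx
  haveI : Mono φ := Omega.Stalks.mono_of_stalk fun x => (em (Curv2.IsNode k C x)).elim (fun h => (hnd x h).1)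
    fun h => (hns x h).1
  have hS : (ShortComplex.mk φ (cokernel.π φ) (cokernel.condition φ)).ShortExact :=
    ShortComplex.ShortExact.mk' (ShortComplex.exact_of_g_is_cokernel _ (cokernelIsCokernel φ)) inferInstance inferInstance
  have hQ : Coh.IsCoh (cokernel φ) := CohDev.isCoh_cokernel _ hO.1 hM
  have hlen : ∀ x, Curv2.IsNode k C x → Module.length (C.presheaf.stalk x) ((cokernel φ).presheaf.stalk x) = 1 := by
    intro x hx
    obtain ⟨-, hex, hπ⟩ := stalk_exact hS x
    exact (hex.linearEquivOfSurjective hπ).length_eq.symm.trans (hnd x hx).2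
  have hsub : ∀ x, x ∈ CohB1.support (cokernel φ) ↔ Curv2.IsNode k C x := by
    intro x
    constructor
    · intro hne
      by_contra hx
      obtain ⟨-, hex, hπ⟩ := stalk_exact hS x
      exact hne (subsingleton_of_forall_eq 0 fun t => by
        obtain ⟨t, rfl⟩ := hπ t
        exact (hex t).2 ((hns x hx).2 t))
    · intro hx h
      have h1 := hlen x hx
      haveI := h
      exact zero_ne_one ((Module.length_eq_zero_iff.2 ‹Subsingleton ((cokernel φ).presheaf.stalk x)›).symm.trans h1)
  have hfin : {x : C | Curv2.IsNode k C x}.Finite := by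
    refine (DimOneAmple.finite_compl_and_dim hdim1 hg).1.subset fun x hx hxU => ?_
    have hne := (hsub x).2 hx
    obtain ⟨-, hex, hπ⟩ := stalk_exact hS x
    exact hne (subsingleton_of_forall_eq 0 fun t => by
      obtain ⟨t, rfl⟩ := hπ t
      exact (hex t).2 ((surjective_unitMap_of_mem π U hxU) t))
  have hclosed : ∀ x ∈ hfin.toFinset, IsClosed ({x} : Set C) := fun x hx => (hfin.mem_toFinset.1 hx).1
  have hχQ : Curv2.euler k C (cokernel φ) = Nat.card {x : C // Curv2.IsNode k C x} := by
    rw [EulerChar.euler_eq_sum_lenZ k hfin.toFinset hclosed hQ fun x hx => hfin.mem_toFinset.2 ((hsub x).1 hx),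
      Finset.sum_congr rfl (g := fun _ => (1 : ℤ)) fun x hx => by
        rw [ptDeg_eq_one k C (hclosed x hx), LenLib.lenZ, hlen x (hfin.mem_toFinset.1 hx)]
        simp]
    rw [Finset.sum_const, nsmul_one]
    exact congrArg Nat.cast ((Set.ncard_eq_toFinset_card _ hfin).symm.trans (Nat.card_coe_set_eq _).symm)
  have h1 := EulerChar.euler_add k hS hO hM hQ
  have h2 : Curv2.euler k C (pushO π) = Curv2.euler k C' (Coh.structureModule C') :=
    EulerChar.euler_push π rfl _ (ProperFin.isCoh_structureModule C').1
  have h3 := euler_structure k C hdim1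
  have h4 := euler_structure k C' hdim1'
  dsimp only at h1
  linarith

end Groth.Agent.NodalLib
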