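import Groth.Agent.NodalLib.NodeTensor
import Groth.Agent.Props.SubSheaf
import Groth.Agent.VBLib.DualDeg

/-!
# Bundles containing a torsion-free module with small colength
-/

set_option autoImplicit false
set_option linter.style.haveILetI false

universe u

open CategoryTheory CategoryTheory.Limits AlgebraicGeometry TopologicalSpace IsLocalRing
open Groth.Agent.PullStalk.Sky Groth.Agent.PullStalk.Exact
open Groth.Agent.QCoh Groth.Agent.Props.SubMod Groth.Agent.Props.SubSheaf

noncomputable section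

namespace Groth.Agent.NodalLib

/-- A coherent module with free stalks of rank `r` is a bundle of rank `r`. -/
theorem ofRank_of_stalk {X : Scheme.{u}} [IsLocallyNoetherian X] {M : X.Modules} (hM : Coh.IsCoh M) {r : ℕ}
    (h : ∀ x, Module.Free (X.presheaf.stalk x) (M.presheaf.stalk x) ∧
      Module.finrank (X.presheaf.stalk x) (M.presheaf.stalk x) = r) : FlatMod.IsFinLocFreeOfRank r M := by
  haveI : M.IsQuasicoherent := hM.1
  haveI : SheafOfModules.IsFiniteType.{u} M := hM.2
  intro x
  obtain ⟨U, hU, hxU, -⟩ := exists_isAffineOpen_mem_and_subset (X := X) (Opens.mem_top x)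
  haveI : IsNoetherianRing Γ(X, U) := IsLocallyNoetherian.component_noetherian ⟨U, hU⟩
  haveI := QCoh.finite_sections_of_isFiniteType M hU
  obtain ⟨V, n, hxV, ⟨φ⟩⟩ := Props.QProj.exists_free_nhd M hU hxU (Module.finitePresentation_of_finite _ _) (h x).1
  obtain ⟨e, he⟩ := VBLib.exists_isFrame_of_iso φ
  have hn : n = r := by
    have h1 := (LinearEquiv.ofBijective _ (he.stalkComb_bijective x hxV)).finrank_eq
    rw [(h x).2, Module.finrank_fin_fun] at h1
    exact h1
  subst hn
  exact ⟨V, hxV, ⟨φ⟩⟩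

/-- A family of stalk submodules which is everything off finitely many closed points and contains the
multiples by the maximal ideal is finitely generated. -/
theorem ftOn_of_finite {X : Scheme.{u}} [IsLocallyNoetherian X] {M : X.Modules} (hM : Coh.IsCoh M)
    (S : StalkSub M) {Z : Set X} (hZ : Z.Finite) (hZc : ∀ x ∈ Z, IsClosed ({x} : Set X))
    (hoff : ∀ x ∉ Z, S x = ⊤) (hm : ∀ x ∈ Z, ∀ c ∈ maximalIdeal (X.presheaf.stalk x), ∀ t : M.presheaf.stalk x, c • t ∈ S x) :
    FTOn S ⊤ := by
  classical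
  haveI : M.IsQuasicoherent := hM.1
  haveI : SheafOfModules.IsFiniteType.{u} M := hM.2
  have hgen : ∀ {A : X.Opens} (_ : IsAffineOpen A) (G : Finset Γ(M, A)) (_ : Submodule.span Γ(X, A) (G : Set Γ(M, A)) = ⊤)
      (y : X) (hy : y ∈ A), spanGerm (G : Set Γ(M, A)) y hy = ⊤ := by
    intro A hA G hG y hy
    refine eq_top_iff.2 fun t _ => ?_
    obtain ⟨m, s, hs, hsm⟩ := CycLib.exists_smul_germ_eq M hA hy t
    refine (Submodule.smul_mem_iff_of_isUnit _ hs).1 ?_
    rw [show X.presheaf.germ A y hy s • t = germM M A y hy m from hsm]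
    exact germ_mem_spanGerm_of_mem_span (hG ▸ Submodule.mem_top) y hy
  intro x _
  let W : X.Opens := ⟨(Z \ {x})ᶜ, by
    have : IsClosed (Z \ {x}) := by
      rw [← Set.biUnion_of_singleton (Z \ {x})]
      exact (hZ.subset Set.diff_subset).isClosed_biUnion fun y hy => hZc y hy.1
    exact this.isOpen_compl⟩
  obtain ⟨A, hA, hxA, hAW⟩ := exists_isAffineOpen_mem_and_subset (show x ∈ W from fun h => h.2 rfl)
  haveI : IsNoetherianRing Γ(X, A) := IsLocallyNoetherian.component_noetherian ⟨A, hA⟩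
  haveI := QCoh.finite_sections_of_isFiniteType M hA
  obtain ⟨G, hG⟩ := Module.Finite.fg_top (R := Γ(X, A)) (M := Γ(M, A))
  have hoffA : ∀ y ∈ A, y ≠ x → y ∉ Z := fun y hy hne hyZ => hAW hy ⟨hyZ, hne⟩
  refine ⟨A, hA, hxA, le_top, ?_⟩
  by_cases hxZ : x ∈ Z
  · haveI : IsNoetherian (X.presheaf.stalk x) (M.presheaf.stalk x) := by
      haveI := HomShQC.finite_stalk M hM.2 x
      infer_instance
    obtain ⟨H, hH⟩ := IsNoetherian.noetherian (S x)
    choose m s hs hsm using fun t : M.presheaf.stalk x => CycLib.exists_smul_germ_eq M hA hxA t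
    obtain ⟨P, hP⟩ := IsNoetherian.noetherian ((hA.primeIdealOf ⟨x, hxA⟩).asIdeal : Submodule Γ(X, A) Γ(X, A))
    refine ⟨H.image m ∪ (P ×ˢ G).image (fun p => p.1 • p.2), fun y hy => ?_⟩
    rw [spanGerm, Finset.coe_union, Finset.coe_image, Finset.coe_image, Set.image_union, Submodule.span_union,
      Set.image_image, Set.image_image]
    by_cases hyx : y = x
    · subst hyx
      refine le_antisymm ?_ (sup_le (Submodule.span_le.2 ?_) (Submodule.span_le.2 ?_))
      · rw [← hH]
        refine (Submodule.span_le.2 fun t ht => ?_).trans le_sup_left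
        refine (Submodule.smul_mem_iff_of_isUnit _ (hs t)).1 ?_
        rw [show X.presheaf.germ A y hy (s t) • t = germM M A y hy (m t) from hsm t]
        exact Submodule.subset_span ⟨t, ht, rfl⟩
      · rintro _ ⟨t, ht, rfl⟩
        show germM M A y hy (m t) ∈ S y
        rw [← show X.presheaf.germ A y hy (s t) • t = germM M A y hy (m t) from hsm t]
        exact Submodule.smul_mem _ _ (hH ▸ Submodule.subset_span ht)
      · rintro _ ⟨⟨p, g⟩, hpg, rfl⟩
        show germM M A y hy (p • g) ∈ S y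
        rw [germM_smul]
        refine hm y hxZ _ ?_ _
        intro hu
        have hp : p ∈ (hA.primeIdealOf ⟨y, hy⟩).asIdeal := hP ▸ Submodule.subset_span (Finset.mem_product.1 hpg).1
        exact (CycLib.not_mem_primeIdealOf_iff hA hy p).2 hu hp
    · rw [hoff y (hoffA y hy hyx)]
      refine (eq_top_iff.2 (le_trans ?_ le_sup_right)).symm
      rw [← hgen hA G hG y hy, spanGerm]
      obtain ⟨g₀, hg₀, hyg⟩ := hA.exists_basicOpen_le (V := ⟨({x} : Set X)ᶜ, (hZc x hxZ).isOpen_compl⟩)
        ⟨y, hyx⟩ hy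
      have hg₀P : g₀ ∈ (hA.primeIdealOf ⟨x, hxA⟩).asIdeal := by
        by_contra h
        exact hg₀ ((X.mem_basicOpen g₀ x hxA).2 ((CycLib.not_mem_primeIdealOf_iff hA hxA g₀).1 h)) rfl
      obtain ⟨p, hp, hpu⟩ : ∃ p ∈ P, IsUnit (X.presheaf.germ A y hy p) := by
        by_contra! h
        have hle : Submodule.span Γ(X, A) (P : Set Γ(X, A)) ≤ Ideal.comap (X.presheaf.germ A y hy).hom (maximalIdeal (X.presheaf.stalk y)) :=
          Submodule.span_le.2 fun p hp => h p hp
        rw [hP] at hle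
        exact (hle hg₀P) ((X.mem_basicOpen g₀ y hy).1 hyg)
      refine Submodule.span_le.2 ?_
      rintro _ ⟨g, hg, rfl⟩
      refine (Submodule.smul_mem_iff_of_isUnit _ hpu).1 ?_
      show X.presheaf.germ A y hy p • germM M A y hy g ∈ _
      rw [← germM_smul]
      exact Submodule.subset_span ⟨(p, g), Finset.mem_product.2 ⟨hp, hg⟩, rfl⟩
  · refine ⟨G, fun y hy => ?_⟩
    rw [hgen hA G hG y hy, hoff y fun hyZ => ?_]
    rcases eq_or_ne y x with rfl | h
    · exact hxZ hyZ
    · exact hoffA y hy h hyZ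

/-- The stalks of the subsheaf. -/
theorem range_stalkLin_incl {X : Scheme.{u}} {M : X.Modules} {S : StalkSub M} (hS : FTOn S ⊤) (x : X) :
    LinearMap.range (stalkLin (incl S) x) = S x := by
  refine le_antisymm ?_ ?_
  · rintro _ ⟨t, rfl⟩
    obtain ⟨W, hW, m, rfl⟩ := exists_germM_eq (sub S) x t
    rw [stalkLin_germ]
    exact (mem_range_incl S _).1 ⟨m, rfl⟩ x hW
  · obtain ⟨V, -, hxV, -, T, hT⟩ := hS x trivial
    rw [hT x hxV]
    refine Submodule.span_le.2 ?_
    rintro _ ⟨m, hm, rfl⟩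
    obtain ⟨a, ha⟩ := (mem_range_incl S m).2 fun y hy => by
      rw [hT y hy]
      exact Submodule.subset_span ⟨m, hm, rfl⟩
    exact ⟨germM (sub S) V x hxV a, (stalkLin_germ (incl S) V x hxV a).trans (congrArg _ ha)⟩

/-- The stalk of the subsheaf. -/
def inclEquiv {X : Scheme.{u}} {M : X.Modules} {S : StalkSub M} (hS : FTOn S ⊤) (x : X) :
    (sub S).presheaf.stalk x ≃ₗ[X.presheaf.stalk x] S x :=
  (LinearEquiv.ofInjective (stalkLin (incl S) x) (VBLib.stalkLin_injective (incl S) x)).trans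
    (LinearEquiv.ofEq _ _ (range_stalkLin_incl hS x))

theorem inclEquiv_coe {X : Scheme.{u}} {M : X.Modules} {S : StalkSub M} (hS : FTOn S ⊤) (x : X)
    (t : (sub S).presheaf.stalk x) : (inclEquiv hS x t : M.presheaf.stalk x) = stalkLin (incl S) x t := rfl

section Algebra

variable {R : Type u} [CommRing R] [IsLocalRing R] {F : Type u} [AddCommGroup F] [Module R F] {a b : ℕ}
  (φ : F ≃ₗ[R] (Fin a → R) × (Fin b → maximalIdeal R))

/-- The inclusion of the type model in the free module. -/
def freeIncl : F →ₗ[R] (Fin a → R) × (Fin b → R) :=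
  (LinearMap.id.prodMap (LinearMap.pi fun j => (Submodule.subtype (maximalIdeal R)).comp (LinearMap.proj j))).comp
    φ.toLinearMap

theorem injective_freeIncl_dualMap {s : R} (hs : s ∈ maximalIdeal R) (hreg : ∀ z, s * z = 0 → z = 0) :
    Function.Injective (freeIncl φ).dualMap := by
  classical
  refine (injective_iff_map_eq_zero _).2 fun μ hμ => ?_
  have h : ∀ (c : Fin a → R) (d : Fin b → maximalIdeal R), μ (c, fun j => (d j : R)) = 0 := fun c d => by
    have h := LinearMap.congr_fun hμ (φ.symm (c, d))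
    simp only [LinearMap.dualMap_apply, LinearMap.zero_apply, freeIncl, LinearMap.comp_apply, LinearEquiv.coe_coe,
      LinearEquiv.apply_symm_apply] at h
    exact h
  refine LinearMap.ext fun ⟨c, d⟩ => ?_
  have h1 : μ (c, 0) = 0 := h c 0
  have h2 : μ (0, d) = 0 := hreg _ (by
    rw [← smul_eq_mul, ← map_smul, Prod.smul_mk, smul_zero]
    exact h 0 fun j => ⟨s • d j, (maximalIdeal R).mul_mem_right _ hs⟩)
  have e : (c, d) = ((c, 0) : (Fin a → R) × (Fin b → R)) + (0, d) := by simp
  rw [e, map_add, h1, h2, add_zero, LinearMap.zero_apply]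

theorem smul_mem_range_dualMap {c : R} (hc : c ∈ maximalIdeal R) (l : Module.Dual R F) :
    c • l ∈ LinearMap.range (freeIncl φ).dualMap := by
  classical
  let κ : (Fin a → R) × (Fin b → R) →ₗ[R] (Fin a → R) × (Fin b → maximalIdeal R) :=
    { toFun := fun z => (c • z.1, fun j => ⟨c * z.2 j, (maximalIdeal R).mul_mem_right _ hc⟩)
      map_add' := fun z z' => Prod.ext (smul_add _ _ _) (funext fun j => Subtype.ext (mul_add _ _ _))
      map_smul' := fun t z => Prod.ext (smul_comm _ _ _) (funext fun j => Subtype.ext (mul_left_comm _ _ _)) }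
  refine ⟨l.comp (φ.symm.toLinearMap.comp κ), LinearMap.ext fun f => ?_⟩
  simp only [LinearMap.dualMap_apply, LinearMap.comp_apply, LinearEquiv.coe_coe, LinearMap.smul_apply, ← map_smul]
  refine congrArg l (φ.injective ?_)
  rw [φ.apply_symm_apply, map_smul]
  exact Prod.ext rfl (funext fun j => Subtype.ext rfl)

theorem length_quotient_freeIncl :
    maximalIdeal R • (⊤ : Submodule R (((Fin a → R) × (Fin b → R)) ⧸ LinearMap.range (freeIncl φ))) = ⊥ ∧
      Module.length R (((Fin a → R) × (Fin b → R)) ⧸ LinearMap.range (freeIncl φ)) = b := by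
  classical
  let Φ : (Fin a → R) × (Fin b → R) →ₗ[R] (Fin b → R ⧸ maximalIdeal R) :=
    (LinearMap.pi fun j => (Submodule.mkQ (maximalIdeal R)).comp (LinearMap.proj j)).comp (LinearMap.snd R _ _)
  have hΦ : Function.Surjective Φ := fun v => by
    choose c hc using fun i => Ideal.Quotient.mk_surjective (v i)
    exact ⟨(0, c), funext hc⟩
  have hker : LinearMap.ker Φ = LinearMap.range (freeIncl φ) := by
    refine le_antisymm (fun z hz => ?_) ?_
    · have hz' : ∀ j, z.2 j ∈ maximalIdeal R := fun j => Ideal.Quotient.eq_zero_iff_mem.1 (congrFun (LinearMap.mem_ker.1 hz) j)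
      refine ⟨φ.symm (z.1, fun j => ⟨z.2 j, hz' j⟩), ?_⟩
      simp only [freeIncl, LinearMap.comp_apply, LinearEquiv.coe_coe, LinearEquiv.apply_symm_apply]
      rfl
    · rintro _ ⟨f, rfl⟩
      exact LinearMap.mem_ker.2 (funext fun j => Ideal.Quotient.eq_zero_iff_mem.2 ((φ f).2 j).2)
  refine ⟨eq_bot_iff.2 (Submodule.smul_le.2 fun c hc q _ => ?_), ?_⟩
  · obtain ⟨z, rfl⟩ := Submodule.Quotient.mk_surjective _ q
    rw [Submodule.mem_bot, ← Submodule.Quotient.mk_smul, Submodule.Quotient.mk_eq_zero, ← hker, LinearMap.mem_ker]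
    exact funext fun j => Ideal.Quotient.eq_zero_iff_mem.2 ((maximalIdeal R).mul_mem_right _ hc)
  · rw [← hker, (LinearMap.quotKerEquivOfSurjective Φ hΦ).length_eq, Module.length_pi_of_fintype, length_residue]
    simp

end Algebra

/-- A module of given types at finitely many closed points lies in a bundle with small cokernel. -/
theorem exists_enlarge {X : Scheme.{u}} [IsLocallyNoetherian X] {F : X.Modules} (hF : Coh.IsCoh F) {r : ℕ}
    {Z : Set X} (hZ : Z.Finite) (hZc : ∀ x ∈ Z, IsClosed ({x} : Set X))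
    (hreg : ∀ x ∈ Z, ∃ s ∈ maximalIdeal (X.presheaf.stalk x), ∀ z, s * z = 0 → z = 0) (a : X → ℕ)
    (hfree : ∀ x ∉ Z, Nonempty (F.presheaf.stalk x ≃ₗ[X.presheaf.stalk x] (Fin r → X.presheaf.stalk x)))
    (htype : ∀ x ∈ Z, a x ≤ r ∧ Nonempty (F.presheaf.stalk x ≃ₗ[X.presheaf.stalk x]
        ((Fin (a x) → X.presheaf.stalk x) × (Fin (r - a x) → maximalIdeal (X.presheaf.stalk x))))) :
    ∃ (G : X.Modules) (j : F ⟶ G), FlatMod.IsFinLocFreeOfRank r G ∧
      (∀ x, Function.Injective (stalkLin j x)) ∧ (∀ x ∉ Z, Function.Surjective (stalkLin j x)) ∧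
      ∀ x ∈ Z, maximalIdeal (X.presheaf.stalk x) • (⊤ : Submodule (X.presheaf.stalk x)
          (G.presheaf.stalk x ⧸ LinearMap.range (stalkLin j x))) = ⊥ ∧
        Module.length (X.presheaf.stalk x) (G.presheaf.stalk x ⧸ LinearMap.range (stalkLin j x)) = ((r - a x : ℕ) : ℕ∞) := by
  classical
  have φ := fun x hx => (htype x hx).2.some
  have hfp := HomShQC.isFP_of_isCoh F hF
  have hD := HomShQC.isCoh_dual F hF
  haveI : (RefHull.dual F).IsQuasicoherent := hD.1
  let δ := fun x => HomShQC.dualEquiv F hfp x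
  let Ψ := fun x hx => (δ x).symm.toLinearMap.comp (freeIncl (φ x hx)).dualMap
  let S : StalkSub (RefHull.dual F) := fun x => if h : x ∈ Z then LinearMap.range (Ψ x h) else ⊤
  have hSZ : ∀ x (h : x ∈ Z), S x = LinearMap.range (Ψ x h) := fun x h => dif_pos h
  have hS : FTOn S ⊤ := ftOn_of_finite hD S hZ hZc (fun x h => dif_neg h) fun x hx c hc t => by
    rw [hSZ x hx]
    obtain ⟨μ, hμ⟩ := smul_mem_range_dualMap (φ x hx) hc (δ x t)
    refine ⟨μ, (δ x).injective ?_⟩
    show δ x ((δ x).symm _) = _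
    rw [LinearEquiv.apply_symm_apply, hμ, map_smul]
  have hG' : Coh.IsCoh (sub S) := ⟨isQuasicoherent_sub hS, isFiniteType_sub hS⟩
  have hfp' := HomShQC.isFP_of_isCoh _ hG'
  let j : F ⟶ RefHull.dual (sub S) := RefHull.bidualMap F ≫ VBLib.DualDeg.dualMap (incl S)
  let δ' := fun x => HomShQC.dualEquiv (sub S) hfp' x
  have hj : ∀ x v θ, δ' x (stalkLin j x v) θ = δ x (stalkLin (incl S) x θ) v := by
    intro x v θ
    rw [HomShQC.dualEquiv_apply, HomShQC.dualEquiv_apply, LimTop.stalkLin_comp, VBLib.DualDeg.evalStalk_dualMap]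
    refine congrArg (HomShQC.unitStalk x).symm ?_
    obtain ⟨U, hx, m, rfl⟩ := exists_germM_eq F x v
    rw [stalkLin_germ, LinearMap.comp_apply]
    refine (congrArg (fun l : _ →ₗ[X.presheaf.stalk x] _ => l (stalkLin (incl S) x θ))
      (RefHull.evalStalk_germ (RefHull.dual F) (Coh.structureModule X) x hx _)).trans ?_
    rfl
  -- the stalks of the subsheaf and of its dual
  have key : ∀ x, ∃ (T : Type u) (_ : AddCommGroup T) (_ : Module (X.presheaf.stalk x) T)
      (_ : Module.Free (X.presheaf.stalk x) T) (_ : Module.Finite (X.presheaf.stalk x) T)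
      (ι : F.presheaf.stalk x →ₗ[X.presheaf.stalk x] T)
      (e : (sub S).presheaf.stalk x ≃ₗ[X.presheaf.stalk x] Module.Dual (X.presheaf.stalk x) T),
      Module.finrank (X.presheaf.stalk x) T = r ∧
      (∀ θ v, δ x (stalkLin (incl S) x θ) v = e θ (ι v)) ∧ Function.Injective ι ∧
      (x ∉ Z → Function.Surjective ι) ∧
      (x ∈ Z → maximalIdeal (X.presheaf.stalk x) • (⊤ : Submodule (X.presheaf.stalk x) (T ⧸ LinearMap.range ι)) = ⊥ ∧
        Module.length (X.presheaf.stalk x) (T ⧸ LinearMap.range ι) = ((r - a x : ℕ) : ℕ∞)) := by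
    intro x
    by_cases hx : x ∈ Z
    · obtain ⟨s, hs, hsreg⟩ := hreg x hx
      have hΨ : Function.Injective (Ψ x hx) :=
        (δ x).symm.injective.comp (injective_freeIncl_dualMap (φ x hx) hs hsreg)
      let e := ((inclEquiv hS x).trans (LinearEquiv.ofEq _ _ (hSZ x hx))).trans (LinearEquiv.ofInjective (Ψ x hx) hΨ).symm
      refine ⟨_, inferInstance, inferInstance, inferInstance, inferInstance, freeIncl (φ x hx), e, ?_, fun θ v => ?_, ?_,
        fun h => (h hx).elim, fun _ => length_quotient_freeIncl (φ x hx)⟩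
      · rw [Module.finrank_prod, Module.finrank_fin_fun, Module.finrank_fin_fun]
        exact Nat.add_sub_cancel' (htype x hx).1
      · have h1 : Ψ x hx (e θ) = stalkLin (incl S) x θ := by
          have h2 := (LinearEquiv.ofInjective (Ψ x hx) hΨ).apply_symm_apply
            (((inclEquiv hS x).trans (LinearEquiv.ofEq _ _ (hSZ x hx))) θ)
          exact congrArg Subtype.val h2
        rw [← h1]
        show δ x ((δ x).symm _) v = _
        rw [LinearEquiv.apply_symm_apply]
        rfl
      · intro v w h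
        refine (φ x hx).injective ?_
        exact Prod.ext (congrArg Prod.fst h :) (funext fun i => Subtype.ext (congrFun (congrArg Prod.snd h :) i))
    · obtain ⟨φ'⟩ := hfree x hx
      haveI : Module.Free (X.presheaf.stalk x) (F.presheaf.stalk x) := Module.Free.of_equiv φ'.symm
      haveI : Module.Finite (X.presheaf.stalk x) (F.presheaf.stalk x) := HomShQC.finite_stalk F hF.2 x
      let e := (((inclEquiv hS x).trans (LinearEquiv.ofEq _ _ (dif_neg hx : S x = ⊤))).trans Submodule.topEquiv).trans (δ x)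
      refine ⟨_, inferInstance, inferInstance, inferInstance, inferInstance, LinearMap.id, e, ?_, fun θ v => rfl,
        Function.injective_id, fun _ => Function.surjective_id, fun h => (hx h).elim⟩
      rw [φ'.finrank_eq, Module.finrank_fin_fun]
  have hG := HomShQC.isCoh_dual _ hG'
  refine ⟨RefHull.dual (sub S), j, ofRank_of_stalk hG fun x => ?_, ?_⟩
  · obtain ⟨T, _, _, _, _, ι, e, hT, -⟩ := key x
    let E := ((δ' x).trans e.symm.dualMap).trans (Module.evalEquiv (X.presheaf.stalk x) T).symm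
    exact ⟨Module.Free.of_equiv E.symm, E.finrank_eq.trans hT⟩
  have hfac : ∀ x, ∃ (T : Type u) (_ : AddCommGroup T) (_ : Module (X.presheaf.stalk x) T)
      (ι : F.presheaf.stalk x →ₗ[X.presheaf.stalk x] T)
      (E : (RefHull.dual (sub S)).presheaf.stalk x ≃ₗ[X.presheaf.stalk x] T),
      (∀ v, E (stalkLin j x v) = ι v) ∧ Function.Injective ι ∧ (x ∉ Z → Function.Surjective ι) ∧
      (x ∈ Z → maximalIdeal (X.presheaf.stalk x) • (⊤ : Submodule (X.presheaf.stalk x) (T ⧸ LinearMap.range ι)) = ⊥ ∧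
        Module.length (X.presheaf.stalk x) (T ⧸ LinearMap.range ι) = ((r - a x : ℕ) : ℕ∞)) := by
    intro x
    obtain ⟨T, _, _, _, _, ι, e, -, he, hi, hs, hl⟩ := key x
    refine ⟨T, inferInstance, inferInstance, ι, ((δ' x).trans e.symm.dualMap).trans (Module.evalEquiv (X.presheaf.stalk x) T).symm,
      fun v => ?_, hi, hs, hl⟩
    rw [LinearEquiv.trans_apply, LinearEquiv.symm_apply_eq]
    refine LinearMap.ext fun μ => ?_
    rw [LinearEquiv.trans_apply, LinearEquiv.dualMap_apply, hj, he, LinearEquiv.apply_symm_apply]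
    rfl
  refine ⟨fun x => ?_, fun x hx => ?_, fun x hx => ?_⟩
  · obtain ⟨T, _, _, ι, E, hE, hi, -⟩ := hfac x
    intro v w h
    exact hi (by rw [← hE, ← hE, h])
  · obtain ⟨T, _, _, ι, E, hE, -, hs, -⟩ := hfac x
    intro t
    obtain ⟨v, hv⟩ := hs hx (E t)
    exact ⟨v, E.injective ((hE v).trans hv)⟩
  · obtain ⟨T, _, _, ι, E, hE, -, -, hl⟩ := hfac x
    obtain ⟨hk, hlen⟩ := hl hx
    let Q := Submodule.Quotient.equiv (LinearMap.range (stalkLin j x)) (LinearMap.range ι) E (by
      rw [← LinearMap.range_comp]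
      exact congrArg LinearMap.range (LinearMap.ext hE))
    refine ⟨eq_bot_iff.2 (Submodule.smul_le.2 fun c hc q _ => ?_), Q.length_eq.trans hlen⟩
    rw [Submodule.mem_bot]
    refine Q.injective ?_
    rw [map_smul, map_zero, ← Submodule.mem_bot (X.presheaf.stalk x), ← hk]
    exact Submodule.smul_mem_smul hc Submodule.mem_top

end Groth.Agent.NodalLib
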