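import Groth.Agent.StrictSSLib.NodeRegular
import Groth.Agent.StrictSSLib.NodeAlgebra

/-!
# The normalisation of a node has colength one
-/

set_option autoImplicit false
set_option linter.style.haveILetI false

universe u

open IsLocalRing
open scoped TensorProduct
open Groth.Agent.StrictSSLib

noncomputable section

namespace Groth.Agent.NodalLib

variable {K : Type u} [Field K]

/-- The series of the node with given axes. -/
theorem exists_node_axes (f : Fin 2 → PowerSeries K)
    (h : PowerSeries.constantCoeff (f 0) = PowerSeries.constantCoeff (f 1)) :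
    ∃ n : FormalNode K, ∀ i, nodeAxis i n = f i := by
  classical
  let g : MvPowerSeries (Fin 2) K := fun d => if d 1 = 0 then PowerSeries.coeff (d 0) (f 0)
    else if d 0 = 0 then PowerSeries.coeff (d 1) (f 1) else 0
  refine ⟨Ideal.Quotient.mk _ g, fun i => PowerSeries.ext fun n => ?_⟩
  rw [nodeAxis_mk, axisSeries, RingHom.coe_mk, MonoidHom.coe_mk, OneHom.coe_mk, PowerSeries.coeff_mk,
    MvPowerSeries.coeff_apply]
  fin_cases i
  · simp [g]
  · rcases eq_or_ne n 0 with rfl | hn
    · simpa [g, PowerSeries.coeff_zero_eq_constantCoeff_apply] using h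
    · simp [g, hn]

/-- Two series with different constants span all pairs over the node. -/
theorem exists_node_comb (f t : Fin 2 → PowerSeries K)
    (h : PowerSeries.constantCoeff (f 0) ≠ PowerSeries.constantCoeff (f 1)) :
    ∃ n n' : FormalNode K, ∀ i, nodeAxis i n + nodeAxis i n' * f i = t i := by
  let c : K := (PowerSeries.constantCoeff (t 0) - PowerSeries.constantCoeff (t 1)) /
    (PowerSeries.constantCoeff (f 0) - PowerSeries.constantCoeff (f 1))
  obtain ⟨n', hn'⟩ := exists_node_axes (fun _ => PowerSeries.C c) rfl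
  obtain ⟨n, hn⟩ := exists_node_axes (fun i => t i - PowerSeries.C c * f i) (by
    have h0 := sub_ne_zero.2 h
    simp only [map_sub, map_mul, PowerSeries.constantCoeff_C, c]
    field_simp
    ring)
  exact ⟨n, n', fun i => by rw [hn, hn']; ring⟩

variable {A : Type u} [CommRing A] [Algebra A (FormalNode K)]

/-- A regular element of the base stays nonzero on the axes. -/
theorem nodeAxis_ne_zero [Module.Flat A (FormalNode K)] {s : A} (hs : ∀ a : A, s * a = 0 → a = 0) (i : Fin 2) :
    nodeAxis i (algebraMap A (FormalNode K) s) ≠ 0 := by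
  intro h
  have hreg : IsSMulRegular A s := fun a b hab => by
    simp only [smul_eq_mul] at hab
    exact sub_eq_zero.1 (hs _ (by rw [mul_sub, hab, sub_self]))
  have hN : IsSMulRegular (FormalNode K ⊗[A] A) s := IsSMulRegular.lTensor (M := FormalNode K) hreg
  have h0 : algebraMap A (FormalNode K) s * gen i = 0 := node_ext fun j => by
    rcases eq_or_ne j i with rfl | hji
    · rw [map_mul, h, zero_mul]
    · rw [map_mul, nodeAxis_gen_ne hji.symm, mul_zero]
  have h1 : gen (K := K) i = 0 := (TensorProduct.rid A (FormalNode K)).symm.injective (hN (by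
    show s • (TensorProduct.rid A (FormalNode K)).symm (gen i) = s • (TensorProduct.rid A (FormalNode K)).symm 0
    rw [← map_smul, ← map_smul, Algebra.smul_def, h0]
    simp))
  have h2 := congrArg (nodeAxis (K := K) i) h1
  rw [nodeAxis_gen, map_zero] at h2
  exact PowerSeries.X_ne_zero h2

variable [Module.FaithfullyFlat A (FormalNode K)]
variable {M : Type u} [AddCommGroup M] [Module A M]

/-- A module between the node and its normalisation has colength at most one. -/
theorem node_simple (e : M) (s : A) (hs : ∀ i, nodeAxis i (algebraMap A (FormalNode K) s) ≠ 0)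
    (he : Function.Injective fun a : A => a • e) (hreg : Function.Injective fun m : M => s • m)
    (hsM : ∀ m : M, ∃ a : A, s • m = a • e)
    (hint : ∀ (m : M) (a : A), s • m = a • e → ∀ i,
      nodeAxis i (algebraMap A (FormalNode K) s) ∣ nodeAxis i (algebraMap A (FormalNode K) a)) :
    ∀ z : M, z ∉ Submodule.span A {e} → ∀ w : M, ∃ a b : A, w = a • e + b • z := by
  choose μ₀ hμ₀ using hsM
  let μ : M →ₗ[A] A :=
    { toFun := μ₀
      map_add' := fun x y => he (by simp only [← hμ₀, add_smul, smul_add])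
      map_smul' := fun c x => he (by
        simp only [RingHom.id_apply, smul_eq_mul]
        rw [← hμ₀, mul_smul, ← hμ₀, smul_comm]) }
  have hμe : μ e = s := he (hμ₀ e).symm
  have hμinj : Function.Injective μ := fun x y h => hreg (by
    show s • x = s • y
    rw [hμ₀, hμ₀]
    exact congrArg (· • e) h)
  let N := FormalNode K
  let θ : N ⊗[A] M →ₗ[N] N :=
    ((Algebra.TensorProduct.rid A N N).toLinearMap).comp (LinearMap.baseChange N μ)
  have hθ : Function.Injective θ :=
    (Algebra.TensorProduct.rid A N N).toLinearEquiv.injective.comp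
      (Module.Flat.lTensor_preserves_injective_linearMap μ hμinj)
  have hθt : ∀ (n : N) (m : M), θ (n ⊗ₜ m) = μ m • n := fun n m => by simp [θ]
  have hdiv : ∀ (x : N ⊗[A] M) (i : Fin 2), ∃ q, nodeAxis i (θ x) = nodeAxis i (algebraMap A N s) * q := by
    intro x i
    induction x using TensorProduct.induction_on with
    | zero => exact ⟨0, by simp⟩
    | tmul n m =>
      obtain ⟨q, hq⟩ := hint m (μ m) (hμ₀ m) i
      exact ⟨q * nodeAxis i n, by rw [hθt, Algebra.smul_def, map_mul, hq, mul_assoc]⟩
    | add p q hp hq =>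
      obtain ⟨a, ha⟩ := hp
      obtain ⟨b, hb⟩ := hq
      exact ⟨a + b, by rw [map_add, map_add, ha, hb, mul_add]⟩
  choose β hβ using hdiv
  have hext : ∀ x y : N ⊗[A] M, (∀ i, β x i = β y i) → x = y := fun x y h => hθ (sub_eq_zero.1
    (node_ext fun i => by rw [map_sub, hβ, hβ, h, sub_self]))
  have hcomb : ∀ (n n' : N) (x y : N ⊗[A] M) (i : Fin 2),
      β (n • x + n' • y) i = nodeAxis i n * β x i + nodeAxis i n' * β y i := fun n n' x y i =>
    mul_left_cancel₀ (hs i) (by
      rw [← hβ, map_add, map_smul, map_smul, smul_eq_mul, smul_eq_mul, map_add, map_mul, map_mul, hβ, hβ]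
      ring)
  let o : N ⊗[A] M := 1 ⊗ₜ e
  have hβo : ∀ i, β o i = 1 := fun i => mul_left_cancel₀ (hs i) (by
    rw [← hβ, hθt, hμe, mul_one, Algebra.smul_def, mul_one])
  intro z hz w
  by_cases hc : PowerSeries.constantCoeff (β (1 ⊗ₜ z) 0) = PowerSeries.constantCoeff (β (1 ⊗ₜ z) 1)
  · exfalso
    refine hz ?_
    obtain ⟨n, hn⟩ := exists_node_axes (β (1 ⊗ₜ z)) hc
    have h1 : (1 : N) ⊗ₜ[A] z = n • o := hext _ _ fun i => by
      have h2 : β (n • o) i = nodeAxis i n * β o i := mul_left_cancel₀ (hs i) (by
        rw [← hβ, map_smul, smul_eq_mul, map_mul, hβ]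
        ring)
      rw [h2, hβo, mul_one, hn]
    let Q := M ⧸ Submodule.span A {e}
    have h2 := congrArg (LinearMap.baseChange N (Submodule.span A {e}).mkQ) h1
    rw [map_smul, LinearMap.baseChange_tmul, LinearMap.baseChange_tmul,
      show (Submodule.span A {e}).mkQ e = 0 from (Submodule.Quotient.mk_eq_zero _).2 (Submodule.mem_span_singleton_self e),
      TensorProduct.tmul_zero, smul_zero] at h2
    exact (Submodule.Quotient.mk_eq_zero _).1
      (Module.FaithfullyFlat.tensorProduct_mk_injective (B := N) Q (h2.trans (TensorProduct.tmul_zero _ _).symm))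
  · obtain ⟨n, n', hn⟩ := exists_node_comb (β (1 ⊗ₜ z)) (β (1 ⊗ₜ w)) hc
    have h1 : (1 : N) ⊗ₜ[A] w = n • o + n' • ((1 : N) ⊗ₜ[A] z) := hext _ _ fun i => by
      rw [hcomb, hβo, mul_one, hn]
    let W := Submodule.span A ({e, z} : Set M)
    have h2 := congrArg (LinearMap.baseChange N W.mkQ) h1
    rw [map_add, map_smul, map_smul, LinearMap.baseChange_tmul, LinearMap.baseChange_tmul, LinearMap.baseChange_tmul,
      show W.mkQ e = 0 from (Submodule.Quotient.mk_eq_zero _).2 (Submodule.subset_span (by simp)),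
      show W.mkQ z = 0 from (Submodule.Quotient.mk_eq_zero _).2 (Submodule.subset_span (by simp)),
      TensorProduct.tmul_zero, smul_zero, smul_zero, add_zero] at h2
    obtain ⟨a, b, hab⟩ := Submodule.mem_span_pair.1 ((Submodule.Quotient.mk_eq_zero W).1
      (Module.FaithfullyFlat.tensorProduct_mk_injective (B := N) (M ⧸ W) (h2.trans (TensorProduct.tmul_zero _ _).symm)))
    exact ⟨a, b, hab.symm⟩

omit [Algebra A (FormalNode K)] [Module.FaithfullyFlat A (FormalNode K)] in
/-- The colength is one if some element is outside. -/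
theorem length_quotient_eq_one (e : M) {z : M} (hz : z ∉ Submodule.span A {e})
    (h : ∀ z : M, z ∉ Submodule.span A {e} → ∀ w : M, ∃ a b : A, w = a • e + b • z) :
    Module.length A (M ⧸ Submodule.span A {e}) = 1 := by
  haveI : Nontrivial (M ⧸ Submodule.span A {e}) :=
    ⟨⟨Submodule.Quotient.mk z, 0, fun h0 => hz ((Submodule.Quotient.mk_eq_zero _).1 h0)⟩⟩
  haveI : IsSimpleModule A (M ⧸ Submodule.span A {e}) := isSimpleModule_iff_toSpanSingleton_surjective.2
    ⟨inferInstance, fun q hq r => by
      obtain ⟨y, rfl⟩ := Submodule.Quotient.mk_surjective _ q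
      obtain ⟨w, rfl⟩ := Submodule.Quotient.mk_surjective _ r
      obtain ⟨a, b, rfl⟩ := h y (fun hy => hq ((Submodule.Quotient.mk_eq_zero _).2 hy)) w
      refine ⟨b, ?_⟩
      rw [LinearMap.toSpanSingleton_apply, ← Submodule.Quotient.mk_smul, Submodule.Quotient.eq]
      rw [sub_add_cancel_right, ← neg_smul]
      exact Submodule.smul_mem _ _ (Submodule.mem_span_singleton_self e)⟩
  exact Module.length_eq_one A _

omit [Algebra A (FormalNode K)] [Module.FaithfullyFlat A (FormalNode K)] in
/-- Integral fractions in an integrally closed domain. -/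
theorem dvd_of_root {R D : Type*} [CommRing R] [CommRing D] [IsDomain D] [IsIntegrallyClosed D] (g : R →+* D)
    {s a : R} (hs : g s ≠ 0) {p : Polynomial R} (hp : p.Monic) (h : (p.scaleRoots s).eval a = 0) : g s ∣ g a := by
  let L := FractionRing D
  let ψ : R →+* L := (algebraMap D L).comp g
  have hs0 : ψ s ≠ 0 := fun h0 => hs (IsFractionRing.injective D L (h0.trans (map_zero (algebraMap D L)).symm))
  have h1 := Polynomial.scaleRoots_eval₂_mul (p := p) ψ (ψ a / ψ s) s
  rw [mul_div_cancel₀ _ hs0, Polynomial.eval₂_at_apply, h, map_zero, eq_comm, mul_eq_zero] at h1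
  have h2 : p.eval₂ ψ (ψ a / ψ s) = 0 := h1.resolve_left (pow_ne_zero _ hs0)
  have hint : IsIntegral D (ψ a / ψ s) := ⟨p.map g, hp.map g, by rw [Polynomial.eval₂_map]; exact h2⟩
  obtain ⟨y, hy⟩ := IsIntegrallyClosed.isIntegral_iff.1 hint
  refine ⟨y, IsFractionRing.injective D L ?_⟩
  show ψ a = _
  rw [map_mul, hy]
  show ψ a = ψ s * _
  rw [mul_div_cancel₀ _ hs0]

omit [Algebra A (FormalNode K)] [Module.FaithfullyFlat A (FormalNode K)] in
/-- The maximal ideal of the node is not principal. -/
theorem node_not_principal (t : FormalNode K) : maximalIdeal (FormalNode K) ≠ Ideal.span {t} := by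
  intro h
  have hg : ∀ i, ∃ u, gen (K := K) i = t * u := fun i => by
    have : gen (K := K) i ∈ Ideal.span {t} := by
      rw [← h, maximalIdeal_formalNode]
      exact Ideal.subset_span (by fin_cases i <;> simp)
    obtain ⟨u, hu⟩ := Ideal.mem_span_singleton'.1 this
    exact ⟨u, by rw [← hu, mul_comm]⟩
  obtain ⟨u, hu⟩ := hg 0
  obtain ⟨v, hv⟩ := hg 1
  have ha := congrArg (nodeAxis (K := K) 1) hu
  have hb := congrArg (nodeAxis (K := K) 1) hv
  have hc := congrArg (nodeAxis (K := K) 0) hu
  rw [map_mul, nodeAxis_gen_ne (by decide : (0 : Fin 2) ≠ 1)] at ha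
  rw [map_mul, nodeAxis_gen] at hb
  rw [map_mul, nodeAxis_gen] at hc
  have ht1 : nodeAxis 1 t ≠ 0 := fun h0 => PowerSeries.X_ne_zero (by rw [hb, h0, zero_mul])
  have hu1 : nodeAxis 1 u = 0 := (mul_eq_zero.1 ha.symm).resolve_left ht1
  have hu0 : ¬ IsUnit u := fun hu' => not_isUnit_zero (hu1 ▸ hu'.map (nodeAxis 1))
  have htm : t ∈ maximalIdeal (FormalNode K) := h ▸ Ideal.mem_span_singleton_self t
  have hum : u ∈ maximalIdeal (FormalNode K) := hu0
  have hcc : ∀ x ∈ maximalIdeal (FormalNode K), PowerSeries.constantCoeff (nodeAxis 0 x) = 0 := fun x hx => by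
    rw [maximalIdeal_formalNode, Ideal.mem_span_pair] at hx
    obtain ⟨p, q, rfl⟩ := hx
    rw [map_add, map_mul, map_mul, nodeAxis_gen, nodeAxis_gen_ne (by decide : (1 : Fin 2) ≠ 0), mul_zero, add_zero,
      map_mul, PowerSeries.constantCoeff_X, mul_zero]
  have h5 := congrArg (PowerSeries.coeff 1) hc
  rw [PowerSeries.coeff_one_X, PowerSeries.coeff_one_mul, hcc t htm, hcc u hum, mul_zero, mul_zero, add_zero] at h5
  exact one_ne_zero h5

end Groth.Agent.NodalLib
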