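import Groth.Agent.NodalLib.NodeSplit
import Groth.Agent.HilbPolyX.Section
import Groth.Agent.EulerChar.PointCount
import Groth.Agent.CartInt.Main
import Groth.Agent.GGDesc.Basic
import Groth.Agent.DimOneAmple.Main
import Groth.Agent.Props.QProj
import Groth.Agent.LFDesc.Invertible

/-!
# Degrees of tensor products of rank-one modules
-/

set_option autoImplicit false
set_option linter.style.haveILetI false

universe u

open CategoryTheory Limits AlgebraicGeometry Opposite TopologicalSpace IsLocalRing
open Groth.Agent.PullStalk.Sky Groth.Agent.PullStalk.Exact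
open Groth.Agent.Props.GenLocus Groth.Agent.QCoh Groth.Agent.KFlat.StalkTensor
open scoped TensorProduct

noncomputable section

namespace Groth.Agent.NodalLib

variable {X : Scheme.{u}}

/-- The stalk is free of rank one. -/
def Free1 (F : X.Modules) (x : X) : Prop :=
  Nonempty (X.presheaf.stalk x ≃ₗ[X.presheaf.stalk x] F.presheaf.stalk x)

/-- The germ of `1`. -/
def oneGerm (x : X) : (Coh.structureModule X).presheaf.stalk x :=
  germM (Coh.structureModule X) ⊤ x trivial (one' ⊤)

theorem exists_smul_oneGerm (x : X) (t : (Coh.structureModule X).presheaf.stalk x) :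
    ∃ r : X.presheaf.stalk x, t = r • oneGerm x := by
  obtain ⟨U, hx, a, rfl⟩ := exists_germM_eq (Coh.structureModule X) x t
  refine ⟨X.presheaf.germ U x hx a, ?_⟩
  have h1 : germM (Coh.structureModule X) U x hx (one' U) = oneGerm x := by
    rw [show one' U = res (Coh.structureModule X) (le_top : U ≤ ⊤) (one' ⊤) from
      ((rres (le_top : U ≤ ⊤)).hom.map_one).symm]
    exact GGDesc.germM_res_eq _ le_top x hx _
  rw [← h1, ← germM_smul]
  exact congrArg _ (mul_one (show Γ(X, U) from a)).symm

/-- The germ of a section. -/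
def secGerm {F : X.Modules} (s : Coh.structureModule X ⟶ F) (x : X) : F.presheaf.stalk x :=
  germM F ⊤ x trivial (sec s ⊤)

theorem stalkLin_smul_oneGerm {F : X.Modules} (s : Coh.structureModule X ⟶ F) (x : X) (r : X.presheaf.stalk x) :
    stalkLin s x (r • oneGerm x) = r • secGerm s x := by
  rw [map_smul, oneGerm, stalkLin_germ]
  rfl

theorem secGerm_homOfSec {F : X.Modules} (σ : Γ(F, ⊤)) (x : X) :
    secGerm (homOfSec σ) x = germM F ⊤ x trivial σ := by
  rw [secGerm, sec_homOfSec, GGDesc.germM_res_eq]

/-- A section whose germ is a basis is bijective on the stalk. -/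
theorem bijective_of_isUnit {F : X.Modules} (s : Coh.structureModule X ⟶ F) {x : X}
    (e : X.presheaf.stalk x ≃ₗ[X.presheaf.stalk x] F.presheaf.stalk x) (h : IsUnit (e.symm (secGerm s x))) :
    Function.Bijective (stalkLin s x) := by
  obtain ⟨w, hw⟩ := h
  have he : ∀ r, e.symm (r • secGerm s x) = r * w := fun r => by rw [map_smul, ← hw, smul_eq_mul]
  refine ⟨(injective_iff_map_eq_zero _).2 fun t ht => ?_, fun y => ?_⟩
  · obtain ⟨r, rfl⟩ := exists_smul_oneGerm x t
    rw [stalkLin_smul_oneGerm] at ht
    have h1 := he r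
    rw [ht, map_zero] at h1
    rw [(Units.mul_left_eq_zero _).mp h1.symm, zero_smul]
  · refine ⟨(e.symm y * (↑w⁻¹ : X.presheaf.stalk x)) • oneGerm x, e.symm.injective ?_⟩
    rw [stalkLin_smul_oneGerm, he, mul_assoc, Units.inv_mul, mul_one]

/-- Sections generating at finitely many points. -/
theorem exists_section_bijective (k : Type u) [Field k] [Infinite k] [X.Over (Spec (CommRingCat.of k))]
    {N : X.Modules} (hN : Curv2.IsGloballyGenerated N) (T : Finset X) (hT : ∀ x ∈ T, Free1 N x) :
    ∃ s : Coh.structureModule X ⟶ N, ∀ x ∈ T, Function.Bijective (stalkLin s x) := by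
  classical
  let γ : k →+* Γ(X, ⊤) := Coh.toGlobal (X ↘ Spec (CommRingCat.of k))
  suffices h : ∃ σ : Γ(N, ⊤), ∀ x ∈ T, ∀ e : X.presheaf.stalk x ≃ₗ[X.presheaf.stalk x] N.presheaf.stalk x,
      IsUnit (e.symm (germM N ⊤ x trivial σ)) by
    obtain ⟨σ, hσ⟩ := h
    refine ⟨homOfSec σ, fun x hx => ?_⟩
    obtain ⟨e⟩ := hT x hx
    exact bijective_of_isUnit _ e (by rw [secGerm_homOfSec]; exact hσ x hx e)
  induction T using Finset.induction with
  | empty => exact ⟨0, by simp⟩
  | insert a T haT ih =>
    obtain ⟨σ, hσ⟩ := ih fun x hx => hT x (Finset.mem_insert_of_mem hx)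
    obtain ⟨ea⟩ := hT a (Finset.mem_insert_self a T)
    obtain ⟨τ, hτ⟩ : ∃ τ : Γ(N, ⊤), IsUnit (ea.symm (germM N ⊤ a trivial τ)) := by
      by_contra! hc
      have hle : GGDesc.globSpan N a ≤ Submodule.comap ea.symm.toLinearMap (maximalIdeal (X.presheaf.stalk a)) :=
        Submodule.span_le.2 (by rintro _ ⟨τ, rfl⟩; exact hc τ)
      rw [GGDesc.globSpan_eq_top hN a] at hle
      have h1 : ea.symm (ea 1) ∈ maximalIdeal (X.presheaf.stalk a) := hle (Submodule.mem_top (x := ea 1))
      rw [LinearEquiv.symm_apply_apply] at h1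
      exact h1 isUnit_one
    let bad : X → Set k := fun x => {c | ∃ e : X.presheaf.stalk x ≃ₗ[X.presheaf.stalk x] N.presheaf.stalk x,
      ¬ IsUnit (e.symm (germM N ⊤ x trivial (σ + γ c • τ)))}
    -- changing the trivialisation multiplies by a unit
    have hchange : ∀ (x : X) (e e' : X.presheaf.stalk x ≃ₗ[X.presheaf.stalk x] N.presheaf.stalk x) v,
        IsUnit (e.symm v) → IsUnit (e'.symm v) := fun x e e' v hv => by
      obtain ⟨t, ht⟩ := (e'.trans e.symm).surjective 1
      have hm : ∀ r, e.symm (e' r) = r * e.symm (e' 1) := fun r => by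
        rw [← smul_eq_mul, ← map_smul, ← map_smul, smul_eq_mul, mul_one]
      have h1 := hm (e'.symm v)
      rw [LinearEquiv.apply_symm_apply] at h1
      rw [h1] at hv
      exact (IsUnit.mul_iff.mp hv).1
    have hsub : ∀ x ∈ insert a T, (bad x).Subsingleton := by
      intro x hx c₁ h1 c₂ h2
      obtain ⟨e⟩ := hT x hx
      by_contra hne
      let g : k →+* X.presheaf.stalk x := (X.presheaf.germ ⊤ x trivial).hom.comp γ
      have hval : ∀ c, e.symm (germM N ⊤ x trivial (σ + γ c • τ)) =
          e.symm (germM N ⊤ x trivial σ) + g c * e.symm (germM N ⊤ x trivial τ) := fun c => by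
        have h : germM N ⊤ x trivial (σ + γ c • τ) = germM N ⊤ x trivial σ + g c • germM N ⊤ x trivial τ :=
          (map_add _ _ _).trans (congrArg (germM N ⊤ x trivial σ + ·) (germM_smul N ⊤ x trivial (γ c) τ))
        rw [h, map_add, map_smul, smul_eq_mul]
      have hmem : ∀ c ∈ bad x, e.symm (germM N ⊤ x trivial σ) + g c * e.symm (germM N ⊤ x trivial τ) ∈
          maximalIdeal (X.presheaf.stalk x) := fun c ⟨e', he'⟩ => by
        rw [← hval]
        exact fun h => he' (hchange x e e' _ h)
      have h3 := sub_mem (hmem _ h1) (hmem _ h2)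
      rw [show ∀ p q₁ q₂ r : X.presheaf.stalk x, p + q₁ * r - (p + q₂ * r) = (q₁ - q₂) * r from
        fun p q₁ q₂ r => by ring, ← map_sub] at h3
      have hτm : e.symm (germM N ⊤ x trivial τ) ∈ maximalIdeal (X.presheaf.stalk x) :=
        ((maximalIdeal.isMaximal _).isPrime.mem_or_mem h3).resolve_left fun h =>
          h ((IsUnit.mk0 _ (sub_ne_zero.2 hne)).map g)
      have hσm : e.symm (germM N ⊤ x trivial σ) ∈ maximalIdeal (X.presheaf.stalk x) := by
        have h4 := sub_mem (hmem _ h1) (Ideal.mul_mem_left _ (g c₁) hτm)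
        rwa [add_sub_cancel_right] at h4
      rcases Finset.mem_insert.mp hx with rfl | hxT
      · exact hτm (hchange _ ea e _ hτ)
      · exact hσm (hσ x hxT e)
    obtain ⟨c, hc⟩ := ((Finset.finite_toSet (insert a T)).biUnion fun x hx => (hsub x hx).finite).exists_notMem
    refine ⟨σ + γ c • τ, fun x hx e => ?_⟩
    by_contra h
    exact hc (Set.mem_biUnion (Finset.mem_coe.2 hx) ⟨e, h⟩)

/-- On a reduced scheme a section bijective at the maximal points is injective. -/
theorem injective_of_generic [IsReduced X] {N : X.Modules} (s : Coh.structureModule X ⟶ N)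
    (hs : ∀ η : X, (∀ y, y ⤳ η → η ⤳ y) → Function.Bijective (stalkLin s η)) (x : X) :
    Function.Injective (stalkLin s x) := by
  refine (injective_iff_map_eq_zero _).2 fun t ht => ?_
  obtain ⟨U, hx, a, rfl⟩ := exists_germM_eq (Coh.structureModule X) x t
  rw [stalkLin_germ] at ht
  obtain ⟨V, hxV, i, i', he⟩ := N.presheaf.germ_eq x hx hx (s.app U a) 0 (ht.trans (map_zero _).symm)
  rw [map_zero] at he
  let b : Γ(Coh.structureModule X, V) := res (Coh.structureModule X) (leOfHom i) a
  have hb : s.app V b = 0 := by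
    exact (app_res s (leOfHom i) a).trans he
  have h0 : (b : Γ(X, V)) = 0 := by
    refine (basicOpen_eq_bot_iff (show Γ(X, V) from b)).1 (eq_bot_iff.2 fun z hz => ?_)
    obtain ⟨η, hη, hmax⟩ := DimOneAmple.exists_maximal_specializes z
    have hzη : η ∈ X.basicOpen (b : Γ(X, V)) := hη.mem_open (X.basicOpen _).2 hz
    have hηV : η ∈ V := X.basicOpen_le _ hzη
    have h1 : germM (Coh.structureModule X) V η hηV b = 0 := (hs η fun y hy => (DimOneAmple.mem_genericPoints_iff.mp hmax y hy).symm ▸ specializes_refl _).1 (by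
      rw [stalkLin_germ, map_zero]
      exact (congrArg (fun t => germM N V η hηV t) hb).trans (map_zero _))
    obtain ⟨W, hηW, j, j', hj⟩ := (Coh.structureModule X).presheaf.germ_eq η hηV hηV b 0
      (h1.trans (map_zero _).symm)
    have h2 : X.presheaf.germ V η hηV (show Γ(X, V) from b) = 0 := by
      rw [← X.presheaf.germ_res_apply j η hηW]
      have h3 : X.presheaf.map j.op (show Γ(X, V) from b) = 0 := hj.trans (map_zero _)
      exact (congrArg (fun t => X.presheaf.germ W η hηW t) h3).trans (map_zero _)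
    exact (not_isUnit_zero (h2 ▸ (X.mem_basicOpen _ η hηV).1 hzη)).elim
  rw [← GGDesc.germM_res_eq (Coh.structureModule X) (leOfHom i) x hxV a]
  exact (congrArg (germM (Coh.structureModule X) V x hxV) (show b = 0 from h0)).trans (map_zero _)

variable (k : Type u) [Field k] [X.Over (Spec (CommRingCat.of k))] [IsProper (X ↘ Spec (CommRingCat.of k))]

/-- Tensoring a rank-one module with a module having a section that is injective, and bijective wherever the
first module is not free. -/
theorem euler_tens_of_good {J N : X.Modules} (hJ : Coh.IsCoh J) (hN : Coh.IsCoh N)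
    (s : Coh.structureModule X ⟶ N) (hinj : ∀ x, Function.Injective (stalkLin s x))
    (hgood : ∀ x, Function.Bijective (stalkLin s x) ∨ Free1 J x)
    (T : Finset X) (hT : ∀ x ∈ T, IsClosed ({x} : Set X)) (hTs : ∀ x ∉ T, Function.Bijective (stalkLin s x)) :
    Curv2.euler k X (CohB1.tensorMod J N) =
      Curv2.euler k X J + Curv2.euler k X N - Curv2.euler k X (Coh.structureModule X) := by
  haveI := EulerChar.isNoetherian k (X := X)
  let φ := HilbPolyX.mulSec J s
  have hJN : Coh.IsCoh (CohDev.tens J N) := CartInt.isCoh_tens_coh hJ hN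
  have hO : Coh.IsCoh (Coh.structureModule X) :=
    VBLib.isCoh_of_ofRank (ProjTwist.isFinLocFreeOfRank_one (PicLoc.isInvertible_structureModule X))
  -- the stalks of `φ`
  have hfree : ∀ x, Free1 J x → ∃ Φ : (CohDev.tens J N).presheaf.stalk x ≃ₗ[X.presheaf.stalk x] N.presheaf.stalk x,
      Function.Injective (stalkLin φ x) ∧
      (LinearMap.range (stalkLin φ x)).map Φ.toLinearMap = LinearMap.range (stalkLin s x) := by
    rintro x ⟨eJ⟩
    obtain ⟨e, he⟩ := HilbPolyX.stalk_mulSec J s x
    let Ψ := (TensorProduct.congr eJ.symm (LinearEquiv.refl (X.presheaf.stalk x) (N.presheaf.stalk x))).trans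
      (TensorProduct.lid _ _)
    let Ψ' := (TensorProduct.congr eJ.symm (LinearEquiv.refl (X.presheaf.stalk x)
      ((Coh.structureModule X).presheaf.stalk x))).trans (TensorProduct.lid _ _)
    let Φ := (stalkTensorEquiv J N x).trans Ψ
    have hnat : ∀ z, Ψ ((stalkLin s x).lTensor (J.presheaf.stalk x) z) = stalkLin s x (Ψ' z) := fun z => by
      induction z using TensorProduct.induction_on with
      | zero => simp only [map_zero]
      | tmul p q => simp [Ψ, Ψ', map_smul]
      | add p q hp hq => simp only [map_add, hp, hq]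
    have hall : ∀ t, Φ (stalkLin φ x t) = stalkLin s x (Ψ' (e t)) := fun t => (congrArg Ψ (he t)).trans (hnat _)
    refine ⟨Φ, fun a b hab => ?_, ?_⟩
    · exact e.injective (Ψ'.injective (hinj x ((hall a).symm.trans ((congrArg Φ hab).trans (hall b)))))
    · refine le_antisymm ?_ ?_
      · rintro _ ⟨_, ⟨t, rfl⟩, rfl⟩
        exact ⟨_, (hall t).symm⟩
      · rintro _ ⟨q, rfl⟩
        exact ⟨_, ⟨e.symm (Ψ'.symm q), rfl⟩, by show Φ _ = _; rw [hall, e.apply_symm_apply, Ψ'.apply_symm_apply]⟩
  have hbij : ∀ x, Function.Bijective (stalkLin s x) → Function.Bijective (stalkLin φ x) := fun x h => by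
    obtain ⟨e, he⟩ := HilbPolyX.stalk_mulSec J s x
    have hb : Function.Bijective ((stalkLin s x).lTensor (J.presheaf.stalk x)) :=
      (TensorProduct.congr (LinearEquiv.refl _ _) (LinearEquiv.ofBijective _ h)).bijective
    have h' : Function.Bijective fun t => stalkTensorEquiv J N x (stalkLin φ x t) := by
      rw [funext he]
      exact hb.comp e.bijective
    exact ⟨fun a b hab => h'.1 (congrArg (stalkTensorEquiv J N x) hab),
      fun b => (h'.2 (stalkTensorEquiv J N x b)).imp fun a ha => (stalkTensorEquiv J N x).injective ha⟩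
  haveI : Mono φ := Omega.Stalks.mono_of_stalk fun x => (hgood x).elim (fun h => (hbij x h).1)
    fun h => (hfree x h).choose_spec.1
  haveI : Mono s := Omega.Stalks.mono_of_stalk hinj
  have hS : (ShortComplex.mk φ (cokernel.π φ) (cokernel.condition φ)).ShortExact :=
    ShortComplex.ShortExact.mk' (ShortComplex.exact_of_g_is_cokernel _ (cokernelIsCokernel φ)) inferInstance inferInstance
  have hS' : (ShortComplex.mk s (cokernel.π s) (cokernel.condition s)).ShortExact :=
    ShortComplex.ShortExact.mk' (ShortComplex.exact_of_g_is_cokernel _ (cokernelIsCokernel s)) inferInstance inferInstance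
  have hC : Coh.IsCoh (cokernel φ) := CohDev.isCoh_cokernel _ hJ.1 hJN
  have hC' : Coh.IsCoh (cokernel s) := CohDev.isCoh_cokernel _ hO.1 hN
  have hsub : ∀ {A B : X.Modules} (f : A ⟶ B) [Mono f], (∀ x ∉ T, Function.Bijective (stalkLin f x)) →
      CohB1.support (cokernel f) ⊆ ↑T := by
    intro A B f _ hf x hx
    by_contra hxT
    refine hx ?_
    obtain ⟨-, hex, hπ⟩ := stalk_exact (ShortComplex.ShortExact.mk'
      (ShortComplex.exact_of_g_is_cokernel (ShortComplex.mk f (cokernel.π f) (cokernel.condition f))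
        (cokernelIsCokernel f)) inferInstance inferInstance) x
    refine subsingleton_of_forall_eq 0 fun t => ?_
    obtain ⟨t, rfl⟩ := hπ t
    exact (hex t).2 ((hf x hxT).2 t)
  have hlen : ∀ x, LenLib.lenZ (X.presheaf.stalk x) ((cokernel φ).presheaf.stalk x) =
      LenLib.lenZ (X.presheaf.stalk x) ((cokernel s).presheaf.stalk x) := by
    intro x
    obtain ⟨-, hex, hπ⟩ := stalk_exact hS x
    obtain ⟨-, hex', hπ'⟩ := stalk_exact hS' x
    have e₁ := hex.linearEquivOfSurjective hπ
    have e₂ := hex'.linearEquivOfSurjective hπ'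
    simp only [LenLib.lenZ]
    rw [← e₁.length_eq, ← e₂.length_eq]
    rcases hgood x with h | h
    · haveI := Submodule.Quotient.subsingleton_iff.mpr (LinearMap.range_eq_top.2 (hbij x h).2)
      haveI := Submodule.Quotient.subsingleton_iff.mpr (LinearMap.range_eq_top.2 h.2)
      simp [Module.length_eq_zero]
    · obtain ⟨Φ, -, hΦ⟩ := hfree x h
      rw [(Submodule.Quotient.equiv _ _ Φ hΦ).length_eq]
  have hχ : Curv2.euler k X (cokernel φ) = Curv2.euler k X (cokernel s) := by
    rw [EulerChar.euler_eq_sum_lenZ k T hT hC (hsub φ fun x hx => hbij x (hTs x hx)),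
      EulerChar.euler_eq_sum_lenZ k T hT hC' (hsub s hTs)]
    simp only [hlen]
  have h1 := EulerChar.euler_add k hS hJ hJN hC
  have h2 := EulerChar.euler_add k hS' hO hN hC'
  dsimp only at h1 h2
  show Curv2.euler k X (CohDev.tens J N) = _
  linarith

end Groth.Agent.NodalLib
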