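import Groth.Agent.NodalLib.NodeLength
import Groth.Agent.NodalLib.RankOneDeg
import Groth.Agent.StrictSSLib.NodalBaseChange
import Groth.Agent.StrictSSLib.Component
import Groth.Agent.S15924
import Groth.Agent.S9829
import Groth.Agent.ProperFin.FiniteMap
import Groth.Agent.ProperFin.Supp
import Groth.Agent.CycLib.ModStalk
import Groth.Agent.FlatMor.GenericPts

/-!
# Stalks of the normalisation of a nodal curve
-/

set_option autoImplicit false
set_option linter.style.haveILetI false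

universe u

open CategoryTheory Limits AlgebraicGeometry Opposite TopologicalSpace IsLocalRing
open Groth.Agent.PullStalk.Sky Groth.Agent.PullStalk.Exact
open Groth.Agent.Props.GenLocus Groth.Agent.QCoh
open Groth.Agent.StrictSSLib

noncomputable section

namespace Groth.Agent.NodalLib

/-- Sections vanishing near the maximal points vanish. -/
theorem zero_of_generic {Y : Scheme.{u}} [IsReduced Y] {U W : Y.Opens} (h : W ≤ U) (b : Γ(Y, U))
    (hb : rres h b = 0) (hgen : ∀ η ∈ genericPoints (Y : Type u), η ∈ U → η ∈ W) : b = 0 := by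
  refine (basicOpen_eq_bot_iff b).1 (eq_bot_iff.2 fun z hz => ?_)
  obtain ⟨η, hη, hηz⟩ := FlatMor.GenericPts.exists_generic_specializes (α := Y) z
  have h1 : η ∈ Y.basicOpen b := hηz.mem_open (Y.basicOpen b).2 hz
  have h2 : η ∈ Y.basicOpen (rres h b) := by
    rw [Scheme.basicOpen_res]
    exact ⟨hgen η hη (Y.basicOpen_le b h1), h1⟩
  rw [hb, Scheme.basicOpen_zero] at h2
  exact h2.elim

variable {C C' : Scheme.{u}} (π : C' ⟶ C)

/-- The direct image of the structure sheaf. -/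
abbrev pushO : C.Modules := (Coh.push π).obj (Coh.structureModule C')

/-- The unit map. -/
def unitMap : Coh.structureModule C ⟶ pushO π :=
  homOfSec (show Γ(pushO π, ⊤) from (1 : Γ(C', π ⁻¹ᵁ ⊤)))

theorem app_rres {U V : C.Opens} (h : V ≤ U) (r : Γ(C, U)) :
    π.app V (rres h r) = rres (π.preimage_mono h) (π.app U r) := by
  have e := congr($(π.naturality (homOfLE h).op) r)
  exact e

theorem germ_one {U : C.Opens} {x : C} (hx : x ∈ U) :
    germM (pushO π) U x hx (show Γ(pushO π, U) from (1 : Γ(C', π ⁻¹ᵁ U))) = secGerm (unitMap π) x := by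
  rw [unitMap, secGerm_homOfSec]
  have h1 : res (pushO π) (le_top : U ≤ ⊤) (show Γ(pushO π, ⊤) from (1 : Γ(C', π ⁻¹ᵁ ⊤))) =
      (show Γ(pushO π, U) from (1 : Γ(C', π ⁻¹ᵁ U))) := (rres (π.preimage_mono (le_top : U ≤ ⊤))).hom.map_one
  rw [← h1, GGDesc.germM_res_eq]

theorem germ_app {U : C.Opens} {x : C} (hx : x ∈ U) (r : Γ(C, U)) :
    germM (pushO π) U x hx (show Γ(pushO π, U) from π.app U r) =
      C.presheaf.germ U x hx r • secGerm (unitMap π) x := by
  rw [← germ_one π hx, ← germM_smul]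
  exact congrArg (fun b => germM (pushO π) U x hx b) (mul_one (π.app U r)).symm

theorem app_bijective (U : C.Opens) [IsIso (π ∣_ U)] {W : C.Opens} (hW : W ≤ U) :
    Function.Bijective (π.app W) := by
  obtain ⟨V, rfl⟩ : ∃ V : (U : Scheme.{u}).Opens, U.ι ''ᵁ V = W := ⟨U.ι ⁻¹ᵁ W, by
    rw [Scheme.Hom.image_preimage_eq_opensRange_inf, Scheme.Opens.opensRange_ι]
    exact inf_eq_right.2 hW⟩
  have hb := ConcreteCategory.bijective_of_isIso ((π ∣_ U).app V)
  rw [morphismRestrict_app] at hb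
  have hc := ConcreteCategory.bijective_of_isIso (C'.presheaf.map (eqToHom (image_morphismRestrict_preimage π U V)).op)
  refine (Function.Bijective.of_comp_iff' hc _).1 ?_
  exact hb

variable [IsFinite π] [IsReduced C] [IsReduced C'] [AlgebraicGeometry.IsNoetherian C] [AlgebraicGeometry.IsNoetherian C']
  (U : C.Opens) [IsIso (π ∣_ U)]
  (hU : genericPoints (C : Type u) ⊆ (U : Set C)) (hU' : genericPoints (C' : Type u) ⊆ ((π ⁻¹ᵁ U : C'.Opens) : Set C'))

include hU hU' in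
/-- Denominators of the normalisation over an affine open. -/
theorem exists_denominator {U₀ : C.Opens} (hU₀ : IsAffineOpen U₀) :
    (∀ r : Γ(C, U₀), π.app U₀ r = 0 → r = 0) ∧
    ∃ s : Γ(C, U₀), (∀ r, s * r = 0 → r = 0) ∧ (∀ b, π.app U₀ s * b = 0 → b = 0) ∧
      ∀ b, ∃ a, π.app U₀ a = π.app U₀ s * b := by
  classical
  let I : Ideal Γ(C, U₀) :=
    { carrier := {f | C.basicOpen f ≤ U}
      zero_mem' := by simp
      add_mem' := fun {f g} hf hg => by
        intro y hy
        have hyU : y ∈ U₀ := C.basicOpen_le _ hy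
        have h1 := (C.mem_basicOpen _ y hyU).1 hy
        rw [map_add] at h1
        rcases IsLocalRing.isUnit_or_isUnit_of_isUnit_add h1 with h | h
        · exact hf ((C.mem_basicOpen _ y hyU).2 h)
        · exact hg ((C.mem_basicOpen _ y hyU).2 h)
      smul_mem' := fun c f hf => by
        show C.basicOpen (c * f) ≤ U
        rw [Scheme.basicOpen_mul]
        exact inf_le_right.trans hf }
  have hC : (genericPoints (C : Type u)).Finite := genericPoints.finite NoetherianSpace.finite_irreducibleComponents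
  have hC' : (genericPoints (C' : Type u)).Finite := genericPoints.finite NoetherianSpace.finite_irreducibleComponents
  have hFfin : ((genericPoints (C : Type u) ∪ π '' genericPoints (C' : Type u)) ∩ (U₀ : Set C)).Finite :=
    (hC.union (hC'.image _)).inter_of_left _
  have hFU : ∀ y ∈ (genericPoints (C : Type u) ∪ π '' genericPoints (C' : Type u)) ∩ (U₀ : Set C), y ∈ U := by
    rintro y ⟨hy | ⟨y', hy', rfl⟩, -⟩
    · exact hU hy
    · exact hU' hy'
  let P : ↥U₀ → Ideal Γ(C, U₀) := fun y => (hU₀.primeIdealOf y).asIdeal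
  obtain ⟨f, hfI, hf⟩ : ∃ f ∈ I, ∀ y ∈ hFfin.toFinset.subtype (· ∈ U₀), f ∉ P y := by
    by_contra! hc
    have hsub : (I : Set Γ(C, U₀)) ⊆ ⋃ y ∈ (↑(hFfin.toFinset.subtype (· ∈ U₀)) : Set ↥U₀), (P y : Set Γ(C, U₀)) :=
      fun f hf => by
        obtain ⟨y, hy, hfy⟩ := hc f hf
        exact Set.mem_biUnion (Finset.mem_coe.2 hy) hfy
    rcases Set.eq_empty_or_nonempty (↑(hFfin.toFinset.subtype (· ∈ U₀)) : Set ↥U₀) with h0 | ⟨y0, hy0⟩
    · rw [h0, Set.biUnion_empty] at hsub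
      exact hsub I.zero_mem
    obtain ⟨y, hy, hIy⟩ := (Ideal.subset_union_prime y0 y0 fun y _ _ _ => (hU₀.primeIdealOf y).isPrime).1 hsub
    obtain ⟨g, hgU, hyg⟩ := hU₀.exists_basicOpen_le
      ⟨(y : C), show (y : C) ∈ U from hFU _ (hFfin.mem_toFinset.1 (Finset.mem_subtype.1 hy))⟩ y.2
    exact (CycLib.not_mem_primeIdealOf_iff hU₀ y.2 g).2 ((C.mem_basicOpen g _ y.2).1 hyg) (hIy hgU)
  have hle : C.basicOpen f ≤ U₀ := C.basicOpen_le f
  have hD : ∀ y ∈ (genericPoints (C : Type u) ∪ π '' genericPoints (C' : Type u)), y ∈ U₀ → y ∈ C.basicOpen f :=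
    fun y hy hyU => (C.mem_basicOpen f y hyU).2 ((CycLib.not_mem_primeIdealOf_iff hU₀ hyU f).1
      (hf ⟨y, hyU⟩ (Finset.mem_subtype.2 (hFfin.mem_toFinset.2 ⟨hy, hyU⟩))))
  have hzR : ∀ r : Γ(C, U₀), rres hle r = 0 → r = 0 := fun r h =>
    zero_of_generic hle r h fun η hη hηU => hD η (Or.inl hη) hηU
  have hzB : ∀ b : Γ(C', π ⁻¹ᵁ U₀), rres (π.preimage_mono hle) b = 0 → b = 0 := fun b h =>
    zero_of_generic _ b h fun η hη hηU => hD (π η) (Or.inr ⟨η, hη, rfl⟩) hηU
  have hbij := app_bijective π U (W := C.basicOpen f) hfI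
  have hinj : ∀ r : Γ(C, U₀), π.app U₀ r = 0 → r = 0 := fun r h => hzR r (hbij.1 (by
    rw [app_rres π hle r, h, map_zero, map_zero]))
  refine ⟨hinj, ?_⟩
  letI := (π.app U₀).hom.toAlgebra
  haveI : Module.Finite Γ(C, U₀) Γ(C', π ⁻¹ᵁ U₀) := π.finite_app U₀ hU₀
  obtain ⟨G, hG⟩ := Module.Finite.fg_top (R := Γ(C, U₀)) (M := Γ(C', π ⁻¹ᵁ U₀))
  have hone : ∀ b : Γ(C', π ⁻¹ᵁ U₀), ∃ (n : ℕ) (a : Γ(C, U₀)), π.app U₀ a = π.app U₀ f ^ n * b := by
    intro b
    obtain ⟨r', hr'⟩ := hbij.2 (rres (π.preimage_mono hle) b)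
    haveI := ProjTwist.isQuasicoherent_structureModule C
    obtain ⟨n, a, ha⟩ := (QCoh.isLocalizingAt (Coh.structureModule C) hU₀ f).surj r'
    refine ⟨n, a, sub_eq_zero.1 (hzB _ ?_)⟩
    have ha' : rres hle a = rres hle f ^ n * r' := ha
    rw [map_sub, map_mul, map_pow, ← app_rres π hle a, ← app_rres π hle f, ha', map_mul, map_pow, hr', sub_self]
  choose n a ha using hone
  let N := G.sup n
  have hsB : ∀ b, ∃ c, π.app U₀ c = π.app U₀ (f ^ N) * b := by
    intro b
    have hb : b ∈ Submodule.span Γ(C, U₀) (G : Set Γ(C', π ⁻¹ᵁ U₀)) := hG ▸ Submodule.mem_top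
    induction hb using Submodule.span_induction with
    | mem b hb =>
      obtain ⟨m, hm⟩ := Nat.exists_eq_add_of_le (Finset.le_sup (f := n) hb)
      exact ⟨f ^ m * a b, by rw [map_mul, ha, ← mul_assoc, map_pow, map_pow, ← pow_add, add_comm m, ← hm]⟩
    | zero => exact ⟨0, by rw [map_zero, mul_zero]⟩
    | add p q _ _ hp hq =>
      obtain ⟨c, hc⟩ := hp
      obtain ⟨d, hd⟩ := hq
      exact ⟨c + d, by rw [map_add, hc, hd, mul_add]⟩
    | smul c p _ hp =>
      obtain ⟨d, hd⟩ := hp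
      exact ⟨c * d, by rw [map_mul, hd, Algebra.smul_def, RingHom.algebraMap_toAlgebra, ← mul_assoc, ← mul_assoc, mul_comm (π.app U₀ c)]⟩
  have hu : IsUnit (rres hle f) := RingedSpace.isUnit_res_basicOpen _ f
  refine ⟨f ^ N, fun r hr => hzR r ?_, fun b hb => hzB b ?_, hsB⟩
  · have h := congrArg (rres hle) hr
    rw [map_mul, map_zero, map_pow] at h
    exact (hu.pow N).mul_right_eq_zero.1 h
  · have h := congrArg (rres (π.preimage_mono hle)) hb
    rw [map_mul, map_zero, ← app_rres π hle, map_pow] at h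
    exact (((hu.pow N)).map (π.app (C.basicOpen f)).hom).mul_right_eq_zero.1 h

include hU hU' in
/-- The stalk of the normalisation as a fractional module over the stalk. -/
theorem stalk_data (x : C) :
    ∃ S : C.presheaf.stalk x, (∀ a : C.presheaf.stalk x, S * a = 0 → a = 0) ∧
      Function.Injective (fun a : C.presheaf.stalk x => a • secGerm (unitMap π) x) ∧
      Function.Injective (fun m : (pushO π).presheaf.stalk x => S • m) ∧
      (∀ m : (pushO π).presheaf.stalk x, ∃ a : C.presheaf.stalk x, S • m = a • secGerm (unitMap π) x) ∧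
      ∀ (D : Type u) [CommRing D] [IsDomain D] [IsIntegrallyClosed D] (g : C.presheaf.stalk x →+* D), g S ≠ 0 →
        ∀ (m : (pushO π).presheaf.stalk x) (a : C.presheaf.stalk x), S • m = a • secGerm (unitMap π) x → g S ∣ g a := by
  obtain ⟨U₀, hU₀, hx, -⟩ := exists_isAffineOpen_mem_and_subset (X := C) (Opens.mem_top x)
  obtain ⟨hinj, s, hsR, hsB', hsB⟩ := exists_denominator π U hU hU' hU₀
  haveI : (pushO π).IsQuasicoherent := (ProperFin.isCoh_push_of_isFinite π _ (ProperFin.isCoh_structureModule C')).1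
  haveI := ProjTwist.isQuasicoherent_structureModule C
  let γ := (C.presheaf.germ U₀ x hx).hom
  let e := secGerm (unitMap π) x
  let S := γ s
  letI := TopCat.Presheaf.algebra_section_stalk C.presheaf (⟨x, hx⟩ : U₀)
  haveI := hU₀.isLocalization_stalk ⟨x, hx⟩
  have hsurjA : ∀ a : C.presheaf.stalk x, ∃ (t r : Γ(C, U₀)), IsUnit (γ t) ∧ γ t * a = γ r := by
    intro a
    obtain ⟨⟨r, t⟩, h⟩ := IsLocalization.surj (hU₀.primeIdealOf ⟨x, hx⟩).asIdeal.primeCompl a
    exact ⟨t, r, (CycLib.not_mem_primeIdealOf_iff hU₀ hx t.1).1 t.2, (mul_comm _ _).trans h⟩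
  have hzeroM : ∀ b : Γ(C', π ⁻¹ᵁ U₀), germM (pushO π) U₀ x hx b = 0 →
      ∃ t : Γ(C, U₀), IsUnit (γ t) ∧ π.app U₀ t * b = 0 := fun b hb =>
    CycLib.exists_smul_eq_zero_of_germ_eq_zero (pushO π) hU₀ hx b hb
  have he0 : ∀ r : Γ(C, U₀), γ r • e = 0 → γ r = 0 := by
    intro r hr
    rw [← germ_app π hx r] at hr
    obtain ⟨t, ht, h⟩ := hzeroM _ hr
    rw [← map_mul] at h
    have h' := congrArg γ (hinj _ h)
    rw [map_mul, map_zero] at h'
    exact ht.mul_right_eq_zero.1 h'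
  have he : Function.Injective (fun a : C.presheaf.stalk x => a • e) := by
    intro a b hab
    obtain ⟨t, r, ht, htr⟩ := hsurjA (a - b)
    refine sub_eq_zero.1 (ht.mul_right_eq_zero.1 (htr.trans (he0 r ?_)))
    have hab' : (a - b) • e = 0 := by rw [sub_smul]; exact sub_eq_zero.2 hab
    rw [← htr, mul_smul, hab', smul_zero]
  have hregA : ∀ a : C.presheaf.stalk x, S * a = 0 → a = 0 := by
    intro a ha
    obtain ⟨t, r, ht, htr⟩ := hsurjA a
    have h0 : γ (s * r) = 0 := by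
      rw [map_mul, ← htr, ← mul_assoc, mul_comm (γ s), mul_assoc]
      exact (congrArg (γ t * ·) ha).trans (mul_zero _)
    obtain ⟨⟨u, hu⟩, h1⟩ := (IsLocalization.map_eq_zero_iff (hU₀.primeIdealOf ⟨x, hx⟩).asIdeal.primeCompl
      (C.presheaf.stalk x) (s * r)).1 h0
    have h2 : u * r = 0 := hsR _ (by rw [← mul_assoc, mul_comm s u, mul_assoc]; exact h1)
    have h3 := congrArg γ h2
    rw [map_mul, map_zero] at h3
    exact ht.mul_right_eq_zero.1 (htr.trans (((CycLib.not_mem_primeIdealOf_iff hU₀ hx u).1 hu).mul_right_eq_zero.1 h3))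
  have hrep : ∀ m : (pushO π).presheaf.stalk x, ∃ (b : Γ(C', π ⁻¹ᵁ U₀)) (t : Γ(C, U₀)) (c : Γ(C, U₀)),
      IsUnit (γ t) ∧ γ t • m = germM (pushO π) U₀ x hx b ∧ π.app U₀ c = π.app U₀ s * b ∧ γ t • S • m = γ c • e := by
    intro m
    obtain ⟨b, t, ht, htm⟩ := CycLib.exists_smul_germ_eq (pushO π) hU₀ hx m
    obtain ⟨c, hc⟩ := hsB b
    refine ⟨b, t, c, ht, htm, hc, ?_⟩
    rw [smul_comm, show γ t • m = germM (pushO π) U₀ x hx b from htm, ← germM_smul, ← germ_app π hx c]
    exact congrArg (fun b => germM (pushO π) U₀ x hx b) hc.symm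
  have hregM : Function.Injective (fun m : (pushO π).presheaf.stalk x => S • m) := by
    intro p q hpq
    obtain ⟨b, t, c, ht, htm, hc, hrel⟩ := hrep (p - q)
    have h0 : S • (p - q) = 0 := by rw [smul_sub]; exact sub_eq_zero.2 hpq
    rw [h0, smul_zero] at hrel
    have hc0 : γ c = 0 := he0 c hrel.symm
    have hsb : germM (pushO π) U₀ x hx (show Γ(pushO π, U₀) from π.app U₀ c) = 0 := by
      rw [germ_app π hx c, hc0, zero_smul]
    obtain ⟨t', ht', h1⟩ := hzeroM _ hsb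
    rw [hc, mul_left_comm] at h1
    have h2 : germM (pushO π) U₀ x hx (show Γ(pushO π, U₀) from π.app U₀ t' * b) = 0 := by
      rw [hsB' _ h1]
      exact map_zero _
    have h3 : γ t' • germM (pushO π) U₀ x hx b = 0 := (germM_smul (pushO π) U₀ x hx t' b).symm.trans h2
    rw [← htm, smul_smul] at h3
    exact sub_eq_zero.1 ((ht'.mul ht).smul_eq_zero.1 h3)
  refine ⟨S, hregA, he, hregM, fun m => ?_, ?_⟩
  · obtain ⟨b, t, c, ht, -, -, hrel⟩ := hrep m
    refine ⟨(↑ht.unit⁻¹ : C.presheaf.stalk x) * γ c, ?_⟩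
    rw [mul_smul, ← hrel, smul_smul (↑ht.unit⁻¹ : C.presheaf.stalk x), IsUnit.val_inv_mul, one_smul]
  · intro D _ _ _ g hg m a hma
    obtain ⟨b, t, c, ht, -, hc, hrel⟩ := hrep m
    rw [hma, smul_smul] at hrel
    have hac : γ t * a = γ c := he hrel
    letI := (π.app U₀).hom.toAlgebra
    haveI : Module.Finite Γ(C, U₀) Γ(C', π ⁻¹ᵁ U₀) := π.finite_app U₀ hU₀
    obtain ⟨p, hp, hpb⟩ := IsIntegral.of_finite Γ(C, U₀) b
    have h1 : (p.scaleRoots s).eval c = 0 := by
      refine hinj _ ?_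
      show (π.app U₀).hom _ = 0
      rw [← Polynomial.eval₂_at_apply, show (π.app U₀).hom c = (π.app U₀).hom s * b from hc,
        Polynomial.scaleRoots_eval₂_mul, show Polynomial.eval₂ (π.app U₀).hom b p = 0 from hpb, mul_zero]
    have h2 : g S ∣ g (γ c) := dvd_of_root (g.comp γ) hg hp h1
    rw [← hac, map_mul] at h2
    exact (ht.map g).dvd_mul_left.1 h2

variable (k : Type u) [Field k] [IsAlgClosed k] [C.Over (Spec (CommRingCat.of k))]
  [LocallyOfFiniteType (C ↘ Spec (CommRingCat.of k))]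

include hU hU' in
/-- The unit is bijective at smooth points. -/
theorem bijective_unitMap {x : C} (hx : x ∈ (C ↘ Spec (CommRingCat.of k)).smoothLocus) :
    Function.Bijective (stalkLin (unitMap π) x) := by
  obtain ⟨S, hS, he, hreg, hsM, hint⟩ := stalk_data π U hU hU' x
  let V := (C ↘ Spec (CommRingCat.of k)).smoothLocus
  haveI := smooth_smoothLocus (C ↘ Spec (CommRingCat.of k))
  haveI := CurveDVR.isRegularLocalRing_stalk (V.ι ≫ C ↘ Spec (CommRingCat.of k)) ⟨x, hx⟩
  haveI : IsRegularLocalRing (C.presheaf.stalk x) :=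
    IsRegularLocalRing.of_ringEquiv (V.stalkIso ⟨x, hx⟩).commRingCatIsoToRingEquiv
  haveI := RegLoc.isDomain (C.presheaf.stalk x)
  haveI := S9829.result (C.presheaf.stalk x)
  have hS0 : S ≠ 0 := fun h => one_ne_zero (hS 1 (by rw [h, zero_mul]))
  refine ⟨(injective_iff_map_eq_zero _).2 fun t ht => ?_, fun m => ?_⟩
  · obtain ⟨r, rfl⟩ := exists_smul_oneGerm x t
    rw [stalkLin_smul_oneGerm] at ht
    rw [he (show r • secGerm (unitMap π) x = (0 : C.presheaf.stalk x) • secGerm (unitMap π) x by rw [ht, zero_smul]),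
      zero_smul]
  · obtain ⟨a, ha⟩ := hsM m
    obtain ⟨q, hq⟩ := hint _ (RingHom.id _) hS0 m a ha
    simp only [RingHom.id_apply] at hq
    refine ⟨q • oneGerm x, hreg ?_⟩
    show S • _ = S • m
    rw [stalkLin_smul_oneGerm, ha, hq, mul_smul]

include hU hU' in
/-- At a node the unit is injective with cokernel of length one. -/
theorem node_length (hC' : Pi1.IsNormalScheme C') (hdim : topologicalKrullDim C ≤ 1) {x : C}
    (hx : Curv2.IsNode k C x) :
    Function.Injective (stalkLin (unitMap π) x) ∧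
      Module.length (C.presheaf.stalk x) ((pushO π).presheaf.stalk x ⧸ LinearMap.range (stalkLin (unitMap π) x)) = 1 := by
  classical
  obtain ⟨S, hS, he, hreg, hsM, hint⟩ := stalk_data π U hU hU' x
  obtain ⟨alg, hloc, hflat, hm⟩ := S15924.exists_formalNode k C x hx
  letI := alg
  haveI := hloc
  haveI := hflat
  haveI : Module.FaithfullyFlat (C.presheaf.stalk x) (FormalNode (AlgebraicClosure k)) :=
    Module.FaithfullyFlat.of_flat_of_isLocalHom
  have hrange : LinearMap.range (stalkLin (unitMap π) x) =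
      Submodule.span (C.presheaf.stalk x) {secGerm (unitMap π) x} := by
    refine le_antisymm ?_ ?_
    · rintro _ ⟨t, rfl⟩
      obtain ⟨r, rfl⟩ := exists_smul_oneGerm x t
      rw [stalkLin_smul_oneGerm]
      exact Submodule.smul_mem _ _ (Submodule.mem_span_singleton_self _)
    · rw [Submodule.span_singleton_le_iff_mem]
      exact ⟨(1 : C.presheaf.stalk x) • oneGerm x, by rw [stalkLin_smul_oneGerm, one_smul]⟩
  refine ⟨(injective_iff_map_eq_zero _).2 fun t ht => ?_, ?_⟩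
  · obtain ⟨r, rfl⟩ := exists_smul_oneGerm x t
    rw [stalkLin_smul_oneGerm] at ht
    rw [he (show r • secGerm (unitMap π) x = (0 : C.presheaf.stalk x) • secGerm (unitMap π) x by rw [ht, zero_smul]),
      zero_smul]
  rw [hrange]
  have hs := nodeAxis_ne_zero (K := AlgebraicClosure k) hS
  have hsimple := node_simple (secGerm (unitMap π) x) S hs he hreg hsM fun m a hma i =>
    hint _ ((nodeAxis i).comp (algebraMap (C.presheaf.stalk x) (FormalNode (AlgebraicClosure k)))) (hs i) m a hma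
  by_contra hlen
  have hall : ∀ z, z ∈ Submodule.span (C.presheaf.stalk x) {secGerm (unitMap π) x} := fun z => by
    by_contra hz
    exact hlen (length_quotient_eq_one _ hz hsimple)
  -- then the normalisation is an isomorphism near the node
  obtain ⟨U₀, hU₀, hxU, -⟩ := exists_isAffineOpen_mem_and_subset (X := C) (Opens.mem_top x)
  haveI : (pushO π).IsQuasicoherent := (ProperFin.isCoh_push_of_isFinite π _ (ProperFin.isCoh_structureModule C')).1
  let γ := (C.presheaf.germ U₀ x hxU).hom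
  letI := TopCat.Presheaf.algebra_section_stalk C.presheaf (⟨x, hxU⟩ : U₀)
  haveI := hU₀.isLocalization_stalk ⟨x, hxU⟩
  letI := (π.app U₀).hom.toAlgebra
  haveI : Module.Finite Γ(C, U₀) Γ(C', π ⁻¹ᵁ U₀) := π.finite_app U₀ hU₀
  obtain ⟨G, hG⟩ := Module.Finite.fg_top (R := Γ(C, U₀)) (M := Γ(C', π ⁻¹ᵁ U₀))
  have hgen : ∀ b : Γ(C', π ⁻¹ᵁ U₀), ∃ (g r : Γ(C, U₀)), IsUnit (γ g) ∧ π.app U₀ g * b = π.app U₀ r := by
    intro b
    obtain ⟨a, ha⟩ := Submodule.mem_span_singleton.1 (hall (germM (pushO π) U₀ x hxU b))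
    obtain ⟨⟨r, t⟩, hrt⟩ := IsLocalization.surj (hU₀.primeIdealOf ⟨x, hxU⟩).asIdeal.primeCompl a
    have hrt' : γ t.1 * a = γ r := (mul_comm _ _).trans hrt
    have h0 : germM (pushO π) U₀ x hxU (show Γ(pushO π, U₀) from π.app U₀ t.1 * b - π.app U₀ r) = 0 := by
      refine (map_sub _ _ _).trans (sub_eq_zero.2 ?_)
      refine Eq.trans ?_ (germ_app π hxU r).symm
      refine (germM_smul (pushO π) U₀ x hxU t.1 b).trans ?_
      rw [← ha, smul_smul]
      exact congrArg (· • secGerm (unitMap π) x) hrt'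
    obtain ⟨t', ht', h1⟩ := CycLib.exists_smul_eq_zero_of_germ_eq_zero (pushO π) hU₀ hxU _ h0
    refine ⟨t' * t.1, t' * r, ?_, ?_⟩
    · rw [map_mul]
      exact ht'.mul ((CycLib.not_mem_primeIdealOf_iff hU₀ hxU t.1).1 t.2)
    · rw [map_mul, map_mul, mul_assoc]
      exact sub_eq_zero.1 ((mul_sub _ _ _).symm.trans h1)
  choose g r hg hgr using hgen
  let g₀ := ∏ b ∈ G, g b
  have hg₀ : IsUnit (γ g₀) := by
    rw [map_prod]
    exact IsUnit.prod_iff.2 fun b _ => hg b
  have hallb : ∀ b : Γ(C', π ⁻¹ᵁ U₀), ∃ c, π.app U₀ g₀ * b = π.app U₀ c := by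
    intro b
    have hb : b ∈ Submodule.span Γ(C, U₀) (G : Set Γ(C', π ⁻¹ᵁ U₀)) := hG ▸ Submodule.mem_top
    induction hb using Submodule.span_induction with
    | mem b hb =>
      refine ⟨(∏ b' ∈ G.erase b, g b') * r b, ?_⟩
      rw [map_mul, ← hgr, ← mul_assoc, ← map_mul, Finset.prod_erase_mul _ _ hb]
    | zero => exact ⟨0, by rw [map_zero, mul_zero]⟩
    | add p q _ _ hp hq =>
      obtain ⟨c, hc⟩ := hp
      obtain ⟨d, hd⟩ := hq
      exact ⟨c + d, by rw [map_add, ← hc, ← hd, mul_add]⟩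
    | smul c p _ hp =>
      obtain ⟨d, hd⟩ := hp
      exact ⟨c * d, by rw [map_mul, ← hd, Algebra.smul_def, RingHom.algebraMap_toAlgebra]; ring⟩
  let D := C.basicOpen g₀
  have hle : D ≤ U₀ := C.basicOpen_le g₀
  have hxD : x ∈ D := (C.mem_basicOpen g₀ x hxU).2 hg₀
  have hu : IsUnit (rres hle g₀) := RingedSpace.isUnit_res_basicOpen _ g₀
  have hbijD : Function.Bijective (π.app D) := by
    refine ⟨(injective_iff_map_eq_zero _).2 (exists_denominator π U hU hU' (hU₀.basicOpen g₀)).1, fun y => ?_⟩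
    obtain ⟨n, b, hb⟩ := (QCoh.isLocalizingAt (pushO π) hU₀ g₀).surj y
    obtain ⟨c, hc⟩ := hallb b
    have hb' : rres (π.preimage_mono hle) b = π.app D (rres hle g₀ ^ n) * y := hb
    refine ⟨rres hle c * (↑(hu.pow (n + 1)).unit⁻¹ : Γ(C, D)), ?_⟩
    rw [map_mul, app_rres π hle c, ← hc, map_mul, ← app_rres π hle g₀, hb', ← mul_assoc, ← map_mul,
      ← pow_succ', mul_comm, ← mul_assoc, ← map_mul, IsUnit.val_inv_mul, map_one, one_mul]
  haveI : IsIso (π.app D) := (ConcreteCategory.isIso_iff_bijective _).2 hbijD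
  haveI : IsIso (π ∣_ D) := (isIso_morphismRestrict_iff_isIso_app π (hU₀.basicOpen g₀)).2 inferInstance
  -- the local ring is normal
  let q : ((π ⁻¹ᵁ D : C'.Opens) : Scheme.{u}) := inv (π ∣_ D) ⟨x, hxD⟩
  have hq : (π ∣_ D) q = ⟨x, hxD⟩ := by
    show (inv (π ∣_ D) ≫ (π ∣_ D)) ⟨x, hxD⟩ = _
    rw [IsIso.inv_hom_id]
    rfl
  let e₁ : (D : Scheme.{u}).presheaf.stalk ⟨x, hxD⟩ ≅ ((π ⁻¹ᵁ D : C'.Opens) : Scheme.{u}).presheaf.stalk q :=
    eqToIso (by rw [hq]) ≪≫ asIso ((π ∣_ D).stalkMap q)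
  let eA : C.presheaf.stalk x ≃+* C'.presheaf.stalk q.1 :=
    ((D.stalkIso ⟨x, hxD⟩).symm ≪≫ e₁ ≪≫ (π ⁻¹ᵁ D).stalkIso q).commRingCatIsoToRingEquiv
  obtain ⟨hdom, hic⟩ := hC' q.1
  haveI := hdom
  haveI := hic
  haveI : IsDomain (C.presheaf.stalk x) := eA.isDomain_iff.2 inferInstance
  haveI : IsIntegrallyClosed (C.presheaf.stalk x) := IsIntegrallyClosed.of_equiv eA.symm
  haveI : Ring.KrullDimLE 1 (C.presheaf.stalk x) := Ring.krullDimLE_iff.mpr (by
    rw [DimIneq.topologicalKrullDim_eq_iSup_stalk] at hdim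
    exact_mod_cast (le_iSup (fun z : C => ringKrullDim (C.presheaf.stalk z)) x).trans hdim)
  have hmax : ∀ P : Ideal (C.presheaf.stalk x), P ≠ ⊥ → P.IsPrime → P = maximalIdeal (C.presheaf.stalk x) :=
    fun P hP hP' => eq_maximalIdeal (Ring.krullDimLE_one_iff_of_noZeroDivisors.mp ‹_› P hP hP')
  have hiff : (IsIntegrallyClosed (C.presheaf.stalk x) ∧ ∀ P : Ideal (C.presheaf.stalk x), P ≠ ⊥ → P.IsPrime → P = maximalIdeal (C.presheaf.stalk x)) ↔ (maximalIdeal (C.presheaf.stalk x)).IsPrincipal :=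
    (tfae_of_isNoetherianRing_of_isLocalRing_of_isDomain (R := C.presheaf.stalk x)).out 3 4
  obtain ⟨t, ht⟩ := hiff.1 ⟨inferInstance, hmax⟩
  refine node_not_principal (algebraMap (C.presheaf.stalk x) (FormalNode (AlgebraicClosure k)) t) ?_
  rw [← hm, ht, Ideal.submodule_span_eq, Ideal.map_span, Set.image_singleton]

end Groth.Agent.NodalLib
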