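import Groth.Agent.GPLib.Basic
import Groth.Agent.CohDev.TensorCoh
import Groth.Agent.HomShQC.Stalk
import Groth.Agent.CartInt.QuotSup
import Groth.Agent.LimTop.StalkHom
import Groth.Agent.GGDesc.Span

/-!
# The kernel of restriction to a closed subscheme at a point of it
-/

set_option autoImplicit false
set_option linter.style.haveILetI false

universe u

open CategoryTheory Limits AlgebraicGeometry Opposite TopologicalSpace IsLocalRing MonoidalCategory
open Groth.Agent.PullStalk.Sky Groth.Agent.PullStalk.Exact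

noncomputable section

namespace Groth.Agent.NodalLib

variable {X : Scheme.{u}} [IsLocallyNoetherian X] (I : X.IdealSheafData) {y : X}

/-- A germ of function dying on the subscheme is not a unit at its points. -/
theorem mem_max_of_toSubscheme (hy : y ∈ I.support) {a : X.presheaf.stalk y}
    (h : stalkLin (ClSub.toSubscheme I) y (HomShQC.unitStalk y a) = 0) : a ∈ maximalIdeal (X.presheaf.stalk y) := by
  obtain ⟨W, hW, m, hm⟩ := exists_germM_eq (Coh.structureModule X) y (HomShQC.unitStalk y a)
  rw [← hm, stalkLin_germ] at h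
  obtain ⟨W', hW', i₁, i₂, hz⟩ :=
    (ClSub.quotMod I).presheaf.germ_eq y hW hW ((ClSub.toSubscheme I).app W m) 0 (h.trans (map_zero _).symm)
  obtain ⟨A, hA, hyA, hAW⟩ := exists_isAffineOpen_mem_and_subset hW'
  have hAW' : A ≤ W := fun z hz => i₁.le (hAW hz)
  let m' : Γ(X, A) := QCoh.res (Coh.structureModule X) hAW' m
  have h0 : (ClSub.toSubscheme I).app A m' = 0 := by
    show (ClSub.toSubscheme I).app A (QCoh.res _ hAW' m) = 0
    rw [QCoh.app_res, ← QCoh.res_res _ i₁.le (fun z hz => hAW hz)]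
    exact (congrArg _ (hz.trans (map_zero _))).trans (map_zero _)
  have hI : m' ∈ I.ideal ⟨A, hA⟩ := (CartInt.toSubscheme_eq_zero_iff I ⟨A, hA⟩ m').1 h0
  have ha : a = X.presheaf.germ A y hyA m' := by
    refine (HomShQC.unitStalk y).injective ?_
    rw [← hm, ← GGDesc.germM_res_eq (Coh.structureModule X) hAW' y hyA m, HomShQC.unitStalk_germ]
  rw [ha]
  intro hu
  have h2 := (Scheme.IdealSheafData.mem_support_iff_of_mem (U := ⟨A, hA⟩) hyA).1 hy
  rw [Scheme.mem_zeroLocus_iff] at h2
  exact h2 m' hI ((X.mem_basicOpen m' y hyA).2 hu)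

/-- An element of a bundle dying on the subscheme vanishes at its points. -/
theorem mem_smul_of_toRes (hy : y ∈ I.support) {n : ℕ} {E : X.Modules} (hE : FlatMod.IsFinLocFreeOfRank n E)
    {t : E.presheaf.stalk y} (h : stalkLin (GPLib.toRes I E) y t = 0) :
    t ∈ (maximalIdeal (X.presheaf.stalk y) • ⊤ : Submodule (X.presheaf.stalk y) (E.presheaf.stalk y)) := by
  classical
  haveI : Module.Free (X.presheaf.stalk y) (E.presheaf.stalk y) := CohDev.free_stalk_of_rank hE y
  let R := X.presheaf.stalk y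
  let O := (Coh.structureModule X).presheaf.stalk y
  let g : O →ₗ[R] (ClSub.quotMod I).presheaf.stalk y := stalkLin (ClSub.toSubscheme I) y
  let τ₁ : (CohB1.tensorMod E (Coh.structureModule X)).presheaf.stalk y ≃ₗ[R] TensorProduct R (E.presheaf.stalk y) O :=
    (KFlat.StalkCx.stIso y E (Coh.structureModule X)).toLinearEquiv
  let τ₂ : (CohB1.tensorMod E (ClSub.quotMod I)).presheaf.stalk y ≃ₗ[R]
      TensorProduct R (E.presheaf.stalk y) ((ClSub.quotMod I).presheaf.stalk y) :=
    (KFlat.StalkCx.stIso y E (ClSub.quotMod I)).toLinearEquiv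
  have hnat : ∀ w, τ₂ (stalkLin (KoszTw.tensorMap (𝟙 E) (ClSub.toSubscheme I)) y w) = g.lTensor _ (τ₁ w) := fun w => by
    have he : KoszTw.tensorMap (𝟙 E) (ClSub.toSubscheme I) =
        ((DCoh.tensorBi (X := X)).obj E).map (ClSub.toSubscheme I) := by
      unfold KoszTw.tensorMap
      rw [CategoryTheory.Functor.map_id, NatTrans.id_app]
      exact Category.id_comp _
    rw [he]
    exact LinearMap.congr_fun (congrArg ModuleCat.Hom.hom (KFlat.StalkCx.stIso_right y E (ClSub.toSubscheme I))) w
  have hone : Function.Bijective (stalkLin (GPLib.oneRes E) y) :=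
    ConcreteCategory.bijective_of_isIso ((DerSch.stalkFunctor X y).map (GPLib.oneRes E))
  let Φ : E.presheaf.stalk y ≃ₗ[R] E.presheaf.stalk y :=
    ((LinearEquiv.ofBijective _ hone).trans τ₁).trans
      (((LinearEquiv.lTensor (E.presheaf.stalk y) (HomShQC.unitStalk y).symm)).trans (TensorProduct.rid R _))
  let 𝔪 := maximalIdeal R
  have hv : (TensorProduct.mk R (E.presheaf.stalk y) O).flip (HomShQC.unitStalk y 1) (Φ t) = τ₁ (stalkLin (GPLib.oneRes E) y t) := by
    refine (((LinearEquiv.lTensor (E.presheaf.stalk y) (HomShQC.unitStalk y).symm)).trans (TensorProduct.rid R _)).injective ?_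
    show _ = Φ t
    show TensorProduct.rid R _ ((LinearEquiv.lTensor (E.presheaf.stalk y) (HomShQC.unitStalk y).symm) (Φ t ⊗ₜ[R] HomShQC.unitStalk y 1)) = Φ t
    rw [LinearEquiv.lTensor_tmul, LinearEquiv.symm_apply_apply]
    exact (TensorProduct.rid_tmul _ _).trans (one_smul _ _)
  have h0 : g.lTensor _ (τ₁ (stalkLin (GPLib.oneRes E) y t)) = 0 := by
    rw [← hnat]
    rw [GPLib.toRes, LimTop.stalkLin_comp] at h
    rw [h, map_zero]
  rw [← hv] at h0
  replace h0 : (Φ t) ⊗ₜ[R] g (HomShQC.unitStalk y 1) = 0 := h0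
  obtain ⟨b⟩ : Nonempty (Σ ι : Type u, Module.Basis ι R (E.presheaf.stalk y)) := ⟨⟨_, Module.Free.chooseBasis R _⟩⟩
  have hΦ : Φ t ∈ (𝔪 • ⊤ : Submodule R (E.presheaf.stalk y)) := by
    rw [← b.2.linearCombination_repr (Φ t), Finsupp.linearCombination_apply]
    refine Submodule.sum_mem _ fun i _ => Submodule.smul_mem_smul ?_ Submodule.mem_top
    refine mem_max_of_toSubscheme I hy ?_
    have h1 := congrArg ((TensorProduct.lid R _).toLinearMap ∘ₗ LinearMap.rTensor _ (b.2.coord i)) h0
    simp only [LinearMap.comp_apply, LinearMap.rTensor_tmul, map_zero, LinearEquiv.coe_coe, TensorProduct.lid_tmul] at h1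
    rw [show HomShQC.unitStalk y (b.2.repr (Φ t) i) = b.2.repr (Φ t) i • HomShQC.unitStalk y (1 : R) by
      rw [← map_smul, smul_eq_mul, mul_one], map_smul]
    exact h1
  have h2 := Submodule.mem_map_of_mem (f := Φ.symm.toLinearMap) hΦ
  rw [Submodule.map_smul''] at h2
  simp only [LinearEquiv.coe_coe, LinearEquiv.symm_apply_apply] at h2
  exact Submodule.smul_mono le_rfl le_top h2

end Groth.Agent.NodalLib
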