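import Groth.Agent.NodalLib.NodeType
import Groth.Agent.S15924
import Groth.Agent.StrictSSLib.OdpDescent
import Mathlib.RingTheory.Flat.FaithfullyFlat.Algebra

/-!
# Functions on the normalisation vanishing over a node

A function vanishing at all points over a node comes from the maximal ideal of the node.
-/

set_option autoImplicit false
set_option linter.style.haveILetI false

universe u

open CategoryTheory Limits AlgebraicGeometry Opposite TopologicalSpace IsLocalRing
open Groth.Agent.PullStalk.Sky Groth.Agent.PullStalk.Exact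
open Groth.Agent.Props.GenLocus Groth.Agent.QCoh
open Groth.Agent.StrictSSLib

noncomputable section

namespace Groth.Agent.NodalLib

/-- A fraction over a node whose square is in the maximal ideal is integral. -/
theorem node_sq {K : Type u} [Field K] {A : Type u} [CommRing A] [IsLocalRing A] [Algebra A (FormalNode K)]
    [Module.FaithfullyFlat A (FormalNode K)] {s a e : A} (hs : ∀ i, nodeAxis i (algebraMap A (FormalNode K) s) ≠ 0)
    (hm : algebraMap A (FormalNode K) e ∈ maximalIdeal (FormalNode K))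
    (h : a * a = s * s * e) : ∃ a', a = s * a' := by
  have hd : ∀ i, nodeAxis i (algebraMap A (FormalNode K) s) ∣ nodeAxis i (algebraMap A (FormalNode K) a) := fun i => by
    exact (IsIntegrallyClosed.pow_dvd_pow_iff (n := 2) two_ne_zero).1 ⟨nodeAxis i (algebraMap A (FormalNode K) e), by rw [pow_two, pow_two, ← map_mul, ← map_mul, h, map_mul, map_mul, map_mul, map_mul]⟩
  choose q hq using hd
  have hqe : ∀ i, q i * q i = nodeAxis i (algebraMap A (FormalNode K) e) := fun i =>
    mul_left_cancel₀ (mul_ne_zero (hs i) (hs i)) (by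
      rw [mul_mul_mul_comm, ← hq, ← map_mul, ← map_mul, h, map_mul, map_mul, map_mul, map_mul])
  have h0 : ∀ i, PowerSeries.constantCoeff (q i) = 0 := fun i => by
    refine mul_self_eq_zero.1 ?_
    rw [← map_mul, hqe]
    exact axConst_eq_zero i hm
  obtain ⟨n, hn⟩ := exists_node_axes q (by rw [h0, h0])
  have ha : algebraMap A (FormalNode K) a = algebraMap A (FormalNode K) s * n := sub_eq_zero.1 (node_ext fun i => by
    rw [map_sub, map_mul, hn, hq, sub_self])
  have hmem : a ∈ ((Ideal.span {s}).map (algebraMap A (FormalNode K))).comap (algebraMap A (FormalNode K)) := by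
    rw [Ideal.mem_comap, Ideal.map_span, Set.image_singleton, ha]
    exact Ideal.mem_span_singleton'.2 ⟨n, mul_comm _ _⟩
  rw [Ideal.comap_map_eq_self_of_faithfullyFlat] at hmem
  obtain ⟨a', ha'⟩ := Ideal.mem_span_singleton'.1 hmem
  exact ⟨a', by rw [← ha', mul_comm]⟩

variable {C C' : Scheme.{u}} (π : C' ⟶ C)

theorem germ_app_comp (y : C') {W : C.Opens} {x : C} (hy : π y = x) (hW : x ∈ W) (r : Γ(C, W))
    (hu : IsUnit (C'.presheaf.germ (π ⁻¹ᵁ W) y (show π y ∈ W by rw [hy]; exact hW) (π.app W r))) :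
    IsUnit (C.presheaf.germ W x hW r) := by
  subst hy
  rw [← Scheme.Hom.germ_stalkMap_apply π W y hW r] at hu
  exact (isUnit_map_iff (π.stalkMap y).hom _).1 hu

variable [IsFinite π] [IsReduced C] [IsReduced C'] [AlgebraicGeometry.IsNoetherian C] [AlgebraicGeometry.IsNoetherian C']
  (U : C.Opens) [IsIso (π ∣_ U)]
  (hU : genericPoints (C : Type u) ⊆ (U : Set C)) (hU' : genericPoints (C' : Type u) ⊆ ((π ⁻¹ᵁ U : C'.Opens) : Set C'))
  (k : Type u) [Field k] [IsAlgClosed k] [C.Over (Spec (CommRingCat.of k))]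
  [LocallyOfFiniteType (C ↘ Spec (CommRingCat.of k))]

include hU in
omit [IsReduced C] [IsReduced C'] [AlgebraicGeometry.IsNoetherian C'] [IsAlgClosed k]
  [LocallyOfFiniteType (C ↘ Spec (CommRingCat.of k))] in
/-- The normalisation is surjective. -/
theorem exists_over (x : C) : ∃ y, π y = x := by
  obtain ⟨η, hη, hηx⟩ := FlatMor.GenericPts.exists_generic_specializes (α := C) x
  have hUr : (U : Set C) ⊆ Set.range π := fun z hz => by
    obtain ⟨w, hw⟩ := (π ∣_ U).homeomorph.surjective ⟨z, hz⟩
    exact ⟨(π ⁻¹ᵁ U).ι w, (morphismRestrict_base_coe π U w).symm.trans (congrArg Subtype.val hw)⟩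
  exact hηx.mem_closed π.isClosedMap.isClosed_range (hUr (hU hη))

include hU hU' in
/-- A function vanishing at the points over a node comes from the maximal ideal. -/
theorem node_vanish (hC' : Pi1.IsNormalScheme C') (hdim : topologicalKrullDim C ≤ 1) {x : C}
    (hx : Curv2.IsNode k C x) {W : C.Opens} (hxW : x ∈ W) (c₀ : Γ(C', π ⁻¹ᵁ W))
    (hc : ∀ y (hy : π y = x), ¬ IsUnit (C'.presheaf.germ (π ⁻¹ᵁ W) y (show π y ∈ W by rw [hy]; exact hxW) c₀)) :
    ∃ (W' : C.Opens) (h : W' ≤ W) (hx' : x ∈ W') (g r : Γ(C, W')),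
      IsUnit (C.presheaf.germ W' x hx' g) ∧ ¬ IsUnit (C.presheaf.germ W' x hx' r) ∧
      π.app W' g * rres (π.preimage_mono h) c₀ = π.app W' r := by
  classical
  obtain ⟨A, hA, hxA, s, c, b, hAW, hsb, hns, hsreg, hsne, h1, h2, hdec⟩ :=
    node_sections π U hU hU' k hC' hdim hx hxW
  obtain ⟨hinj, -⟩ := exists_denominator π U hU hU' hA
  let Z₀ : Γ(C', π ⁻¹ᵁ A) := rres (π.preimage_mono hAW) c₀
  obtain ⟨g, r₁, r₂, hg, he⟩ := hdec Z₀
  let G := (C.presheaf.germ A x hxA).hom
  have hmem : ∀ y, π y = x → y ∈ π ⁻¹ᵁ A := fun y hy => show π y ∈ A by rw [hy]; exact hxA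
  let Gy : ∀ y (hy : π y = x), Γ(C', π ⁻¹ᵁ A) →+* C'.presheaf.stalk y := fun y hy =>
    (C'.presheaf.germ (π ⁻¹ᵁ A) y (hmem y hy)).hom
  have hGy : ∀ y (hy : π y = x) (r : Γ(C, A)), IsUnit (Gy y hy (π.app A r)) ↔ IsUnit (G r) := fun y hy r => by
    refine ⟨germ_app_comp π y hy hxA r, fun h => ?_⟩
    subst hy
    show IsUnit (C'.presheaf.germ (π ⁻¹ᵁ A) y _ (π.app A r))
    rw [← Scheme.Hom.germ_stalkMap_apply π A y hxA r]
    exact h.map (π.stalkMap y).hom
  have hZ₀ : ∀ y (hy : π y = x), ¬ IsUnit (Gy y hy Z₀) := fun y hy => by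
    show ¬ IsUnit (C'.presheaf.germ (π ⁻¹ᵁ A) y _ (rres _ c₀))
    rw [show C'.presheaf.germ (π ⁻¹ᵁ A) y (hmem y hy) (rres (π.preimage_mono hAW) c₀) = _ from
      TopCat.Presheaf.germ_res_apply _ _ _ _ c₀]
    exact hc y hy
  obtain ⟨y₀, hy₀⟩ := exists_over π U hU x
  by_cases hr₂ : G r₂ ∈ maximalIdeal (C.presheaf.stalk x)
  · -- the coefficient of the branch function is in the maximal ideal
    obtain ⟨q, -, hq⟩ := h2 _ hr₂
    obtain ⟨V, hxV, q', rfl⟩ := C.presheaf.exists_germ_eq q
    obtain ⟨V', hxV', i₁, i₂, hV'⟩ : ∃ (V' : C.Opens) (_ : x ∈ V') (i₁ : V' ⟶ V ⊓ A) (i₂ : V' ⟶ V ⊓ A),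
        C.presheaf.map i₁.op (rres inf_le_right s * rres inf_le_left q') =
          C.presheaf.map i₂.op (rres inf_le_right c * rres inf_le_right r₂) := by
      obtain ⟨V', h, i₁, i₂, e⟩ := C.presheaf.germ_eq x (show x ∈ V ⊓ A from ⟨hxV, hxA⟩) (show x ∈ V ⊓ A from ⟨hxV, hxA⟩)
        (rres (inf_le_right : V ⊓ A ≤ A) s * rres (inf_le_left : V ⊓ A ≤ V) q')
        (rres (inf_le_right : V ⊓ A ≤ A) c * rres (inf_le_right : V ⊓ A ≤ A) r₂) (by
          rw [map_mul, map_mul]
          simp only [rres, TopCat.Presheaf.germ_res_apply]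
          exact hq)
      exact ⟨V', h, i₁, i₂, e⟩
    have hVA : V' ≤ A := i₁.le.trans inf_le_right
    have hVV : V' ≤ V := i₁.le.trans inf_le_left
    rw [map_mul, map_mul] at hV'
    simp only [rres, ← CommRingCat.comp_apply, ← Functor.map_comp] at hV'
    have hV'' : rres hVA s * rres hVV q' = rres hVA c * rres hVA r₂ := hV'
    have hbq : π.app V' (rres hVV q') = π.app V' (rres hVA r₂) * rres (π.preimage_mono hVA) b := by
      refine TopCat.Presheaf.section_ext C'.sheaf _ _ _ fun y hy => ?_
      haveI := (hC' y).1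
      have hyA : y ∈ π ⁻¹ᵁ A := hVA hy
      apply mul_left_cancel₀ (hsne y hyA)
      have e1 : π.app V' (rres hVA s) * π.app V' (rres hVV q') =
          π.app V' (rres hVA s) * (π.app V' (rres hVA r₂) * rres (π.preimage_mono hVA) b) := by
        rw [← map_mul, hV'', map_mul, app_rres π hVA s, app_rres π hVA c, hsb, map_mul]
        ring
      have e3 : C'.presheaf.germ (π ⁻¹ᵁ A) y hyA (π.app A s) = C'.presheaf.germ (π ⁻¹ᵁ V') y hy (π.app V' (rres hVA s)) := by
        rw [app_rres π hVA s]
        exact (TopCat.Presheaf.germ_res_apply _ _ _ _ _).symm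
      rw [e3]
      exact ((map_mul (C'.presheaf.germ (π ⁻¹ᵁ V') y hy).hom _ _).symm.trans (congrArg _ e1)).trans (map_mul (C'.presheaf.germ (π ⁻¹ᵁ V') y hy).hom _ _)
    refine ⟨V', hVA.trans hAW, hxV', rres hVA g, rres hVA r₁ + rres hVV q', ?_, ?_, ?_⟩
    · rw [show C.presheaf.germ V' x hxV' (rres hVA g) = _ from TopCat.Presheaf.germ_res_apply _ _ _ _ g]
      exact hg
    · intro hu
      have hy : y₀ ∈ π ⁻¹ᵁ V' := show π y₀ ∈ V' by rw [hy₀]; exact hxV'
      have h3 : IsUnit (C'.presheaf.germ (π ⁻¹ᵁ V') y₀ hy (π.app V' (rres hVA r₁ + rres hVV q'))) := by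
        subst hy₀
        rw [← Scheme.Hom.germ_stalkMap_apply π V' y₀ hxV']
        exact hu.map (π.stalkMap y₀).hom
      rw [map_add, hbq, app_rres π hVA r₁, app_rres π hVA r₂, ← map_mul, ← map_add, ← he, rres,
        TopCat.Presheaf.germ_res_apply, map_mul] at h3
      exact hZ₀ y₀ hy₀ (isUnit_of_mul_isUnit_right h3)
    · rw [map_add, hbq, app_rres π hVA g, app_rres π hVA r₁, app_rres π hVA r₂, ← map_mul (rres (π.preimage_mono hVA)).hom,
        ← map_add (rres (π.preimage_mono hVA)).hom, ← he, map_mul]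
      congr 1
      simp only [Z₀, rres, ← CommRingCat.comp_apply, ← Functor.map_comp]
      rfl
  · -- otherwise the branch function would be integral
    exfalso
    have hr₂u : IsUnit (G r₂) := not_not.1 hr₂
    let Z := π.app A g * Z₀
    have hZ : ∀ y (hy : π y = x), ¬ IsUnit (Gy y hy Z) := fun y hy h => hZ₀ y hy (by
      rw [map_mul] at h
      exact isUnit_of_mul_isUnit_right h)
    obtain ⟨g', t₁, t₂, hg', he'⟩ := hdec (Z * Z)
    let ρ₁ := r₂ * t₁ - t₂ * r₁
    let v := π.app A (g' * r₂) * Z - π.app A t₂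
    have hZv : Z * v = π.app A ρ₁ := by
      have hZe : Z = π.app A r₁ + π.app A r₂ * b := he
      simp only [v, ρ₁, map_sub, map_mul]
      linear_combination (π.app A r₂) * he' - (π.app A t₂) * hZe
    have hρ₁ : G ρ₁ ∈ maximalIdeal (C.presheaf.stalk x) := fun hu => by
      have h := (hGy y₀ hy₀ ρ₁).2 hu
      rw [← hZv, map_mul] at h
      exact hZ y₀ hy₀ (isUnit_of_mul_isUnit_left h)
    let a := r₂ * c + s * r₁
    have ha : π.app A s * Z = π.app A a := by
      have hZe : Z = π.app A r₁ + π.app A r₂ * b := he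
      simp only [a, map_add, map_mul, hsb]
      linear_combination (π.app A s) * hZe
    by_cases ht₂ : G t₂ ∈ maximalIdeal (C.presheaf.stalk x)
    · -- the square is in the maximal ideal
      obtain ⟨alg, hloc, hflat, hm⟩ := S15924.exists_formalNode k C x hx
      letI := alg
      haveI := hloc
      haveI := hflat
      haveI : Module.FaithfullyFlat (C.presheaf.stalk x) (FormalNode (AlgebraicClosure k)) :=
        Module.FaithfullyFlat.of_flat_of_isLocalHom
      obtain ⟨q, hqm, hq⟩ := h2 _ ht₂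
      have hid : g' * r₂ * (a * a) - s * s * ρ₁ - s * t₂ * a = 0 := hinj _ (by
        simp only [map_sub, map_mul, ← ha, ← hZv]
        simp only [v, map_mul]
        ring)
      have hid' := congrArg G hid
      simp only [map_sub, map_mul, map_zero] at hid'
      have hat : G t₂ * G a = G s * (G r₂ * q + G t₂ * G r₁) := by
        simp only [a, map_add, map_mul]
        linear_combination -(G r₂) * hq
      obtain ⟨ug, hug⟩ := hg'.mul hr₂u
      let e := (↑ug⁻¹ : C.presheaf.stalk x) * (G ρ₁ + (G r₂ * q + G t₂ * G r₁))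
      have hem : e ∈ maximalIdeal (C.presheaf.stalk x) :=
        Ideal.mul_mem_left _ _ (add_mem hρ₁ (add_mem (Ideal.mul_mem_left _ _ hqm) (Ideal.mul_mem_right _ _ ht₂)))
      have hsq : G a * G a = G s * G s * e := by
        have e1 : (ug : C.presheaf.stalk x) * (G a * G a) = G s * G s * (G ρ₁ + (G r₂ * q + G t₂ * G r₁)) := by
          rw [hug]
          linear_combination hid' + (G s) * hat
        calc G a * G a = ↑ug⁻¹ * ((ug : C.presheaf.stalk x) * (G a * G a)) := by rw [← mul_assoc, Units.inv_mul, one_mul]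
          _ = _ := by rw [e1]; simp only [e]; ring
      obtain ⟨a', ha'⟩ := node_sq (K := AlgebraicClosure k) (nodeAxis_ne_zero hsreg)
        (hm ▸ Ideal.mem_map_of_mem _ hem) hsq
      refine hr₂ (h1 (G r₂) (a' - G r₁) ?_)
      simp only [a, map_add, map_mul] at ha'
      show G r₂ * G c = G s * (a' - G r₁)
      linear_combination ha'
    · -- the conjugate is a unit over the node
      have hv : ∀ y (hy : π y = x), y ∈ C'.basicOpen v := fun y hy => (C'.mem_basicOpen v y (hmem y hy)).2 (by
        by_contra hn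
        have h3 : IsUnit (Gy y hy (π.app A t₂)) := (hGy y hy t₂).2 (not_not.1 ht₂)
        refine hn ?_
        have h4 : ¬ IsUnit (Gy y hy (π.app A (g' * r₂) * Z)) := by
          rw [map_mul]
          exact fun h => hZ y hy (isUnit_of_mul_isUnit_right h)
        rcases IsLocalRing.isUnit_or_isUnit_of_isUnit_add
          (a := -Gy y hy v) (b := Gy y hy (π.app A (g' * r₂) * Z)) (by
            rwa [show -Gy y hy v + Gy y hy (π.app A (g' * r₂) * Z) = Gy y hy (π.app A t₂) from by
              simp only [v, map_sub]; ring]) with h | h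
        · exact IsUnit.neg_iff _ |>.1 h
        · exact (h4 h).elim)
      have hcl : IsClosed (π '' ((C'.basicOpen v : Set C')ᶜ)) := π.isClosedMap _ (C'.basicOpen v).2.isClosed_compl
      obtain ⟨f, hfD, hxf⟩ := hA.exists_basicOpen_le (V := ⟨_, hcl.isOpen_compl⟩)
        ⟨x, fun ⟨y, hy, hyx⟩ => hy (hv y hyx)⟩ hxA
      have hfA : IsAffineOpen (π ⁻¹ᵁ A) := hA.preimage π
      have hDv : C'.basicOpen (π.app A f) ≤ C'.basicOpen v := by
        rw [← Scheme.preimage_basicOpen]
        intro y hy
        by_contra hn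
        exact hfD hy ⟨y, hn, rfl⟩
      let res' := (rres (C'.basicOpen_le (π.app A f))).hom
      have hvu : IsUnit (res' v) := by
        have h : IsUnit ((rres (C'.basicOpen_le v)).hom v) := C'.toRingedSpace.isUnit_res_basicOpen v
        have h' := h.map (rres hDv).hom
        simp only [res', rres, ← CommRingCat.comp_apply, ← Functor.map_comp] at h' ⊢
        exact h'
      obtain ⟨w, hw⟩ := hvu.exists_right_inv
      letI := (C'.presheaf.map (homOfLE (C'.basicOpen_le (π.app A f))).op).hom.toAlgebra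
      haveI := hfA.isLocalization_basicOpen (π.app A f)
      obtain ⟨⟨z, ⟨_, n, rfl⟩⟩, hz⟩ := IsLocalization.surj (Submonoid.powers (π.app A f)) w
      replace hz : w * res' (π.app A f ^ n) = res' z := hz
      obtain ⟨g₀, o₁, o₂, hg₀, he₀⟩ := hdec z
      let e := f ^ n * g₀ * a - ρ₁ * (o₁ * s + o₂ * c)
      have h0 : res' (π.app A e) = 0 := by
        have h3 : π.app A e = π.app A (f ^ n * g₀) * (π.app A s * Z) - π.app A ρ₁ * (π.app A s * (π.app A g₀ * z)) := by
          rw [ha, he₀]
          simp only [e, map_sub, map_mul, map_add, map_pow, hsb]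
          ring
        rw [h3, ← hZv]
        simp only [map_sub, map_mul, ← hz, map_pow]
        linear_combination (-(res' (π.app A f) ^ n * res' (π.app A g₀) * res' (π.app A s) * res' Z)) * hw
      obtain ⟨hinjD, -⟩ := exists_denominator π U hU hU' (hA.basicOpen f)
      have he0 : rres (C.basicOpen_le f) e = 0 := hinjD _ (by
        rw [app_rres]
        have hle : π ⁻¹ᵁ C.basicOpen f ≤ C'.basicOpen (π.app A f) := (Scheme.preimage_basicOpen π f).le
        have h4 := congrArg (rres hle).hom h0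
        rw [map_zero] at h4
        simp only [res', rres, ← CommRingCat.comp_apply, Category.assoc, ← Functor.map_comp] at h4 ⊢
        exact h4)
      have hGe : G e = 0 := by
        rw [show G e = C.presheaf.germ (C.basicOpen f) x hxf (rres (C.basicOpen_le f) e) from
          (TopCat.Presheaf.germ_res_apply _ _ _ _ e).symm, he0, map_zero]
      simp only [e, a, map_sub, map_mul, map_add, map_pow] at hGe
      have hp := h1 (G f ^ n * G g₀ * G r₂ - G ρ₁ * G o₂) (G ρ₁ * G o₁ - G f ^ n * G g₀ * G r₁) (by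
        show _ * G c = G s * _
        linear_combination hGe)
      have hunit : IsUnit (G f ^ n * G g₀ * G r₂) :=
        ((((C.mem_basicOpen f x hxA).1 hxf).pow n).mul hg₀).mul hr₂u
      exact (maximalIdeal (C.presheaf.stalk x)).add_mem hp (Ideal.mul_mem_right (G o₂) _ hρ₁) (by
        rw [sub_add_cancel]; exact hunit)

end Groth.Agent.NodalLib
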