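import Groth.Agent.NodalLib.NodeEnlarge
import Groth.Agent.NodalLib.NodeVanish
import Groth.Agent.NodalLib.NodeResKer
import Groth.Agent.PCohD.PushFT
import Groth.Agent.AlgSpCov.IntegralDim

/-!
# Points over a node and the stalks of a direct image

The evaluation of the stalks of a direct image at the points over, and the residual comparison of a
free module with its pullback at such a point.
-/

set_option autoImplicit false
set_option linter.style.haveILetI false
set_option backward.isDefEq.respectTransparency false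
set_option backward.isDefEq.respectTransparency.types false

universe u

open CategoryTheory Limits AlgebraicGeometry Opposite TopologicalSpace IsLocalRing
open Groth.Agent.PullStalk.Sky Groth.Agent.PullStalk.Exact Groth.Agent.QCoh

noncomputable section

namespace Groth.Agent.NodalLib

section Algebra

variable {R S : Type u} [CommRing R] [IsLocalRing R] [CommRing S] [IsLocalRing S] (f : R →+* S) [IsLocalHom f]
  (hres : ∀ s : S, ∃ r, s - f r ∈ maximalIdeal S)
  {G P : Type u} [AddCommGroup G] [Module R G] [AddCommGroup P] [Module S P] (θ : G →ₛₗ[f] P)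
  {ι : Type} [Fintype ι] (b : Module.Basis ι R G) (p : Module.Basis ι S P) (hθ : ∀ i, θ (b i) = p i)

theorem coord_mem {R : Type u} [CommRing R] {M : Type u} [AddCommGroup M] [Module R M] (I : Ideal R)
    (l : M →ₗ[R] R) {t : M} (ht : t ∈ I • (⊤ : Submodule R M)) : l t ∈ I := by
  refine Submodule.smul_induction_on ht (fun r hr m _ => ?_) fun a b ha hb => ?_
  · rw [map_smul]; exact I.mul_mem_right _ hr
  · rw [map_add]; exact I.add_mem ha hb

include hres hθ in
/-- The comparison is surjective modulo the maximal ideal. -/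
theorem exists_sub_mem (q : P) : ∃ g, q - θ g ∈ maximalIdeal S • (⊤ : Submodule S P) := by
  choose c hc using fun i => hres (p.repr q i)
  refine ⟨∑ i, c i • b i, ?_⟩
  rw [← p.sum_repr q, map_sum, ← Finset.sum_sub_distrib]
  refine Submodule.sum_mem _ fun i _ => ?_
  rw [LinearMap.map_smulₛₗ, hθ, ← sub_smul]
  exact Submodule.smul_mem_smul (hc i) Submodule.mem_top

include hres hθ in
/-- The preimage of the span of a submodule containing the maximal multiples. -/
theorem mem_of_mem_span (N : Submodule R G) (hN : maximalIdeal R • (⊤ : Submodule R G) ≤ N) {g : G}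
    (hg : θ g ∈ Submodule.span S (θ '' (N : Set G)) ⊔ maximalIdeal S • (⊤ : Submodule S P)) : g ∈ N := by
  have key : ∀ q ∈ Submodule.span S (θ '' (N : Set G)), ∃ n ∈ N, q - θ n ∈ maximalIdeal S • (⊤ : Submodule S P) := by
    intro q hq
    induction hq using Submodule.span_induction with
    | mem q hq =>
      obtain ⟨n, hn, rfl⟩ := hq
      exact ⟨n, hn, by rw [sub_self]; exact zero_mem _⟩
    | zero => exact ⟨0, zero_mem _, by rw [map_zero, sub_zero]; exact zero_mem _⟩
    | add a b _ _ ha hb =>
      obtain ⟨n, hn, h1⟩ := ha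
      obtain ⟨m, hm, h2⟩ := hb
      refine ⟨n + m, add_mem hn hm, ?_⟩
      rw [map_add, add_sub_add_comm]
      exact add_mem h1 h2
    | smul s a _ ha =>
      obtain ⟨n, hn, h1⟩ := ha
      obtain ⟨r, hr⟩ := hres s
      refine ⟨r • n, N.smul_mem r hn, ?_⟩
      rw [LinearMap.map_smulₛₗ, show s • a - f r • θ n = (s - f r) • a + f r • (a - θ n) by
        rw [sub_smul, smul_sub]; abel]
      exact add_mem (Submodule.smul_mem_smul hr Submodule.mem_top) (Submodule.smul_mem _ _ h1)
  obtain ⟨q, hq, m, hm, hqm⟩ := Submodule.mem_sup.1 hg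
  obtain ⟨n, hn, hn'⟩ := key q hq
  have hd : θ (g - n) ∈ maximalIdeal S • (⊤ : Submodule S P) := by
    rw [map_sub, ← hqm, add_sub_right_comm]
    exact add_mem hn' hm
  have hgn : g - n ∈ N := by
    refine hN ?_
    rw [← b.sum_repr (g - n)]
    refine Submodule.sum_mem _ fun i _ => Submodule.smul_mem_smul ?_ Submodule.mem_top
    classical
    have h1 := coord_mem _ (p.coord i) hd
    rw [← b.sum_repr (g - n), map_sum, map_sum] at h1
    simp only [LinearMap.map_smulₛₗ, hθ, map_smul, Module.Basis.coord_apply, Module.Basis.repr_self,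
      Finsupp.single_apply, smul_eq_mul, mul_ite, mul_one, mul_zero, Finset.sum_ite_eq', Finset.mem_univ, if_true,
      RingHom.id_apply] at h1
    exact fun hu => h1 (hu.map f)
  simpa using add_mem hgn hn

/-- A submodule of a free module containing the multiples by a nonzero element is free of the same rank. -/
theorem free_of_smul_mem {S : Type u} [CommRing S] [IsDomain S] [IsPrincipalIdealRing S] {P : Type u} [AddCommGroup P]
    [Module S P] [Module.Free S P] [Module.Finite S P] (N : Submodule S P) {s : S} (hs : s ≠ 0)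
    (h : ∀ p, s • p ∈ N) : Module.Free S N ∧ Module.finrank S N = Module.finrank S P := by
  haveI : Module.Free S N := Module.Free.of_basis (Submodule.basisOfPid (Module.Free.chooseBasis S P) N).2
  haveI : Module.Finite S N := Module.Finite.of_basis (Submodule.basisOfPid (Module.Free.chooseBasis S P) N).2
  refine ⟨inferInstance, le_antisymm (Submodule.finrank_le N) ?_⟩
  refine LinearMap.finrank_le_finrank_of_injective (f := (LinearMap.lsmul S P s).codRestrict N h) ?_
  intro a b hab
  exact smul_right_injective P hs (congrArg Subtype.val hab)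

end Algebra

variable {X Y : Scheme.{u}} (π : Y ⟶ X)

/-- The evaluation of the stalk of a direct image at a point over. -/
def ev (M : Y.Modules) (y : Y) :
    ((Scheme.Modules.pushforward π).obj M).presheaf.stalk (π y) →ₛₗ[(π.stalkMap y).hom] M.presheaf.stalk y where
  toFun t := TopCat.Presheaf.stalkPushforward AddCommGrpCat π.base M.presheaf y t
  map_add' := map_add _
  map_smul' r t := PCohD.stalkPushforward_smul π M y r t

theorem ev_germ (M : Y.Modules) (y : Y) {W : X.Opens} (hW : π y ∈ W) (e : Γ(M, π ⁻¹ᵁ W)) :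
    ev π M y (germM ((Scheme.Modules.pushforward π).obj M) W (π y) hW e) = germM M (π ⁻¹ᵁ W) y hW e := by
  show TopCat.Presheaf.stalkPushforward AddCommGrpCat π.base M.presheaf y _ = _
  erw [TopCat.Presheaf.stalkPushforward_germ_apply]

theorem ev_natural {M N : Y.Modules} (g : M ⟶ N) (y : Y)
    (t : ((Scheme.Modules.pushforward π).obj M).presheaf.stalk (π y)) :
    ev π N y (stalkLin ((Scheme.Modules.pushforward π).map g) (π y) t) = stalkLin g y (ev π M y t) := by
  obtain ⟨W, hW, e, rfl⟩ := exists_germM_eq ((Scheme.Modules.pushforward π).obj M) (π y) t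
  rw [stalkLin_germ, ev_germ, ev_germ, stalkLin_germ]
  rfl

/-- The germ of a function pulled back from below. -/
theorem ev_unit_germ (G : X.Modules) (y : Y) {W : X.Opens} (hW : π y ∈ W) (m : Γ(G, W)) :
    ev π _ y (stalkLin ((Scheme.Modules.pullbackPushforwardAdjunction π).unit.app G) (π y) (germM G W (π y) hW m)) =
      germM ((Scheme.Modules.pullback π).obj G) (π ⁻¹ᵁ W) y hW (LFFrame.unitSec π G W m) := by
  refine (congrArg (ev π ((Scheme.Modules.pullback π).obj G) y) (stalkLin_germ ((Scheme.Modules.pullbackPushforwardAdjunction π).unit.app G) W (π y) hW m)).trans ?_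
  exact ev_germ π _ y hW _

/-- Points over closed points are closed. -/
theorem isClosed_of_over [IsIntegralHom π] {y : Y} (h : IsClosed ({π y} : Set X)) : IsClosed ({y} : Set Y) := by
  refine isClosed_of_closure_subset fun z hz => ?_
  have hsp : y ⤳ z := specializes_iff_mem_closure.2 hz
  have h1 : π z = π y := (hsp.map π.continuous).mem_closed h rfl
  by_contra hne
  have hlt : z < y := lt_iff_le_not_ge.2 ⟨hsp, fun h' => hne (Set.mem_singleton_iff.2 (hsp.antisymm h').eq.symm)⟩
  exact (AlgSpCov.IntegralDim.strictMono_of_isIntegralHom π hlt).ne h1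

/-- Bases from frames. -/
def frameBasis {X : Scheme.{u}} (M : X.Modules) {U : X.Opens} {n : ℕ} {e : Fin n → Γ(M, U)} (he : LFFrame.IsFrame M U e)
    (x : X) (hx : x ∈ U) : Module.Basis (Fin n) (X.presheaf.stalk x) (M.presheaf.stalk x) :=
  .ofEquivFun (LinearEquiv.ofBijective _ (he.stalkComb_bijective x hx)).symm

theorem frameBasis_apply {X : Scheme.{u}} (M : X.Modules) {U : X.Opens} {n : ℕ} {e : Fin n → Γ(M, U)}
    (he : LFFrame.IsFrame M U e) (x : X) (hx : x ∈ U) (i : Fin n) : frameBasis M he x hx i = germM M U x hx (e i) := by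
  classical
  rw [frameBasis, Module.Basis.coe_ofEquivFun, LinearEquiv.symm_symm]
  show LFFrame.stalkComb M e x hx (Pi.single i 1) = _
  simp [LFFrame.stalkComb, Fintype.linearCombination_apply, Pi.single_apply, ite_smul]

theorem residue_over {k : Type u} [Field k] [IsAlgClosed k] (str : X ⟶ Spec (CommRingCat.of k))
    [LocallyOfFiniteType (π ≫ str)] {y : Y} (hy : IsClosed ({y} : Set Y)) (s : Y.presheaf.stalk y) :
    ∃ r, s - π.stalkMap y r ∈ maximalIdeal (Y.presheaf.stalk y) := by
  obtain ⟨c, hc⟩ := StrictSSLib.residue_surjective_of_isClosed (π ≫ str) hy (residue _ s)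
  refine ⟨StrictSSLib.strMap str (π y) c, ?_⟩
  rw [← residue_eq_zero_iff, map_sub, sub_eq_zero, ← hc, RingHom.comp_apply, StrictSSLib.strMap_comp]
  rfl

section Vanish

variable [IsFinite π] [IsReduced X] [IsReduced Y] [AlgebraicGeometry.IsNoetherian X] [AlgebraicGeometry.IsNoetherian Y]
  (U : X.Opens) [IsIso (π ∣_ U)]
  (hU : genericPoints (X : Type u) ⊆ (U : Set X)) (hU' : genericPoints (Y : Type u) ⊆ ((π ⁻¹ᵁ U : Y.Opens) : Set Y))
  (k : Type u) [Field k] [IsAlgClosed k] [X.Over (Spec (CommRingCat.of k))]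
  [LocallyOfFiniteType (X ↘ Spec (CommRingCat.of k))]

include hU hU' in
/-- A germ of the direct image of a pulled back bundle vanishing at the points over a node comes from
the maximal multiples. -/
theorem mem_smul_range_of_ev (hY : Pi1.IsNormalScheme Y) (hdim : topologicalKrullDim X ≤ 1)
    {G : X.Modules} {r : ℕ} (hG : FlatMod.IsFinLocFreeOfRank r G) {x : X} (hx : Curv2.IsNode k X x)
    (t : ((Scheme.Modules.pushforward π).obj ((Scheme.Modules.pullback π).obj G)).presheaf.stalk x)
    (ht : ∀ y (hy : π y = x), ev π _ y (hy ▸ t) ∈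
      maximalIdeal (Y.presheaf.stalk y) • (⊤ : Submodule (Y.presheaf.stalk y) _)) :
    t ∈ (maximalIdeal (X.presheaf.stalk x) • ⊤ : Submodule (X.presheaf.stalk x) (G.presheaf.stalk x)).map
      (stalkLin ((Scheme.Modules.pullbackPushforwardAdjunction π).unit.app G) x) := by
  classical
  let P := (Scheme.Modules.pullback π).obj G
  let M := (Scheme.Modules.pushforward π).obj P
  let η : G ⟶ M := (Scheme.Modules.pullbackPushforwardAdjunction π).unit.app G
  obtain ⟨V, hxV, ⟨φ⟩⟩ := hG x
  obtain ⟨e, he⟩ := VBLib.exists_isFrame_of_iso φ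
  have hp := he.pullback π
  obtain ⟨W, hW, m, rfl⟩ := exists_germM_eq M x t
  let W₁ : X.Opens := W ⊓ V
  have hxW₁ : x ∈ W₁ := ⟨hW, hxV⟩
  let m₁ : Γ(P, π ⁻¹ᵁ W₁) := res M (inf_le_left : W₁ ≤ W) m
  obtain ⟨c, hc⟩ := (hp (π ⁻¹ᵁ W₁) (π.preimage_mono inf_le_right)).2 m₁
  have hm : germM M W₁ x hxW₁ m₁ = germM M W x hW m := GGDesc.germM_res_eq M inf_le_left x hxW₁ m
  have hcy : ∀ i y (hy : π y = x), ¬ IsUnit (Y.presheaf.germ (π ⁻¹ᵁ W₁) y
      (show π y ∈ W₁ by rw [hy]; exact hxW₁) (c i)) := by
    intro i y hy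
    subst hy
    have h := ht y rfl
    simp only at h
    rw [← hm, ev_germ, ← hc] at h
    have hcomb : germM P (π ⁻¹ᵁ W₁) y hxW₁ (LFFrame.comb P (fun i => LFFrame.unitSec π G V (e i))
        (π.preimage_mono inf_le_right) c) =
      LFFrame.stalkComb P (fun i => LFFrame.unitSec π G V (e i)) y hxV
        (fun i => Y.presheaf.germ (π ⁻¹ᵁ W₁) y hxW₁ (c i)) := LFFrame.germ_comb _ _ _ _ _ _
    rw [hcomb] at h
    have h1 := coord_mem _ ((frameBasis P hp y hxV).coord i) h
    have h2 : ∀ v, (frameBasis P hp y hxV).coord i (LFFrame.stalkComb P (fun i => LFFrame.unitSec π G V (e i)) y hxV v) = v i :=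
      fun v => congrFun ((LinearEquiv.ofBijective _ (hp.stalkComb_bijective y hxV)).symm_apply_apply v) i
    rw [h2] at h1
    exact h1
  choose W' hW' hxW' g r hg hr hgr using fun i => node_vanish π U hU hU' k hY hdim hx hxW₁ (c i) (hcy i)
  have hterm : ∀ i, germM M W₁ x hxW₁ (c i • res P (π.preimage_mono (inf_le_right : W₁ ≤ V)) (LFFrame.unitSec π G V (e i))) ∈
      (maximalIdeal (X.presheaf.stalk x) • ⊤ : Submodule (X.presheaf.stalk x) (G.presheaf.stalk x)).map (stalkLin η x) := by
    intro i
    have hV : W' i ≤ V := (hW' i).trans inf_le_right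
    refine (Submodule.smul_mem_iff_of_isUnit _ (hg i)).1 ?_
    refine ⟨X.presheaf.germ (W' i) x (hxW' i) (r i) • germM G V x hxV (e i),
      Submodule.smul_mem_smul (hr i) Submodule.mem_top, ?_⟩
    rw [map_smul, stalkLin_germ, ← GGDesc.germM_res_eq M hV x (hxW' i),
      ← GGDesc.germM_res_eq M (hW' i) x (hxW' i) (show Γ(M, W₁) from (show Γ(P, π ⁻¹ᵁ W₁) from c i • res P (π.preimage_mono (inf_le_right : W₁ ≤ V)) (LFFrame.unitSec π G V (e i)))), ← germM_smul, ← germM_smul]
    refine congrArg (germM M (W' i) x (hxW' i)) ?_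
    show π.app (W' i) (r i) • res P (π.preimage_mono hV) (LFFrame.unitSec π G V (e i)) =
      π.app (W' i) (g i) • res P (π.preimage_mono (hW' i)) (c i • res P _ _)
    rw [← hgr, QCoh.res_smul, QCoh.res_res, smul_smul]
  rw [← hm, ← hc]
  show germM M W₁ x hxW₁ (∑ i, c i • res P (π.preimage_mono (inf_le_right : W₁ ≤ V)) (LFFrame.unitSec π G V (e i))) ∈ _
  rw [show germM M W₁ x hxW₁ (∑ i, c i • res P (π.preimage_mono (inf_le_right : W₁ ≤ V)) (LFFrame.unitSec π G V (e i))) = _
    from map_sum _ _ _]
  exact Submodule.sum_mem _ fun i _ => hterm i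

end Vanish

end Groth.Agent.NodalLib
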