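import Groth.Agent.NodalLib.NodeType
import Mathlib.RingTheory.LocalRing.Length

/-!
# The direct image of the pullback to the normalisation at a node
-/

set_option autoImplicit false
set_option linter.style.haveILetI false

universe u

open CategoryTheory CategoryTheory.Limits AlgebraicGeometry TopologicalSpace IsLocalRing
open Groth.Agent.PullStalk.Sky Groth.Agent.PullStalk.Exact
open Groth.Agent.StrictSSLib Groth.Agent.QCoh
open Groth.Agent.TFCurvLib (eta eta_eq eta_smul span_eta bijective_eta)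
open scoped TensorProduct

noncomputable section

namespace Groth.Agent.NodalLib

theorem length_residue {R : Type u} [CommRing R] (m : Ideal R) [m.IsMaximal] : Module.length R (R ⧸ m) = 1 := by
  haveI : IsSimpleModule R (R ⧸ m) := isSimpleModule_iff_quot_maximal.2 ⟨m, inferInstance, ⟨LinearEquiv.refl R _⟩⟩
  exact Module.length_eq_one R _

/-- The cotangent space of a node has dimension two. -/
theorem length_formal_sq (K : Type u) [Field K] :
    Module.length (FormalNode K) (FormalNode K ⧸ maximalIdeal (FormalNode K) ^ 2) = 3 := by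
  let N := FormalNode K
  let 𝔪 := maximalIdeal N
  let Φ : N × N →ₗ[N] N ⧸ 𝔪 ^ 2 := (Submodule.mkQ (𝔪 ^ 2)).comp
    ((LinearMap.toSpanSingleton N N (gen 0)).coprod (LinearMap.toSpanSingleton N N (gen 1)))
  have hΦ : ∀ a b : N, Φ (a, b) = Ideal.Quotient.mk _ (a * gen 0 + b * gen 1) := fun a b => rfl
  have hgen : ∀ i : Fin 2, gen (K := K) i ∈ 𝔪 := fun i => by
    show gen i ∈ maximalIdeal (FormalNode K)
    rw [maximalIdeal_formalNode]
    exact Ideal.subset_span (by fin_cases i <;> simp)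
  let ψ : (N ⧸ 𝔪 ^ 2) →ₗ[N] N ⧸ 𝔪 := Submodule.mapQ (𝔪 ^ 2) 𝔪 LinearMap.id (Ideal.pow_le_self two_ne_zero)
  have hψ : Function.Surjective ψ := fun q => by
    obtain ⟨z, rfl⟩ := Ideal.Quotient.mk_surjective q
    exact ⟨Ideal.Quotient.mk _ z, rfl⟩
  have hex : Function.Exact (LinearMap.range Φ).subtype ψ := by
    intro q
    obtain ⟨z, rfl⟩ := Ideal.Quotient.mk_surjective q
    constructor
    · intro hz
      have hz' : z ∈ maximalIdeal (FormalNode K) := Ideal.Quotient.eq_zero_iff_mem.1 hz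
      rw [maximalIdeal_formalNode, Ideal.mem_span_pair] at hz'
      obtain ⟨a, b, rfl⟩ := hz'
      exact ⟨⟨_, (a, b), hΦ a b⟩, rfl⟩
    · rintro ⟨⟨_, ⟨a, b⟩, rfl⟩, h⟩
      rw [← h]
      show ψ (Φ (a, b)) = 0
      rw [hΦ]
      exact Ideal.Quotient.eq_zero_iff_mem.2 (𝔪.add_mem (𝔪.mul_mem_left _ (hgen 0)) (𝔪.mul_mem_left _ (hgen 1)))
  have hc : ∀ x ∈ 𝔪, ∀ i : Fin 2, PowerSeries.constantCoeff (nodeAxis i x) = 0 := fun x hx i => by
    have hx' : x ∈ maximalIdeal (FormalNode K) := hx
    rw [maximalIdeal_formalNode, Ideal.mem_span_pair] at hx'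
    obtain ⟨p, q, rfl⟩ := hx'
    rw [map_add, map_mul, map_mul, map_add, map_mul, map_mul]
    fin_cases i
    · simp [nodeAxis_gen, nodeAxis_gen_ne (show (1 : Fin 2) ≠ 0 by decide)]
    · simp [nodeAxis_gen, nodeAxis_gen_ne (show (0 : Fin 2) ≠ 1 by decide)]
  have hunit : ∀ (x : N) (i : Fin 2), PowerSeries.constantCoeff (nodeAxis i x) = 0 → x ∈ 𝔪 := fun x i h => by
    show x ∈ maximalIdeal (FormalNode K)
    intro hu
    exact not_isUnit_zero (h ▸ PowerSeries.isUnit_constantCoeff _ (hu.map (nodeAxis i)))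
  have hker : LinearMap.ker Φ = Submodule.prod (R := N) (M := N) (M' := N) 𝔪 𝔪 := by
    ext ⟨a, b⟩
    rw [LinearMap.mem_ker, hΦ, Ideal.Quotient.eq_zero_iff_mem, Submodule.mem_prod]
    refine ⟨fun h => ?_, fun ⟨ha, hb⟩ => pow_two 𝔪 ▸ Ideal.add_mem _ (Ideal.mul_mem_mul ha (hgen 0)) (Ideal.mul_mem_mul hb (hgen 1))⟩
    have hcoe : ∀ i : Fin 2, PowerSeries.coeff 1 (nodeAxis i (a * gen 0 + b * gen 1)) = 0 := fun i => by
      generalize a * gen (K := K) 0 + b * gen 1 = z at h
      rw [pow_two] at h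
      induction h using Submodule.mul_induction_on' with
      | mem_mul_mem x hx y hy => rw [map_mul, PowerSeries.coeff_one_mul, hc x hx i, hc y hy i, mul_zero, mul_zero, add_zero]
      | add x _ y _ hx hy => rw [map_add, map_add, hx, hy, add_zero]
    refine ⟨hunit a 0 ?_, hunit b 1 ?_⟩
    · have h0 := hcoe 0
      rw [map_add, map_mul, map_mul, nodeAxis_gen, nodeAxis_gen_ne (show (1 : Fin 2) ≠ 0 by decide), mul_zero, add_zero,
        PowerSeries.coeff_succ_mul_X, PowerSeries.coeff_zero_eq_constantCoeff_apply] at h0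
      exact h0
    · have h0 := hcoe 1
      rw [map_add, map_mul, map_mul, nodeAxis_gen, nodeAxis_gen_ne (show (0 : Fin 2) ≠ 1 by decide), mul_zero, zero_add,
        PowerSeries.coeff_succ_mul_X, PowerSeries.coeff_zero_eq_constantCoeff_apply] at h0
      exact h0
  have h2 : Module.length N (LinearMap.range Φ) = 2 := by
    let P : N × N →ₗ[N] (N ⧸ 𝔪) × (N ⧸ 𝔪) := (Submodule.mkQ 𝔪).prodMap (Submodule.mkQ 𝔪)
    have hP : Function.Surjective P := Function.Surjective.prodMap (Submodule.mkQ_surjective _) (Submodule.mkQ_surjective _)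
    have hkP : LinearMap.ker P = LinearMap.ker Φ := by
      rw [hker, LinearMap.ker_prodMap, Submodule.ker_mkQ]
    rw [← Φ.quotKerEquivRange.length_eq, ← (Submodule.quotEquivOfEq _ _ hkP).length_eq,
      (LinearMap.quotKerEquivOfSurjective P hP).length_eq, Module.length_prod, length_residue 𝔪]
    rfl
  rw [Module.length_eq_add_of_exact _ ψ Subtype.val_injective hψ hex, h2, length_residue 𝔪]
  rfl

theorem length_cotangent {A : Type u} [CommRing A] [IsLocalRing A] {K : Type u} [Field K] [Algebra A (FormalNode K)]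
    [IsLocalHom (algebraMap A (FormalNode K))] [Module.Flat A (FormalNode K)]
    (hm : (maximalIdeal A).map (algebraMap A (FormalNode K)) = maximalIdeal (FormalNode K)) :
    Module.length A ((maximalIdeal A) ⧸ (maximalIdeal A • ⊤ : Submodule A (maximalIdeal A))) = 2 := by
  let 𝔪 := maximalIdeal A
  have h3 : Module.length A (A ⧸ 𝔪 ^ 2) = 3 := by
    have h := IsLocalRing.length_baseChange A (FormalNode K) (A ⧸ 𝔪 ^ 2)
    rw [← (Algebra.TensorProduct.quotIdealMapEquivTensorQuotAux (A := A) (FormalNode K) (𝔪 ^ 2)).length_eq,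
      Ideal.map_pow, hm, length_residue (maximalIdeal (FormalNode K)), mul_one, length_formal_sq] at h
    exact h.symm
  let ι : (𝔪 ⧸ (𝔪 • ⊤ : Submodule A 𝔪)) →ₗ[A] A ⧸ 𝔪 ^ 2 :=
    Submodule.mapQ _ (𝔪 ^ 2) (Submodule.subtype 𝔪) fun z hz => by
      rw [Submodule.mem_comap, pow_two]
      exact (Submodule.map_smul'' _ _ _).trans_le (Submodule.smul_mono le_rfl (by rw [Submodule.map_top, Submodule.range_subtype])) (Submodule.mem_map_of_mem hz)
  let ψ : (A ⧸ 𝔪 ^ 2) →ₗ[A] A ⧸ 𝔪 := Submodule.mapQ (𝔪 ^ 2) 𝔪 LinearMap.id (Ideal.pow_le_self two_ne_zero)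
  have hι : Function.Injective ι := (injective_iff_map_eq_zero _).2 fun q hq => by
    obtain ⟨⟨z, hz⟩, rfl⟩ := Submodule.Quotient.mk_surjective _ q
    have hz2 : z ∈ 𝔪 ^ 2 := Ideal.Quotient.eq_zero_iff_mem.1 hq
    refine (Submodule.Quotient.mk_eq_zero _).2 ?_
    have h : (⊤ : Submodule A 𝔪).map (Submodule.subtype 𝔪) = 𝔪 := by rw [Submodule.map_top, Submodule.range_subtype]
    have hz3 : z ∈ (𝔪 • ⊤ : Submodule A 𝔪).map (Submodule.subtype 𝔪) := by
      rw [Submodule.map_smul'', h, smul_eq_mul, ← pow_two]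
      exact hz2
    obtain ⟨z', hz', h'⟩ := hz3
    exact (Subtype.ext h' : z' = ⟨z, hz⟩) ▸ hz'
  have hψ : Function.Surjective ψ := fun q => by
    obtain ⟨z, rfl⟩ := Ideal.Quotient.mk_surjective q
    exact ⟨Ideal.Quotient.mk _ z, rfl⟩
  have hex : Function.Exact ι ψ := fun q => by
    obtain ⟨z, rfl⟩ := Ideal.Quotient.mk_surjective q
    constructor
    · exact fun hz => ⟨Submodule.Quotient.mk ⟨z, Ideal.Quotient.eq_zero_iff_mem.1 hz⟩, rfl⟩
    · rintro ⟨q, h⟩
      obtain ⟨⟨y, hy⟩, rfl⟩ := Submodule.Quotient.mk_surjective _ q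
      rw [← h]
      exact Ideal.Quotient.eq_zero_iff_mem.2 hy
  have h := Module.length_eq_add_of_exact ι ψ hι hψ hex
  rw [h3, length_residue 𝔪] at h
  exact WithTop.add_right_cancel ENat.one_ne_top (h.symm.trans (by norm_num : (3 : ℕ∞) = 2 + 1))

variable {C C' : Scheme.{u}} (π : C' ⟶ C)
variable [IsFinite π] [IsReduced C] [IsReduced C'] [AlgebraicGeometry.IsNoetherian C] [AlgebraicGeometry.IsNoetherian C']
  (U : C.Opens) [IsIso (π ∣_ U)]
  (hU : genericPoints (C : Type u) ⊆ (U : Set C)) (hU' : genericPoints (C' : Type u) ⊆ ((π ⁻¹ᵁ U : C'.Opens) : Set C'))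
  (k : Type u) [Field k] [IsAlgClosed k] [C.Over (Spec (CommRingCat.of k))]
  [LocallyOfFiniteType (C ↘ Spec (CommRingCat.of k))]

omit [IsReduced C] [IsReduced C'] [AlgebraicGeometry.IsNoetherian C] [AlgebraicGeometry.IsNoetherian C']
  [IsAlgClosed k] [LocallyOfFiniteType (C ↘ Spec (CommRingCat.of k))] in
/-- Over the open the unit is bijective. -/
theorem bijective_unit_of_mem {F : C.Modules} [F.IsQuasicoherent] {x : C} (hx : x ∈ U) :
    Function.Bijective (stalkLin ((Scheme.Modules.pullbackPushforwardAdjunction π).unit.app F) x) := by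
  haveI : ((Scheme.Modules.pullback π).obj F).IsQuasicoherent := inferInstance
  have h := surjective_unit_push_of_mem π U (𝟙 ((Scheme.Modules.pullback π).obj F)) hx
  rw [(Scheme.Modules.pushforward π).map_id] at h
  erw [Category.comp_id] at h
  refine ⟨(injective_iff_map_eq_zero _).2 fun v hv => ?_, h⟩
  let M := (Scheme.Modules.pushforward π).obj ((Scheme.Modules.pullback π).obj F)
  let β : F ⟶ M := (Scheme.Modules.pullbackPushforwardAdjunction π).unit.app F
  obtain ⟨W, hW, m, rfl⟩ := exists_germM_eq F x v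
  have hv' : germM M W x hW (β.app W m) = 0 := (stalkLin_germ β W x hW m).symm.trans hv
  obtain ⟨W', hW', i₁, i₂, hz⟩ := M.presheaf.germ_eq x hW hW (β.app W m) 0 (hv'.trans (map_zero _).symm)
  obtain ⟨A, hA, hxA, hAW⟩ := exists_isAffineOpen_mem_and_subset (show x ∈ W' ⊓ U from ⟨hW', hx⟩)
  have hAW' : A ≤ W := fun z hz => i₁.le (hAW hz).1
  rw [← HomShQC.germM_res F hAW' x hxA m]
  have h0 : β.app A (res F hAW' m) = 0 := by
    rw [QCoh.app_res β hAW' m, ← QCoh.res_res M i₁.le (fun z hz => (hAW hz).1)]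
    exact (congrArg _ (hz.trans (map_zero _))).trans (map_zero _)
  have h1 : res F hAW' m = 0 := (bijective_eta π F hA (app_bijective π U fun z hz => (hAW hz).2)).1 (by
    rw [eta_eq, eta_eq]
    exact h0.trans (map_zero _).symm)
  rw [h1]
  exact map_zero _

include hU hU' in
/-- The unit at a node: injective, with cokernel the fibre of the module. -/
theorem node_unit (hC' : Pi1.IsNormalScheme C') (hdim : topologicalKrullDim C ≤ 1) {F : C.Modules} [F.IsQuasicoherent]
    (hns : ∀ y, ¬ Curv2.IsNode k C y → Function.Injective (stalkLin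
      ((Scheme.Modules.pullbackPushforwardAdjunction π).unit.app F) y))
    {x : C} (hx : Curv2.IsNode k C x) {a b : ℕ}
    (φ : F.presheaf.stalk x ≃ₗ[C.presheaf.stalk x]
      (Fin a → C.presheaf.stalk x) × (Fin b → maximalIdeal (C.presheaf.stalk x))) :
    Function.Injective (stalkLin ((Scheme.Modules.pullbackPushforwardAdjunction π).unit.app F) x) ∧
      Module.length (C.presheaf.stalk x) (((Scheme.Modules.pushforward π).obj ((Scheme.Modules.pullback π).obj F)).presheaf.stalk x ⧸
        LinearMap.range (stalkLin ((Scheme.Modules.pullbackPushforwardAdjunction π).unit.app F) x)) =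
      Module.length (C.presheaf.stalk x)
        (F.presheaf.stalk x ⧸ (maximalIdeal (C.presheaf.stalk x) • ⊤ : Submodule (C.presheaf.stalk x) (F.presheaf.stalk x))) := by
  classical
  let P := (Scheme.Modules.pullback π).obj F
  let M := (Scheme.Modules.pushforward π).obj P
  let β : F ⟶ M := (Scheme.Modules.pullbackPushforwardAdjunction π).unit.app F
  show Function.Injective (stalkLin β x) ∧ Module.length (C.presheaf.stalk x) (M.presheaf.stalk x ⧸ LinearMap.range (stalkLin β x)) = _
  haveI : M.IsQuasicoherent := isQuasicoherent_pushforward π P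
  have hinj : Function.Injective (stalkLin β x) := by
    refine (injective_iff_map_eq_zero _).2 fun v hv => ?_
    obtain ⟨W, hW, m, rfl⟩ := exists_germM_eq F x v
    rw [stalkLin_germ] at hv
    obtain ⟨W', hW', i₁, i₂, hz⟩ := M.presheaf.germ_eq x hW hW (β.app W m) 0 (hv.trans (map_zero _).symm)
    obtain ⟨A, hA, hxA, s, c, bw, hAV, -, hnode, hsreg, -⟩ := node_sections π U hU hU' k hC' hdim hx hW'
    have hAW : A ≤ W := hAV.trans i₁.le
    let mA := res F hAW m
    have h0 : β.app A mA = 0 := by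
      rw [QCoh.app_res β hAW m, ← QCoh.res_res M i₁.le hAV]
      exact (congrArg _ (hz.trans (map_zero _))).trans (map_zero _)
    have h1 : res F (C.basicOpen_le s) mA = 0 := HomShQC.sec_ext F fun y hy => by
      refine Eq.trans ?_ (map_zero _).symm
      apply hns y (fun h => hnode y h hy)
      show stalkLin β y _ = stalkLin β y 0
      rw [stalkLin_germ, QCoh.app_res β (C.basicOpen_le s) mA, h0, map_zero]
      exact (map_zero _).trans (map_zero _).symm
    obtain ⟨n, hn⟩ := QCoh.exists_pow_smul_eq_zero F hA.isCompact s mA h1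
    have h2 := congrArg (germM F A x hxA) hn
    rw [germM_smul, show germM F A x hxA (0 : Γ(F, A)) = 0 from map_zero _, map_pow] at h2
    rw [← HomShQC.germM_res F hAW x hxA m]
    have hreg : ∀ (n : ℕ) (z : C.presheaf.stalk x), C.presheaf.germ A x hxA s ^ n * z = 0 → z = 0 := by
      intro n
      induction n with
      | zero => exact fun z hz => by simpa using hz
      | succ n ih => exact fun z hz => hsreg z (ih _ (by rw [← mul_assoc, ← pow_succ]; exact hz))
    have h3 := congrArg φ h2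
    rw [map_smul, map_zero] at h3
    refine φ.injective ((?_ : _ = (0 : _ × _)).trans (map_zero φ).symm)
    exact Prod.ext (funext fun i => hreg n _ (congrFun (congrArg Prod.fst h3) i))
      (funext fun j => Subtype.ext (hreg n _ (congrArg Subtype.val (congrFun (congrArg Prod.snd h3) j))))
  refine ⟨hinj, ?_⟩
  obtain ⟨S₀, -, he, -⟩ := stalk_data π U hU hU' x
  obtain ⟨A, hA, hxA, s, c, bw, -, hc, -, -, hsne, h1, h2, hdec⟩ :=
    node_sections π U hU hU' k hC' hdim hx (Opens.mem_top x)
  let R := C.presheaf.stalk x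
  let 𝔪 := maximalIdeal R
  let Fx := F.presheaf.stalk x
  let Q := Fx ⧸ (𝔪 • ⊤ : Submodule R Fx)
  let γ : Γ(C, A) →+* R := (C.presheaf.germ A x hxA).hom
  have hkill : ∀ r ∈ 𝔪, ∀ q : Q, r • q = 0 := fun r hr q => by
    obtain ⟨f, rfl⟩ := Submodule.Quotient.mk_surjective _ q
    exact (Submodule.Quotient.mk_eq_zero _).2 (Submodule.smul_mem_smul hr Submodule.mem_top)
  have huniq : ∀ r₁ r₂ : Γ(C, A), π.app A r₁ + π.app A r₂ * bw = 0 → γ r₂ ∈ 𝔪 := by
    intro r₁ r₂ h
    have h0 : π.app A (s * r₁ + r₂ * c) = 0 := by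
      rw [map_add, map_mul, map_mul, hc, mul_left_comm, ← mul_add, h, mul_zero]
    have h3 : γ (s * r₁ + r₂ * c) = 0 := he (show γ (s * r₁ + r₂ * c) • secGerm (unitMap π) x = (0 : R) • secGerm (unitMap π) x by
      rw [zero_smul, ← germ_app π hxA, h0]
      exact map_zero _)
    rw [map_add, map_mul, map_mul, add_comm, add_eq_zero_iff_eq_neg, ← mul_neg] at h3
    exact h1 _ _ h3
  choose G R₁ R₂ hG hdec using hdec
  let ρ : Γ(C', π ⁻¹ᵁ A) → R := fun z => ↑(hG z).unit⁻¹ * γ (R₂ z)
  have hρ : ∀ (z : Γ(C', π ⁻¹ᵁ A)) (g r₁ r₂ : Γ(C, A)), π.app A g * z = π.app A r₁ + π.app A r₂ * bw →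
      γ g * ρ z - γ r₂ ∈ 𝔪 := by
    intro z g r₁ r₂ h
    have h0 := huniq (g * R₁ z - G z * r₁) (g * R₂ z - G z * r₂) (by
      rw [map_sub, map_sub, map_mul, map_mul, map_mul, map_mul]
      linear_combination π.app A (G z) * h - π.app A g * hdec z)
    have e : γ g * ρ z - γ r₂ = ↑(hG z).unit⁻¹ * γ (g * R₂ z - G z * r₂) := by
      rw [map_sub, map_mul, map_mul, mul_sub, ← mul_assoc _ (γ (G z)), IsUnit.val_inv_mul, one_mul]
      ring
    exact e ▸ 𝔪.mul_mem_left _ h0
  have hρ' : ∀ (z : Γ(C', π ⁻¹ᵁ A)) (r₁ r₂ : Γ(C, A)), z = π.app A r₁ + π.app A r₂ * bw → ρ z - γ r₂ ∈ 𝔪 := by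
    intro z r₁ r₂ h
    have h0 := hρ z 1 r₁ r₂ (by rw [map_one, one_mul]; exact h)
    rwa [map_one, one_mul] at h0
  letI := (π.appLE A (π ⁻¹ᵁ A) le_rfl).hom.toAlgebra
  letI := LimTop.secModule π F (le_refl (π ⁻¹ᵁ A))
  haveI : IsScalarTower Γ(C, A) Γ(C', π ⁻¹ᵁ A) Γ(P, π ⁻¹ᵁ A) := IsScalarTower.of_algebraMap_smul fun _ _ => rfl
  have halg : ∀ r : Γ(C, A), algebraMap Γ(C, A) Γ(C', π ⁻¹ᵁ A) r = π.app A r := fun r => by
    show (π.appLE A (π ⁻¹ᵁ A) le_rfl).hom r = _
    rw [Scheme.Hom.appLE_eq_app]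
  have hbc := LimTop.isBaseChange_unitSec π F (le_refl (π ⁻¹ᵁ A)) hA (hA.preimage π)
  letI : Module Γ(C, A) Q := Module.compHom Q γ
  let bil : Γ(C', π ⁻¹ᵁ A) →ₗ[Γ(C, A)] Γ(F, A) →ₗ[Γ(C, A)] Q := LinearMap.mk₂ Γ(C, A)
    (fun z m => ρ z • Submodule.Quotient.mk (germM F A x hxA m))
    (fun z z' m => by
      have h0 := hρ (z + z') (G z * G z') (G z' * R₁ z + G z * R₁ z') (G z' * R₂ z + G z * R₂ z') (by
        simp only [map_add, map_mul]
        linear_combination π.app A (G z') * hdec z + π.app A (G z) * hdec z')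
      have e : ρ (z + z') - (ρ z + ρ z') = (↑(hG z).unit⁻¹ * ↑(hG z').unit⁻¹) *
          (γ (G z * G z') * ρ (z + z') - γ (G z' * R₂ z + G z * R₂ z')) := by
        simp only [map_add, map_mul, ρ]
        linear_combination (ρ (z + z') * (-1) + ↑(hG z).unit⁻¹ * γ (R₂ z)) * (IsUnit.val_inv_mul (hG z')) +
          (-(ρ (z + z')) * ↑(hG z').unit⁻¹ * γ (G z') + ↑(hG z').unit⁻¹ * γ (R₂ z')) * (IsUnit.val_inv_mul (hG z))
      rw [← add_smul]
      exact sub_eq_zero.1 ((sub_smul _ _ _).symm.trans (hkill _ (e ▸ 𝔪.mul_mem_left _ h0) _)))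
    (fun r z m => by
      have h0 := hρ (r • z) (G z) (r * R₁ z) (r * R₂ z) (by
        rw [Algebra.smul_def, halg, map_mul, map_mul]
        linear_combination π.app A r * hdec z)
      have e : ρ (r • z) - γ r * ρ z = ↑(hG z).unit⁻¹ * (γ (G z) * ρ (r • z) - γ (r * R₂ z)) := by
        simp only [map_mul, ρ]
        linear_combination (-(ρ (r • z))) * (IsUnit.val_inv_mul (hG z))
      show _ = γ r • (ρ z • (Submodule.Quotient.mk (germM F A x hxA m) : Q))
      rw [smul_smul]
      exact sub_eq_zero.1 ((sub_smul _ _ _).symm.trans (hkill _ (e ▸ 𝔪.mul_mem_left _ h0) _)))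
    (fun z m m' => by rw [show germM F A x hxA (m + m') = germM F A x hxA m + germM F A x hxA m' from map_add _ _ _,
      Submodule.Quotient.mk_add, smul_add])
    (fun r z m => by
      show _ = γ r • (ρ z • (Submodule.Quotient.mk (germM F A x hxA m) : Q))
      rw [germM_smul, Submodule.Quotient.mk_smul, smul_comm])
  let Λ : Γ(P, π ⁻¹ᵁ A) →ₗ[Γ(C, A)] Q :=
    (TensorProduct.lift bil).comp (hbc.equiv.symm.toLinearMap.restrictScalars Γ(C, A))
  have hΛ : ∀ (z : Γ(C', π ⁻¹ᵁ A)) (m : Γ(F, A)), Λ (z • eta π F A m) = ρ z • Submodule.Quotient.mk (germM F A x hxA m) := by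
    intro z m
    show TensorProduct.lift bil (hbc.equiv.symm (z • eta π F A m)) = _
    rw [show hbc.equiv.symm (z • eta π F A m) = z ⊗ₜ m from hbc.equiv.injective (by
      rw [LinearEquiv.apply_symm_apply, IsBaseChange.equiv_tmul]
      rfl), TensorProduct.lift.tmul]
    rfl
  have hΛs : ∀ (r : Γ(C, A)) (e : Γ(P, π ⁻¹ᵁ A)), Λ (π.app A r • e) = γ r • Λ e := fun r e => by
    rw [← halg, algebraMap_smul, map_smul]
    rfl
  -- the map on the stalk
  have hwd : ∀ (t t' : Γ(C, A)) (e e' : Γ(M, A)), IsUnit (γ t) → IsUnit (γ t') → ∀ v : M.presheaf.stalk x,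
      γ t • v = germM M A x hxA e → γ t' • v = germM M A x hxA e' → γ t' • Λ e = γ t • Λ e' := by
    intro t t' e e' _ _ v h h'
    have h0 : germM M A x hxA (t' • e - t • e') = 0 := by
      refine (map_sub _ _ _).trans (sub_eq_zero.2 ?_)
      refine (germM_smul M A x hxA t' e).trans (Eq.trans ?_ (germM_smul M A x hxA t e').symm)
      rw [← h, ← h']
      exact smul_comm _ _ _
    obtain ⟨t'', ht'', h3⟩ := CycLib.exists_smul_eq_zero_of_germ_eq_zero M hA hxA _ h0
    let eP : Γ(P, π ⁻¹ᵁ A) := e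
    let eP' : Γ(P, π ⁻¹ᵁ A) := e'
    have h4 : Λ (π.app A t'' • (π.app A t' • eP - π.app A t • eP')) = 0 :=
      (congrArg Λ h3).trans (map_zero Λ)
    rw [hΛs, map_sub, hΛs, hΛs] at h4
    exact sub_eq_zero.1 (ht''.smul_eq_zero.1 h4)
  choose E T hT hTe using fun v : M.presheaf.stalk x => CycLib.exists_smul_germ_eq M hA hxA v
  let ξ : M.presheaf.stalk x → Q := fun v => (↑(hT v).unit⁻¹ : R) • Λ (E v)
  have hξ : ∀ (v : M.presheaf.stalk x) (t : Γ(C, A)) (e : Γ(M, A)), IsUnit (γ t) → γ t • v = germM M A x hxA e →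
      γ t • ξ v = Λ e := by
    intro v t e ht h
    show γ t • ((↑(hT v).unit⁻¹ : R) • Λ (E v)) = _
    rw [smul_comm, hwd (T v) t (E v) e (hT v) ht v (hTe v) h, smul_smul, IsUnit.val_inv_mul, one_smul]
  let Ξ : M.presheaf.stalk x →ₗ[R] Q :=
    { toFun := ξ
      map_add' := fun v v' => by
        refine ((hT v).mul (hT v')).smul_left_cancel.1 ?_
        have h := hξ (v + v') (T v * T v') (T v' • E v + T v • E v') (by rw [map_mul]; exact (hT v).mul (hT v')) (by
          refine Eq.trans ?_ (map_add _ _ _).symm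
          refine Eq.trans ?_ (congrArg₂ (· + ·) (germM_smul M A x hxA (T v') (E v)).symm (germM_smul M A x hxA (T v) (E v')).symm)
          rw [← hTe v, ← hTe v', map_mul]
          show (γ (T v) * γ (T v')) • (v + v') = γ (T v') • γ (T v) • v + γ (T v) • γ (T v') • v'
          rw [smul_add, smul_smul, smul_smul, mul_comm (γ (T v')) (γ (T v))])
        rw [map_mul] at h
        refine h.trans ?_
        let eP : Γ(P, π ⁻¹ᵁ A) := E v
        let eP' : Γ(P, π ⁻¹ᵁ A) := E v'
        have h' : Λ (π.app A (T v') • eP + π.app A (T v) • eP') =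
            γ (T v') • Λ (E v) + γ (T v) • Λ (E v') := by rw [map_add, hΛs, hΛs]
        refine h'.trans (Eq.symm ?_)
        show (γ (T v) * γ (T v')) • (ξ v + ξ v') = _
        rw [smul_add, mul_smul, mul_smul, smul_comm (γ (T v)) (γ (T v')) (ξ v), hξ v (T v) (E v) (hT v) (hTe v),
          hξ v' (T v') (E v') (hT v') (hTe v')]
      map_smul' := fun r v => by
        simp only [RingHom.id_apply]
        letI := TopCat.Presheaf.algebra_section_stalk C.presheaf (⟨x, hxA⟩ : A)
        haveI := hA.isLocalization_stalk ⟨x, hxA⟩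
        obtain ⟨⟨r₀, t₀⟩, h0⟩ := IsLocalization.surj (hA.primeIdealOf ⟨x, hxA⟩).asIdeal.primeCompl r
        have h0' : γ t₀.1 * r = γ r₀ := (mul_comm _ _).trans h0
        have hu : IsUnit (γ t₀.1) := (CycLib.not_mem_primeIdealOf_iff hA hxA t₀.1).1 t₀.2
        refine (hu.mul (hT v)).smul_left_cancel.1 ?_
        have h := hξ (r • v) (t₀.1 * T v) (r₀ • E v) (by rw [map_mul]; exact hu.mul (hT v)) (by
          refine Eq.trans ?_ (germM_smul M A x hxA r₀ (E v)).symm
          rw [← hTe v]
          show γ (t₀.1 * T v) • r • v = γ r₀ • γ (T v) • v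
          rw [← h0', map_mul, smul_smul, smul_smul]
          congr 1
          ring)
        rw [map_mul] at h
        refine h.trans ?_
        refine (hΛs r₀ _).trans (Eq.symm ?_)
        show (γ t₀.1 * γ (T v)) • r • ξ v = γ r₀ • Λ (E v)
        rw [smul_comm, mul_smul, hξ v (T v) (E v) (hT v) (hTe v), smul_smul, mul_comm r, h0'] }
  have hΞg : ∀ e : Γ(M, A), Ξ (germM M A x hxA e) = Λ e := fun e => by
    have h := hξ (germM M A x hxA e) 1 e (by rw [map_one]; exact isUnit_one) (by rw [map_one, one_smul])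
    rwa [map_one, one_smul] at h
  have hlift : ∀ q : Q, ∃ (t : Γ(C, A)) (m : Γ(F, A)), IsUnit (γ t) ∧ γ t • q = Submodule.Quotient.mk (germM F A x hxA m) := by
    intro q
    obtain ⟨f, rfl⟩ := Submodule.Quotient.mk_surjective _ q
    obtain ⟨m, t, ht, htm⟩ := CycLib.exists_smul_germ_eq F hA hxA f
    exact ⟨t, m, ht, congrArg Submodule.Quotient.mk htm⟩
  have hsurj : Function.Surjective Ξ := fun q => by
    obtain ⟨t, m, ht, htm⟩ := hlift q
    refine ⟨(↑ht.unit⁻¹ : R) • germM M A x hxA (show Γ(M, A) from bw • eta π F A m), ?_⟩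
    rw [map_smul, hΞg]
    have h0 := hρ' bw 0 1 (by rw [map_zero, map_one, one_mul, zero_add])
    rw [map_one] at h0
    have h : Λ (bw • eta π F A m) = Submodule.Quotient.mk (germM F A x hxA m) := by
      rw [hΛ]
      refine sub_eq_zero.1 ?_
      rw [← hkill _ h0 (Submodule.Quotient.mk (germM F A x hxA m)), sub_smul, one_smul]
    rw [h, ← htm, smul_smul, IsUnit.val_inv_mul, one_smul]
  have hβg : ∀ m : Γ(F, A), stalkLin β x (germM F A x hxA m) = germM M A x hxA (show Γ(M, A) from eta π F A m) :=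
    fun m => (stalkLin_germ β A x hxA m).trans (congrArg _ (eta_eq π F A m).symm)
  have hregB : ∀ z : Γ(C', π ⁻¹ᵁ A), π.app A s * z = 0 → z = 0 := fun z hz => by
    refine eq_of_sub_eq_zero ?_
    rw [sub_zero]
    refine (basicOpen_eq_bot_iff z).1 (eq_bot_iff.2 fun y hy => ?_)
    have hyA : y ∈ π ⁻¹ᵁ A := C'.basicOpen_le z hy
    have hu := (C'.mem_basicOpen z y hyA).1 hy
    have h := congrArg (C'.presheaf.germ (π ⁻¹ᵁ A) y hyA) hz
    rw [map_mul, map_zero] at h
    exact (hsne y hyA (hu.mul_left_eq_zero.1 h)).elim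
  have hkm : ∀ f ∈ (𝔪 • ⊤ : Submodule R Fx), ∃ (t : Γ(C, A)) (m : Γ(F, A)), IsUnit (γ t) ∧ γ t • f = germM F A x hxA m ∧
      germM M A x hxA (show Γ(M, A) from bw • eta π F A m) ∈ LinearMap.range (stalkLin β x) := by
    intro f hf
    refine Submodule.smul_induction_on hf (fun r hr f _ => ?_) (fun f f' h h' => ?_)
    · letI := TopCat.Presheaf.algebra_section_stalk C.presheaf (⟨x, hxA⟩ : A)
      haveI := hA.isLocalization_stalk ⟨x, hxA⟩
      obtain ⟨⟨r₀, t₀⟩, h0⟩ := IsLocalization.surj (hA.primeIdealOf ⟨x, hxA⟩).asIdeal.primeCompl r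
      have h0' : γ t₀.1 * r = γ r₀ := (mul_comm _ _).trans h0
      have hu : IsUnit (γ t₀.1) := (CycLib.not_mem_primeIdealOf_iff hA hxA t₀.1).1 t₀.2
      obtain ⟨m, t, ht, htm⟩ := CycLib.exists_smul_germ_eq F hA hxA f
      obtain ⟨q, -, hq⟩ := h2 (γ r₀) (h0' ▸ 𝔪.mul_mem_left _ hr)
      obtain ⟨⟨q₀, t₁⟩, hq0⟩ := IsLocalization.surj (hA.primeIdealOf ⟨x, hxA⟩).asIdeal.primeCompl q
      have hq0' : γ t₁.1 * q = γ q₀ := (mul_comm _ _).trans hq0
      have hu₁ : IsUnit (γ t₁.1) := (CycLib.not_mem_primeIdealOf_iff hA hxA t₁.1).1 t₁.2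
      have h3 : γ (s * q₀ - t₁.1 * c * r₀) = 0 := by
        rw [map_sub, map_mul, map_mul, map_mul, ← hq0', sub_eq_zero]
        linear_combination (γ t₁.1) * hq
      obtain ⟨⟨t₂, ht₂⟩, h4⟩ := (IsLocalization.map_eq_zero_iff (hA.primeIdealOf ⟨x, hxA⟩).asIdeal.primeCompl R
        (s * q₀ - t₁.1 * c * r₀)).1 h3
      have hu₂ : IsUnit (γ t₂) := (CycLib.not_mem_primeIdealOf_iff hA hxA t₂).1 ht₂
      have h5 : π.app A (t₂ * t₁.1 * r₀) * bw = π.app A (t₂ * q₀) := by
        refine (sub_eq_zero.1 (hregB _ ?_)).symm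
        have h4' := congrArg (π.app A) h4
        simp only [map_mul, map_sub, map_zero, hc] at h4' ⊢
        linear_combination h4'
      refine ⟨t₂ * t₁.1 * t₀.1 * t, (t₂ * t₁.1 * r₀) • m, ?_, ?_, ⟨γ (t₂ * q₀) • germM F A x hxA m, ?_⟩⟩
      · simp only [map_mul]
        exact ((hu₂.mul hu₁).mul hu).mul ht
      · refine Eq.trans ?_ (germM_smul F A x hxA (t₂ * t₁.1 * r₀) m).symm
        rw [← htm]
        show γ (t₂ * t₁.1 * t₀.1 * t) • r • f = γ (t₂ * t₁.1 * r₀) • γ t • f
        rw [smul_smul, smul_smul]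
        congr 1
        simp only [map_mul]
        linear_combination (γ t₂ * γ t₁.1 * γ t) * h0'
      · rw [map_smul, hβg]
        refine (germM_smul M A x hxA (t₂ * q₀) (show Γ(M, A) from eta π F A m)).symm.trans ?_
        refine congrArg (germM M A x hxA) ?_
        show π.app A (t₂ * q₀) • eta π F A m = bw • eta π F A ((t₂ * t₁.1 * r₀) • m)
        rw [eta_smul, smul_smul, ← h5, mul_comm bw]
    · obtain ⟨t, m, ht, htm, hr⟩ := h
      obtain ⟨t', m', ht', htm', hr'⟩ := h'
      refine ⟨t * t', t' • m + t • m', by rw [map_mul]; exact ht.mul ht', ?_, ?_⟩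
      · refine Eq.trans ?_ (map_add _ _ _).symm
        refine Eq.trans ?_ (congrArg₂ (· + ·) (germM_smul F A x hxA t' m).symm (germM_smul F A x hxA t m').symm)
        rw [← htm, ← htm']
        show γ (t * t') • (f + f') = γ t' • γ t • f + γ t • γ t' • f'
        rw [map_mul, smul_add, smul_smul, smul_smul, mul_comm (γ t') (γ t)]
      · have e : (show Γ(M, A) from bw • eta π F A (t' • m + t • m')) =
            t' • (show Γ(M, A) from bw • eta π F A m) + t • (show Γ(M, A) from bw • eta π F A m') := by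
          show bw • eta π F A (t' • m + t • m') = π.app A t' • bw • eta π F A m + π.app A t • bw • eta π F A m'
          rw [show eta π F A (t' • m + t • m') = eta π F A (t' • m) + eta π F A (t • m') by
            simp only [eta_eq]; exact map_add _ _ _, eta_smul, eta_smul, smul_add, smul_comm bw, smul_comm bw]
        rw [e]
        refine (show germM M A x hxA _ = _ from (map_add _ _ _).trans (congrArg₂ (· + ·)
          (germM_smul M A x hxA t' _) (germM_smul M A x hxA t _))) ▸ ?_
        exact Submodule.add_mem _ (Submodule.smul_mem _ _ hr) (Submodule.smul_mem _ _ hr')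
  have hker : LinearMap.ker Ξ = LinearMap.range (stalkLin β x) := by
    refine le_antisymm ?_ ?_
    · intro v hv
      obtain ⟨e, t, ht, hte⟩ := CycLib.exists_smul_germ_eq M hA hxA v
      -- every section is, up to a unit, a combination of the two generators
      have key : ∀ (y : Γ(P, π ⁻¹ᵁ A)), y ∈ Submodule.span Γ(C', π ⁻¹ᵁ A) (Set.range (eta π F A)) →
          ∀ z : Γ(C', π ⁻¹ᵁ A), ∃ (g : Γ(C, A)) (m₁ m₂ : Γ(F, A)), IsUnit (γ g) ∧
            π.app A g • z • y = eta π F A m₁ + bw • eta π F A m₂ := by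
        intro y hy
        induction hy using Submodule.span_induction with
        | mem y hy =>
          obtain ⟨m, rfl⟩ := hy
          intro z
          refine ⟨G z, R₁ z • m, R₂ z • m, hG z, ?_⟩
          rw [eta_smul, eta_smul, smul_smul, smul_smul, hdec z, add_smul, mul_comm bw]
        | zero =>
          intro z
          refine ⟨1, 0, 0, by rw [map_one]; exact isUnit_one, ?_⟩
          simp only [smul_zero, eta_eq]
          exact ((congrArg₂ (· + ·) (map_zero _) ((congrArg (bw • ·) (map_zero _)).trans (smul_zero _))).trans (add_zero _)).symm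
        | add y y' _ _ hy hy' =>
          intro z
          obtain ⟨g, m₁, m₂, hg, h⟩ := hy z
          obtain ⟨g', n₁, n₂, hg', h'⟩ := hy' z
          refine ⟨g * g', g' • m₁ + g • n₁, g' • m₂ + g • n₂, by rw [map_mul]; exact hg.mul hg', ?_⟩
          have eadd : ∀ p q : Γ(F, A), eta π F A (p + q) = eta π F A p + eta π F A q := fun p q => by
            simp only [eta_eq]; exact map_add _ _ _
          rw [eadd, eadd, eta_smul, eta_smul, eta_smul, eta_smul, smul_add z, smul_add, map_mul]
          have h1' : π.app A g * π.app A g' = π.app A g' * π.app A g := mul_comm _ _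
          rw [show (π.app A g * π.app A g') • z • y = π.app A g' • π.app A g • z • y by rw [smul_smul (π.app A g'), h1'],
            show (π.app A g * π.app A g') • z • y' = π.app A g • π.app A g' • z • y' by rw [smul_smul (π.app A g)],
            h, h', smul_add, smul_add, smul_add bw, smul_comm bw, smul_comm bw]
          abel
        | smul r y _ hy =>
          intro z
          rw [smul_smul]
          exact hy _
      obtain ⟨g, m₁, m₂, hg, h⟩ := key e (span_eta π F hA ▸ Submodule.mem_top) 1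
      rw [one_smul] at h
      have hv' : (γ g * γ t) • v = germM M A x hxA (show Γ(M, A) from eta π F A m₁) +
          germM M A x hxA (show Γ(M, A) from bw • eta π F A m₂) := by
        rw [mul_smul, show γ t • v = germM M A x hxA e from hte]
        exact (germM_smul M A x hxA g e).symm.trans ((congrArg (germM M A x hxA) h).trans (map_add _ _ _))
      have h0 := congrArg Ξ hv'
      rw [map_smul, LinearMap.mem_ker.1 hv, smul_zero, map_add, hΞg, hΞg] at h0
      have e1 : Λ (eta π F A m₁) = 0 := by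
        rw [← one_smul Γ(C', π ⁻¹ᵁ A) (eta π F A m₁), hΛ]
        have h6 := hρ' 1 1 0 (by rw [map_one, map_zero, zero_mul, add_zero])
        rw [map_zero, sub_zero] at h6
        exact hkill _ h6 _
      have e2 : Λ (bw • eta π F A m₂) = Submodule.Quotient.mk (germM F A x hxA m₂) := by
        rw [hΛ]
        have h6 := hρ' bw 0 1 (by rw [map_zero, map_one, one_mul, zero_add])
        rw [map_one] at h6
        refine sub_eq_zero.1 ?_
        rw [← hkill _ h6 (Submodule.Quotient.mk (germM F A x hxA m₂)), sub_smul, one_smul]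
      rw [e1, e2, zero_add, eq_comm, Submodule.Quotient.mk_eq_zero] at h0
      obtain ⟨t', m', ht', htm', hr⟩ := hkm _ h0
      have h7 : germM F A x hxA (t' • m₂ - m') = 0 := by
        refine (map_sub _ _ _).trans (sub_eq_zero.2 ?_)
        exact (germM_smul F A x hxA t' m₂).trans htm'
      obtain ⟨t'', ht'', h8⟩ := CycLib.exists_smul_eq_zero_of_germ_eq_zero F hA hxA _ h7
      rw [smul_sub, sub_eq_zero] at h8
      have h9 : (γ t'' * γ t') • germM M A x hxA (show Γ(M, A) from bw • eta π F A m₂) =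
          γ t'' • germM M A x hxA (show Γ(M, A) from bw • eta π F A m') := by
        rw [mul_smul]
        refine ((congrArg (γ t'' • ·) (germM_smul M A x hxA t' _).symm).trans (germM_smul M A x hxA t'' _).symm).trans ?_
        refine (congrArg (germM M A x hxA) ?_).trans (germM_smul M A x hxA t'' _)
        show π.app A t'' • π.app A t' • bw • eta π F A m₂ = π.app A t'' • bw • eta π F A m'
        rw [smul_comm _ bw, smul_comm _ bw, smul_comm _ bw, ← eta_smul, ← eta_smul, ← eta_smul, h8]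
      refine (Submodule.smul_mem_iff_of_isUnit _ (hg.mul ht)).1 ?_
      rw [hv']
      refine Submodule.add_mem _ ⟨_, hβg m₁⟩ ((Submodule.smul_mem_iff_of_isUnit _ (ht''.mul ht')).1 ?_)
      exact h9 ▸ Submodule.smul_mem _ _ hr
    · rintro _ ⟨f, rfl⟩
      obtain ⟨m, t, ht, htm⟩ := CycLib.exists_smul_germ_eq F hA hxA f
      rw [LinearMap.mem_ker]
      refine ht.smul_eq_zero.1 ?_
      rw [← map_smul Ξ, ← map_smul (stalkLin β x), htm, hβg, hΞg, ← one_smul Γ(C', π ⁻¹ᵁ A) (eta π F A m), hΛ]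
      have h6 := hρ' 1 1 0 (by rw [map_one, map_zero, zero_mul, add_zero])
      rw [map_zero, sub_zero] at h6
      exact hkill _ h6 _
  rw [← (Submodule.quotEquivOfEq _ _ hker).length_eq]
  exact (LinearMap.quotKerEquivOfSurjective Ξ hsurj).length_eq

/-- The fibre of a module of given type. -/
theorem length_fibre_type {R : Type u} [CommRing R] [IsLocalRing R] {F : Type u} [AddCommGroup F] [Module R F]
    {a b : ℕ} (φ : F ≃ₗ[R] (Fin a → R) × (Fin b → maximalIdeal R))
    (h2 : Module.length R ((maximalIdeal R) ⧸ (maximalIdeal R • ⊤ : Submodule R (maximalIdeal R))) = 2) :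
    Module.length R (F ⧸ (maximalIdeal R • ⊤ : Submodule R F)) = (a + 2 * b : ℕ) := by
  classical
  let 𝔪 := maximalIdeal R
  let T := (𝔪 • ⊤ : Submodule R 𝔪)
  let Φ : F →ₗ[R] (Fin a → R ⧸ 𝔪) × (Fin b → 𝔪 ⧸ T) :=
    ((LinearMap.pi fun i => (Submodule.mkQ 𝔪).comp (LinearMap.proj i)).prodMap
      (LinearMap.pi fun j => T.mkQ.comp (LinearMap.proj j))).comp φ.toLinearMap
  have hΦ : Function.Surjective Φ := fun ⟨v, w⟩ => by
    choose c hc using fun i => Ideal.Quotient.mk_surjective (v i)
    choose d hd using fun j => T.mkQ_surjective (w j)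
    refine ⟨φ.symm (c, d), ?_⟩
    show ((_ : Fin a → R ⧸ 𝔪), (_ : Fin b → 𝔪 ⧸ T)) = (v, w)
    simp only [LinearEquiv.coe_coe, LinearEquiv.apply_symm_apply]
    exact Prod.ext (funext hc) (funext hd)
  have hker : LinearMap.ker Φ = (𝔪 • ⊤ : Submodule R F) := by
    refine le_antisymm (fun f hf => ?_) (Submodule.smul_le.2 fun r hr f _ => ?_)
    · have hf' := LinearMap.mem_ker.1 hf
      have e : f = (∑ i, φ.symm (Pi.single i ((φ f).1 i), 0)) + ∑ j, φ.symm (0, Pi.single j ((φ f).2 j)) := by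
        refine φ.injective ?_
        rw [map_add, map_sum, map_sum]
        simp only [LinearEquiv.apply_symm_apply]
        refine Prod.ext ?_ ?_
        · rw [Prod.fst_add, Prod.fst_sum, Prod.fst_sum, Finset.univ_sum_single, Finset.sum_const_zero, add_zero]
        · rw [Prod.snd_add, Prod.snd_sum, Prod.snd_sum, Finset.univ_sum_single, Finset.sum_const_zero, zero_add]
      rw [e]
      refine add_mem (sum_mem fun i _ => ?_) (sum_mem fun j _ => ?_)
      · have hi : (φ f).1 i ∈ 𝔪 := Ideal.Quotient.eq_zero_iff_mem.1 (congrFun (congrArg Prod.fst hf') i)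
        have e1 : φ.symm (Pi.single i ((φ f).1 i), 0) = (φ f).1 i • φ.symm (Pi.single i 1, 0) := by
          rw [← map_smul, Prod.smul_mk, smul_zero, ← Pi.single_smul, smul_eq_mul, mul_one]
        rw [e1]
        exact Submodule.smul_mem_smul hi Submodule.mem_top
      · have hj : (φ f).2 j ∈ T := (Submodule.Quotient.mk_eq_zero T).1 (congrFun (congrArg Prod.snd hf') j)
        have hmap := Submodule.mem_map_of_mem (f := φ.symm.toLinearMap.comp
          ((LinearMap.inr R (Fin a → R) (Fin b → 𝔪)).comp (LinearMap.single R (fun _ => 𝔪) j))) hj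
        rw [Submodule.map_smul''] at hmap
        exact Submodule.smul_mono le_rfl le_top hmap
    · rw [LinearMap.mem_ker, map_smul]
      refine Prod.ext (funext fun i => ?_) (funext fun j => ?_)
      · exact Ideal.Quotient.eq_zero_iff_mem.2 (𝔪.mul_mem_right _ hr)
      · exact (Submodule.Quotient.mk_eq_zero T).2 (Submodule.smul_mem_smul hr Submodule.mem_top)
  rw [← hker, (LinearMap.quotKerEquivOfSurjective Φ hΦ).length_eq, Module.length_prod, Module.length_pi_of_fintype,
    Module.length_pi_of_fintype, h2, length_residue 𝔪]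
  simp [mul_comm]

end Groth.Agent.NodalLib
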