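import Groth.Agent.NodalLib.NormEmbed
import Mathlib.RingTheory.OrzechProperty
import Mathlib.RingTheory.Length

/-!
# Direct images from the normalisation of a nodal curve and types of torsion-free modules
-/

set_option autoImplicit false
set_option linter.style.haveILetI false

universe u

open CategoryTheory CategoryTheory.Limits AlgebraicGeometry TopologicalSpace IsLocalRing
open Groth.Agent.PullStalk.Sky Groth.Agent.PullStalk.Exact
open Groth.Agent.StrictSSLib Groth.Agent.QCoh
open Groth.Agent.TFCurvLib (eta eta_eq eta_smul span_eta bijective_eta)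

noncomputable section

namespace Groth.Agent.NodalLib

/-- The colength of a module of given type in its saturation. -/
theorem length_quotient_type {R : Type u} [CommRing R] [IsLocalRing R] {F T : Type u} [AddCommGroup F] [Module R F]
    [AddCommGroup T] [Module R T] (β : F →ₗ[R] T) {a b : ℕ}
    (φ : F ≃ₗ[R] (Fin a → R) × (Fin b → maximalIdeal R)) (S σ : R)
    (hreg : Function.Injective fun t : T => S • t) (hinj : Function.Injective β)
    (hgen : ∀ t : T, ∃ f₁ f₂ t', S • t' = σ • β f₂ ∧ t = β f₁ + t')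
    (hex : ∀ f, ∃ t', S • t' = σ • β f)
    (h1 : ∀ c d : R, c * σ = S * d → c ∈ maximalIdeal R)
    (h2 : ∀ c ∈ maximalIdeal R, ∃ d ∈ maximalIdeal R, S * d = σ * c) :
    Module.length R (T ⧸ LinearMap.range β) = a := by
  classical
  let e : Fin a → F := fun i => φ.symm (Pi.single i 1, 0)
  choose ω hω using fun i => hex (e i)
  let Ψ : (Fin a → R) →ₗ[R] T ⧸ LinearMap.range β :=
    Fintype.linearCombination R fun i => Submodule.Quotient.mk (ω i)
  have hΨ : ∀ c : Fin a → R, Ψ c = Submodule.Quotient.mk (∑ i, c i • ω i) := fun c => by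
    simp only [Ψ, Fintype.linearCombination_apply, ← Submodule.Quotient.mk_smul]
    exact (map_sum (LinearMap.range β).mkQ _ _).symm
  have hsum : ∀ c : Fin a → R, S • (∑ i, c i • ω i) = σ • β (φ.symm (c, 0)) := fun c => by
    have hc : (c, (0 : Fin b → maximalIdeal R)) = ∑ i, c i • ((Pi.single i (1 : R) : Fin a → R), (0 : Fin b → maximalIdeal R)) := by
      refine Prod.ext ?_ ?_
      · rw [Prod.fst_sum]
        simp only [Prod.smul_fst, ← Pi.single_smul, smul_eq_mul, mul_one]
        exact (Finset.univ_sum_single c).symm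
      · rw [Prod.snd_sum]
        simp
    rw [hc, map_sum, map_sum, Finset.smul_sum, Finset.smul_sum]
    refine Finset.sum_congr rfl fun i _ => ?_
    rw [map_smul, map_smul, smul_comm, hω i, smul_comm]
  have hsurj : Function.Surjective Ψ := fun q => by
    obtain ⟨t, rfl⟩ := Submodule.Quotient.mk_surjective _ q
    obtain ⟨f₁, f₂, t', ht', rfl⟩ := hgen t
    choose d hd hdS using fun j => h2 ((φ f₂).2 j : R) ((φ f₂).2 j).2
    let f₃ := φ.symm (0, fun j => (⟨d j, hd j⟩ : maximalIdeal R))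
    refine ⟨(φ f₂).1, ?_⟩
    rw [hΨ, Submodule.Quotient.eq]
    have h3 : t' = (∑ i, (φ f₂).1 i • ω i) + β f₃ := hreg (by
      show S • t' = S • _
      rw [smul_add, hsum, ht', ← map_smul β, ← map_smul β, ← map_smul β, ← map_add]
      refine congrArg β (φ.injective ?_)
      rw [map_smul, map_add, map_smul, map_smul, φ.apply_symm_apply, φ.apply_symm_apply]
      refine Prod.ext ?_ (funext fun j => Subtype.ext ?_)
      · simp
      · simp [hdS j])
    refine ⟨-f₁ - f₃, ?_⟩
    rw [map_sub, map_neg, h3]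
    abel
  let Φ : (Fin a → R) →ₗ[R] (Fin a → ResidueField R) :=
    LinearMap.pi fun i => (Algebra.linearMap R (ResidueField R)).comp (LinearMap.proj i)
  have hΦ : Function.Surjective Φ := fun v => by
    choose c hc using fun i => Ideal.Quotient.mk_surjective (v i)
    exact ⟨c, funext fun i => hc i⟩
  have hker : LinearMap.ker Φ = LinearMap.ker Ψ := by
    ext c
    rw [LinearMap.mem_ker, LinearMap.mem_ker, hΨ, Submodule.Quotient.mk_eq_zero]
    constructor
    · intro h
      choose d _ hdS using fun i => h2 (c i) (Ideal.Quotient.eq_zero_iff_mem.1 (congrFun h i))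
      refine ⟨φ.symm (d, 0), hreg ?_⟩
      show S • _ = S • _
      rw [hsum, ← map_smul β, ← map_smul β]
      refine congrArg β (φ.injective ?_)
      rw [map_smul, map_smul, φ.apply_symm_apply, φ.apply_symm_apply]
      exact Prod.ext (funext fun i => hdS i) (by simp)
    · rintro ⟨f, hf⟩
      have h3 : S • f = σ • φ.symm (c, 0) := hinj (by rw [map_smul, map_smul, hf, hsum])
      have h4 := congrArg (fun z => (φ z).1) h3
      simp only [map_smul, LinearEquiv.apply_symm_apply] at h4
      exact funext fun i => Ideal.Quotient.eq_zero_iff_mem.2 (h1 (c i) ((φ f).1 i) (by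
        rw [mul_comm]
        exact (congrFun h4 i).symm))
  rw [← (LinearMap.quotKerEquivOfSurjective Ψ hsurj).length_eq,
    ← (Submodule.quotEquivOfEq _ _ hker).length_eq, (LinearMap.quotKerEquivOfSurjective Φ hΦ).length_eq,
    Module.length_pi_of_fintype]
  have h1 : Module.length R (ResidueField R) = 1 := by
    haveI : IsSimpleModule R (ResidueField R) := isSimpleModule_iff_quot_maximal.2 ⟨maximalIdeal R, inferInstance, ⟨LinearEquiv.refl R _⟩⟩
    exact Module.length_eq_one R _
  simp [h1]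

variable {C C' : Scheme.{u}} (π : C' ⟶ C)

theorem unit_push_app {F : C.Modules} {E : C'.Modules} (q : (Scheme.Modules.pullback π).obj F ⟶ E) (W : C.Opens)
    (m : Γ(F, W)) :
    ((Scheme.Modules.pullbackPushforwardAdjunction π).unit.app F ≫ (Scheme.Modules.pushforward π).map q).app W m =
      q.app (π ⁻¹ᵁ W) (eta π F W m) := by
  rw [eta_eq]
  rfl

variable [IsFinite π] [IsReduced C] [IsReduced C'] [AlgebraicGeometry.IsNoetherian C] [AlgebraicGeometry.IsNoetherian C']
  (U : C.Opens) [IsIso (π ∣_ U)]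
  (hU : genericPoints (C : Type u) ⊆ (U : Set C)) (hU' : genericPoints (C' : Type u) ⊆ ((π ⁻¹ᵁ U : C'.Opens) : Set C'))
  (k : Type u) [Field k] [IsAlgClosed k] [C.Over (Spec (CommRingCat.of k))]
  [LocallyOfFiniteType (C ↘ Spec (CommRingCat.of k))]

include hU hU' in
/-- Coordinates at a node: an affine neighbourhood, a denominator, and a function separating the branches. -/
theorem node_sections (hC' : Pi1.IsNormalScheme C') (hdim : topologicalKrullDim C ≤ 1) {x : C}
    (hx : Curv2.IsNode k C x) {V : C.Opens} (hxV : x ∈ V) :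
    ∃ (A : C.Opens) (_ : IsAffineOpen A) (hxA : x ∈ A) (s c : Γ(C, A)) (b : Γ(C', π ⁻¹ᵁ A)),
      A ≤ V ∧ π.app A c = π.app A s * b ∧
      (∀ y, Curv2.IsNode k C y → y ∉ C.basicOpen s) ∧
      (∀ a : C.presheaf.stalk x, C.presheaf.germ A x hxA s * a = 0 → a = 0) ∧
      (∀ y (hy : y ∈ π ⁻¹ᵁ A), C'.presheaf.germ (π ⁻¹ᵁ A) y hy (π.app A s) ≠ 0) ∧
      (∀ p q : C.presheaf.stalk x, p * C.presheaf.germ A x hxA c = C.presheaf.germ A x hxA s * q →
        p ∈ maximalIdeal (C.presheaf.stalk x)) ∧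
      (∀ p ∈ maximalIdeal (C.presheaf.stalk x), ∃ q ∈ maximalIdeal (C.presheaf.stalk x),
        C.presheaf.germ A x hxA s * q = C.presheaf.germ A x hxA c * p) ∧
      ∀ z : Γ(C', π ⁻¹ᵁ A), ∃ g r₁ r₂ : Γ(C, A), IsUnit (C.presheaf.germ A x hxA g) ∧
        π.app A g * z = π.app A r₁ + π.app A r₂ * b := by
  classical
  haveI : (pushO π).IsQuasicoherent := (ProperFin.isCoh_push_of_isFinite π _ (ProperFin.isCoh_structureModule C')).1
  obtain ⟨A₀, hA₀, hxA₀, hAV⟩ := exists_isAffineOpen_mem_and_subset hxV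
  obtain ⟨hinj, s, hsR, hsB', hsB⟩ := exists_denominator π U hU hU' hA₀
  let e := secGerm (unitMap π) x
  let γ := (C.presheaf.germ A₀ x hxA₀).hom
  have hsne : ∀ y (hy : y ∈ π ⁻¹ᵁ A₀), C'.presheaf.germ (π ⁻¹ᵁ A₀) y hy (π.app A₀ s) ≠ 0 := by
    intro y hy h0
    haveI := ProjTwist.isQuasicoherent_structureModule C'
    obtain ⟨t, ht, h1⟩ := CycLib.exists_smul_eq_zero_of_germ_eq_zero (Coh.structureModule C') (hA₀.preimage π) hy
      (show Γ(Coh.structureModule C', π ⁻¹ᵁ A₀) from π.app A₀ s) (by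
        obtain ⟨W, hyW, i, i', hz⟩ := C'.presheaf.germ_eq y hy hy (π.app A₀ s) 0 (h0.trans (map_zero _).symm)
        rw [← GGDesc.germM_res_eq (Coh.structureModule C') i.le y hyW]
        exact (congrArg (fun b => germM (Coh.structureModule C') W y hyW b) (hz.trans (map_zero _))).trans (map_zero _))
    have h2 : t = 0 := hsB' t ((mul_comm _ _).trans h1)
    rw [h2, map_zero] at ht
    haveI := (hC' y).1
    exact not_isUnit_zero ht
  have hregQ : Function.Injective fun m : (pushO π).presheaf.stalk x => γ s • m := by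
    intro p q hpq
    obtain ⟨z₀, t, ht, htm⟩ := CycLib.exists_smul_germ_eq (pushO π) hA₀ hxA₀ (p - q)
    let z : Γ(C', π ⁻¹ᵁ A₀) := z₀
    have h0 : γ s • (p - q) = 0 := by rw [smul_sub]; exact sub_eq_zero.2 hpq
    have h1 : germM (pushO π) A₀ x hxA₀ (show Γ(pushO π, A₀) from π.app A₀ s * z) = 0 := by
      refine (germM_smul (pushO π) A₀ x hxA₀ s z).trans ?_
      rw [← show γ t • (p - q) = germM (pushO π) A₀ x hxA₀ z from htm, smul_comm, h0, smul_zero]
    obtain ⟨t', ht', h2⟩ := CycLib.exists_smul_eq_zero_of_germ_eq_zero (pushO π) hA₀ hxA₀ _ h1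
    have h2' : π.app A₀ s * (π.app A₀ t' * z) = 0 := (mul_left_comm _ _ _).trans h2
    have h3 : γ t' • germM (pushO π) A₀ x hxA₀ z = 0 :=
      (germM_smul (pushO π) A₀ x hxA₀ t' z).symm.trans
        ((congrArg (fun b => germM (pushO π) A₀ x hxA₀ b) (hsB' _ h2')).trans (map_zero _))
    rw [← htm, smul_smul] at h3
    exact sub_eq_zero.1 ((ht'.mul ht).smul_eq_zero.1 h3)
  obtain ⟨S₀, hS₀, he, hreg₀, hsM, hint⟩ := stalk_data π U hU hU' x
  obtain ⟨alg, hloc, hflat, hm⟩ := S15924.exists_formalNode k C x hx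
  letI := alg
  haveI := hloc
  haveI := hflat
  haveI : Module.FaithfullyFlat (C.presheaf.stalk x) (FormalNode (AlgebraicClosure k)) :=
    Module.FaithfullyFlat.of_flat_of_isLocalHom
  have hs := nodeAxis_ne_zero (K := AlgebraicClosure k) hS₀
  have hgax : ∀ (m : (pushO π).presheaf.stalk x) (a : C.presheaf.stalk x), S₀ • m = a • e → ∀ i,
      nodeAxis i (algebraMap (C.presheaf.stalk x) (FormalNode (AlgebraicClosure k)) S₀) ∣
        nodeAxis i (algebraMap (C.presheaf.stalk x) (FormalNode (AlgebraicClosure k)) a) := fun m a hma i =>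
    hint _ ((nodeAxis i).comp (algebraMap (C.presheaf.stalk x) (FormalNode (AlgebraicClosure k)))) (hs i) m a hma
  have hsimple := node_simple e S₀ hs he hreg₀ hsM hgax
  have hrange : ∀ (y : C), LinearMap.range (stalkLin (unitMap π) y) =
      Submodule.span (C.presheaf.stalk y) {secGerm (unitMap π) y} := by
    intro y
    refine le_antisymm ?_ ?_
    · rintro _ ⟨t, rfl⟩
      obtain ⟨r, rfl⟩ := exists_smul_oneGerm y t
      rw [stalkLin_smul_oneGerm]
      exact Submodule.smul_mem _ _ (Submodule.mem_span_singleton_self _)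
    · rw [Submodule.span_singleton_le_iff_mem]
      exact ⟨(1 : C.presheaf.stalk y) • oneGerm y, by rw [stalkLin_smul_oneGerm, one_smul]⟩
  have hout : ∀ y, Curv2.IsNode k C y → ∃ m, m ∉ Submodule.span (C.presheaf.stalk y) {secGerm (unitMap π) y} := by
    intro y hy
    by_contra! hc
    have h := (node_length π U hU hU' k hC' hdim hy).2
    rw [hrange y] at h
    haveI : Subsingleton ((pushO π).presheaf.stalk y ⧸ Submodule.span (C.presheaf.stalk y) {secGerm (unitMap π) y}) :=
      Submodule.Quotient.subsingleton_iff.2 (eq_top_iff.2 fun m _ => hc m)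
    exact zero_ne_one ((Module.length_eq_zero_iff.2 ‹_›).symm.trans h)
  have hfrac : ∀ (y : C) (hy : y ∈ A₀) (z : Γ(C', π ⁻¹ᵁ A₀)), ∃ c : Γ(C, A₀), π.app A₀ c = π.app A₀ s * z ∧
      C.presheaf.germ A₀ y hy s • germM (pushO π) A₀ y hy z = C.presheaf.germ A₀ y hy c • secGerm (unitMap π) y := by
    intro y hy z
    obtain ⟨c, hc⟩ := hsB z
    refine ⟨c, hc, ?_⟩
    rw [← germM_smul, ← germ_app π hy c]
    exact congrArg (fun b => germM (pushO π) A₀ y hy b) hc.symm
  obtain ⟨m, hm0⟩ := hout x hx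
  obtain ⟨b₀, t, ht, htm⟩ := CycLib.exists_smul_germ_eq (pushO π) hA₀ hxA₀ m
  let b : Γ(C', π ⁻¹ᵁ A₀) := b₀
  have hw : germM (pushO π) A₀ x hxA₀ b ∉ Submodule.span (C.presheaf.stalk x) {e} := fun h =>
    hm0 ((Submodule.smul_mem_iff_of_isUnit _ ht).1 (htm ▸ h))
  obtain ⟨c, hc, hcw⟩ := hfrac x hxA₀ b
  let w := germM (pushO π) A₀ x hxA₀ b
  refine ⟨A₀, hA₀, hxA₀, s, c, b, hAV, hc, ?_, ?_, hsne, ?_, ?_, ?_⟩
  · intro y hy hys
    obtain ⟨m', hm'⟩ := hout y hy
    have hyA : y ∈ A₀ := C.basicOpen_le s hys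
    obtain ⟨z, t', ht', htm'⟩ := CycLib.exists_smul_germ_eq (pushO π) hA₀ hyA m'
    obtain ⟨c', -, hc'⟩ := hfrac y hyA (show Γ(C', π ⁻¹ᵁ A₀) from z)
    refine hm' ((Submodule.smul_mem_iff_of_isUnit _ (((C.mem_basicOpen s y hyA).1 hys).mul ht')).1 ?_)
    rw [mul_smul, htm', hc']
    exact Submodule.smul_mem _ _ (Submodule.mem_span_singleton_self _)
  · intro a ha
    refine he (show a • e = (0 : C.presheaf.stalk x) • e from ?_)
    rw [zero_smul]
    refine hregQ (show γ s • a • e = γ s • 0 from ?_)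
    rw [smul_smul, smul_zero]
    exact (congrArg (· • e) ha).trans (zero_smul _ _)
  · intro p q hpq
    by_contra hp
    rw [mem_maximalIdeal, mem_nonunits_iff, not_not] at hp
    have h : p • w = q • e := hregQ (show γ s • p • w = γ s • q • e by
      rw [smul_comm, show γ s • w = _ from hcw, smul_smul, smul_smul]
      exact congrArg (· • e) hpq)
    exact hw ((Submodule.smul_mem_iff_of_isUnit _ hp).1 (h ▸ Submodule.smul_mem _ _ (Submodule.mem_span_singleton_self e)))
  · intro p hp
    have hpw : p • w ∈ Submodule.span (C.presheaf.stalk x) {e} := by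
      by_contra h
      obtain ⟨a₁, a₂, h12⟩ := hsimple _ h w
      have hu : IsUnit (1 - a₂ * p) := IsLocalRing.isUnit_one_sub_self_of_mem_nonunits _
        ((maximalIdeal (C.presheaf.stalk x)).mul_mem_left a₂ hp)
      refine hw ((Submodule.smul_mem_iff_of_isUnit _ hu).1 ?_)
      rw [sub_smul, one_smul, mul_smul]
      exact (sub_eq_of_eq_add h12) ▸ Submodule.smul_mem _ _ (Submodule.mem_span_singleton_self e)
    obtain ⟨q, hq⟩ := Submodule.mem_span_singleton.1 hpw
    have hSq : γ s * q = γ c * p := he (show (γ s * q) • e = (γ c * p) • e by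
      rw [mul_smul, hq, smul_comm, show γ s • w = _ from hcw, smul_smul, mul_comm p])
    refine ⟨q, fun hqu => ?_, hSq⟩
    obtain ⟨a₀, ha₀⟩ := hsM w
    have h0 : S₀ * q = p * a₀ := he (show (S₀ * q) • e = (p * a₀) • e by
      rw [mul_smul, hq, smul_comm, ha₀, smul_smul])
    obtain ⟨v, hv⟩ := hgax w a₀ ha₀ 0
    let g := (nodeAxis (K := AlgebraicClosure k) 0).comp (algebraMap (C.presheaf.stalk x) (FormalNode (AlgebraicClosure k)))
    have h1 : g q = g p * v := mul_left_cancel₀ (hs 0) (by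
      show g S₀ * g q = g S₀ * (g p * v)
      rw [← map_mul, h0, map_mul, show g a₀ = g S₀ * v from hv]
      ring)
    have h2 : IsUnit (g p) := isUnit_of_mul_isUnit_left (h1 ▸ hqu.map g)
    have h3 : algebraMap (C.presheaf.stalk x) (FormalNode (AlgebraicClosure k)) p ∈
        maximalIdeal (FormalNode (AlgebraicClosure k)) := by
      rw [← hm]
      exact Ideal.mem_map_of_mem _ hp
    rw [maximalIdeal_formalNode, Ideal.mem_span_pair] at h3
    obtain ⟨u₁, u₂, h4⟩ := h3
    have h5 := PowerSeries.isUnit_constantCoeff _ h2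
    rw [show g p = _ from congrArg (nodeAxis (K := AlgebraicClosure k) 0) h4.symm, map_add, map_mul, map_mul,
      nodeAxis_gen, nodeAxis_gen_ne (by decide : (1 : Fin 2) ≠ 0), mul_zero, add_zero, map_mul,
      PowerSeries.constantCoeff_X, mul_zero] at h5
    exact not_isUnit_zero h5
  · intro z
    obtain ⟨a₁, a₂, h12⟩ := hsimple w hw (germM (pushO π) A₀ x hxA₀ z)
    letI := TopCat.Presheaf.algebra_section_stalk C.presheaf (⟨x, hxA₀⟩ : A₀)
    haveI := hA₀.isLocalization_stalk ⟨x, hxA₀⟩
    obtain ⟨⟨r₁, t₁⟩, h1⟩ := IsLocalization.surj (hA₀.primeIdealOf ⟨x, hxA₀⟩).asIdeal.primeCompl a₁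
    obtain ⟨⟨r₂, t₂⟩, h2⟩ := IsLocalization.surj (hA₀.primeIdealOf ⟨x, hxA₀⟩).asIdeal.primeCompl a₂
    have h1' : γ t₁.1 * a₁ = γ r₁ := (mul_comm _ _).trans h1
    have h2' : γ t₂.1 * a₂ = γ r₂ := (mul_comm _ _).trans h2
    have h0 : germM (pushO π) A₀ x hxA₀ (show Γ(pushO π, A₀) from
        π.app A₀ (t₁.1 * t₂.1) * z - (π.app A₀ (t₂.1 * r₁) + π.app A₀ (t₁.1 * r₂) * b)) = 0 := by
      refine (map_sub _ _ _).trans (sub_eq_zero.2 ?_)
      refine (germM_smul (pushO π) A₀ x hxA₀ (t₁.1 * t₂.1) z).trans ?_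
      refine Eq.trans ?_ (map_add _ _ _).symm
      refine Eq.trans ?_ (congrArg₂ (· + ·) (germ_app π hxA₀ (t₂.1 * r₁)).symm
        (germM_smul (pushO π) A₀ x hxA₀ (t₁.1 * r₂) b).symm)
      show γ (t₁.1 * t₂.1) • _ = γ (t₂.1 * r₁) • e + γ (t₁.1 * r₂) • w
      rw [h12, smul_add, smul_smul, smul_smul, map_mul, map_mul, map_mul, ← h1', ← h2']
      congr 2 <;> ring
    obtain ⟨t', ht', h3⟩ := CycLib.exists_smul_eq_zero_of_germ_eq_zero (pushO π) hA₀ hxA₀ _ h0
    refine ⟨t' * (t₁.1 * t₂.1), t' * (t₂.1 * r₁), t' * (t₁.1 * r₂), ?_, ?_⟩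
    · rw [map_mul, map_mul]
      exact ht'.mul (((CycLib.not_mem_primeIdealOf_iff hA₀ hxA₀ t₁.1).1 t₁.2).mul
        ((CycLib.not_mem_primeIdealOf_iff hA₀ hxA₀ t₂.1).1 t₂.2))
    · rw [map_mul (π.app A₀).hom t', map_mul (π.app A₀).hom t', map_mul (π.app A₀).hom t', mul_assoc, mul_assoc, ← mul_add]
      exact sub_eq_zero.1 ((mul_sub _ _ _).symm.trans h3)

variable {F : C.Modules} {E : C'.Modules} (q : (Scheme.Modules.pullback π).obj F ⟶ E) [Epi q]

omit [IsReduced C] [IsReduced C'] [AlgebraicGeometry.IsNoetherian C] [AlgebraicGeometry.IsNoetherian C']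
  [IsAlgClosed k] [LocallyOfFiniteType (C ↘ Spec (CommRingCat.of k))] in
/-- Where the map is an isomorphism the adjoint of an epimorphism is surjective. -/
theorem surjective_unit_push_of_mem [F.IsQuasicoherent] [E.IsQuasicoherent] {x : C} (hx : x ∈ U) :
    Function.Surjective (stalkLin ((Scheme.Modules.pullbackPushforwardAdjunction π).unit.app F ≫
      (Scheme.Modules.pushforward π).map q) x) := by
  intro t
  let M := (Scheme.Modules.pushforward π).obj E
  obtain ⟨W, hW, e, rfl⟩ := exists_germM_eq M x t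
  obtain ⟨A, hA, hxA, hAW⟩ := exists_isAffineOpen_mem_and_subset (show x ∈ W ⊓ U from ⟨hW, hx⟩)
  have hAW' : A ≤ W := fun z hz => (hAW hz).1
  rw [← HomShQC.germM_res M hAW' x hxA e]
  obtain ⟨p, hp⟩ := QCoh.app_surjective_of_epi q (hA.preimage π) (res M hAW' e)
  obtain ⟨m, hm⟩ := (bijective_eta π F hA (app_bijective π U fun z hz => (hAW hz).2)).2 p
  refine ⟨germM F A x hxA m, (stalkLin_germ _ A x hxA m).trans ?_⟩
  rw [unit_push_app, hm, hp]

include hU hU' in
/-- The adjoint of an epimorphism onto a bundle has cokernel of length the type at a node. -/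
theorem node_type (hC' : Pi1.IsNormalScheme C') (hdim : topologicalKrullDim C ≤ 1) [F.IsQuasicoherent]
    [E.IsQuasicoherent] (hE : TorSh.IsTorsionFree E)
    (hns : ∀ y, ¬ Curv2.IsNode k C y → Function.Injective (stalkLin
      ((Scheme.Modules.pullbackPushforwardAdjunction π).unit.app F ≫ (Scheme.Modules.pushforward π).map q) y))
    {x : C} (hx : Curv2.IsNode k C x) {a b : ℕ}
    (φ : F.presheaf.stalk x ≃ₗ[C.presheaf.stalk x]
      (Fin a → C.presheaf.stalk x) × (Fin b → maximalIdeal (C.presheaf.stalk x))) :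
    Function.Injective (stalkLin ((Scheme.Modules.pullbackPushforwardAdjunction π).unit.app F ≫
        (Scheme.Modules.pushforward π).map q) x) ∧
      Module.length (C.presheaf.stalk x) (((Scheme.Modules.pushforward π).obj E).presheaf.stalk x ⧸
        LinearMap.range (stalkLin ((Scheme.Modules.pullbackPushforwardAdjunction π).unit.app F ≫
          (Scheme.Modules.pushforward π).map q) x)) = a := by
  classical
  let M := (Scheme.Modules.pushforward π).obj E
  let β : F ⟶ M := (Scheme.Modules.pullbackPushforwardAdjunction π).unit.app F ≫ (Scheme.Modules.pushforward π).map q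
  show Function.Injective (stalkLin β x) ∧ Module.length (C.presheaf.stalk x) (M.presheaf.stalk x ⧸ LinearMap.range (stalkLin β x)) = a
  haveI : M.IsQuasicoherent := isQuasicoherent_pushforward π E
  have hinj : Function.Injective (stalkLin β x) := by
    refine (injective_iff_map_eq_zero _).2 fun v hv => ?_
    obtain ⟨W, hW, m, rfl⟩ := exists_germM_eq F x v
    rw [stalkLin_germ] at hv
    obtain ⟨W', hW', i₁, i₂, hz⟩ := M.presheaf.germ_eq x hW hW (β.app W m) 0 (hv.trans (map_zero _).symm)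
    obtain ⟨A, hA, hxA, s, c, bw, hAV, -, hnode, hsreg, -⟩ := node_sections π U hU hU' k hC' hdim hx hW'
    have hAW : A ≤ W := hAV.trans i₁.le
    let mA := res F hAW m
    have h0 : β.app A mA = 0 := by
      rw [QCoh.app_res β hAW m, ← QCoh.res_res M i₁.le hAV]
      exact (congrArg _ (hz.trans (map_zero _))).trans (map_zero _)
    have h1 : res F (C.basicOpen_le s) mA = 0 := HomShQC.sec_ext F fun y hy => by
      refine Eq.trans ?_ (map_zero _).symm
      apply hns y (fun h => hnode y h hy)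
      show stalkLin β y _ = stalkLin β y 0
      rw [stalkLin_germ, QCoh.app_res β (C.basicOpen_le s) mA, h0, map_zero]
      exact (map_zero _).trans (map_zero _).symm
    obtain ⟨n, hn⟩ := QCoh.exists_pow_smul_eq_zero F hA.isCompact s mA h1
    have h2 := congrArg (germM F A x hxA) hn
    rw [germM_smul, show germM F A x hxA (0 : Γ(F, A)) = 0 from map_zero _, map_pow] at h2
    rw [← HomShQC.germM_res F hAW x hxA m]
    have hreg : ∀ (n : ℕ) (z : C.presheaf.stalk x), C.presheaf.germ A x hxA s ^ n * z = 0 → z = 0 := by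
      intro n
      induction n with
      | zero => exact fun z hz => by simpa using hz
      | succ n ih => exact fun z hz => hsreg z (ih _ (by rw [← mul_assoc, ← pow_succ]; exact hz))
    have h3 := congrArg φ h2
    rw [map_smul, map_zero] at h3
    refine φ.injective ((?_ : _ = (0 : _ × _)).trans (map_zero φ).symm)
    exact Prod.ext (funext fun i => hreg n _ (congrFun (congrArg Prod.fst h3) i))
      (funext fun j => Subtype.ext (hreg n _ (congrArg Subtype.val (congrFun (congrArg Prod.snd h3) j))))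
  refine ⟨hinj, ?_⟩
  obtain ⟨A, hA, hxA, s, c, bw, -, hc, -, -, hsne, h1, h2, hdec⟩ :=
    node_sections π U hU hU' k hC' hdim hx (Opens.mem_top x)
  let S := C.presheaf.germ A x hxA s
  let σ := C.presheaf.germ A x hxA c
  have hregM : Function.Injective fun t : M.presheaf.stalk x => S • t := by
    intro t₁ t₂ h12
    obtain ⟨z, t, ht, htm⟩ := CycLib.exists_smul_germ_eq M hA hxA (t₁ - t₂)
    have h0 : S • (t₁ - t₂) = 0 := by rw [smul_sub]; exact sub_eq_zero.2 h12
    have h3 : germM M A x hxA (s • z) = 0 := by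
      rw [germM_smul, ← htm, smul_comm, h0, smul_zero]
    obtain ⟨t', ht', h4⟩ := CycLib.exists_smul_eq_zero_of_germ_eq_zero M hA hxA _ h3
    have h5 : t' • z = 0 := by
      let zE : Γ(E, π ⁻¹ᵁ A) := z
      refine HomShQC.sec_ext E (U := π ⁻¹ᵁ A) fun y hy => ?_
      have h6 := congrArg (germM E (π ⁻¹ᵁ A) y hy)
        (show π.app A s • (π.app A t' • zE) = 0 from (smul_comm _ _ _).trans h4)
      rw [germM_smul] at h6
      haveI := hE y
      haveI := (hC' y).1
      refine Eq.trans ?_ (map_zero _).symm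
      exact (smul_eq_zero.mp (h6.trans (map_zero _))).resolve_left (hsne y hy)
    have h6 : germM M A x hxA (t' • z) = 0 := (congrArg _ h5).trans (map_zero _)
    rw [germM_smul, ← htm, smul_smul] at h6
    exact sub_eq_zero.1 ((ht'.mul ht).smul_eq_zero.1 h6)
  have hW : ∀ (m : Γ(F, A)), S • germM M A x hxA (show Γ(M, A) from bw • q.app (π ⁻¹ᵁ A) (eta π F A m)) =
      σ • stalkLin β x (germM F A x hxA m) := by
    intro m
    rw [stalkLin_germ, ← germM_smul, ← germM_smul, unit_push_app]
    refine congrArg (germM M A x hxA) ?_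
    show π.app A s • bw • q.app (π ⁻¹ᵁ A) (eta π F A m) = π.app A c • q.app (π ⁻¹ᵁ A) (eta π F A m)
    rw [smul_smul, hc]
  refine length_quotient_type (stalkLin β x) φ S σ hregM hinj (fun t => ?_) (fun f => ?_) h1 h2
  · let P : M.presheaf.stalk x → Prop := fun t =>
      ∃ f₁ f₂ t', S • t' = σ • stalkLin β x f₂ ∧ t = stalkLin β x f₁ + t'
    have hadd : ∀ t₁ t₂, P t₁ → P t₂ → P (t₁ + t₂) := by
      rintro _ _ ⟨f₁, f₂, t', h, rfl⟩ ⟨g₁, g₂, s', h', rfl⟩
      exact ⟨f₁ + g₁, f₂ + g₂, t' + s', by rw [smul_add, h, h', map_add, smul_add], by rw [map_add]; abel⟩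
    have hsmul : ∀ (r : C.presheaf.stalk x) t, P t → P (r • t) := by
      rintro r _ ⟨f₁, f₂, t', h, rfl⟩
      exact ⟨r • f₁, r • f₂, r • t', by rw [smul_comm, h, map_smul, smul_comm], by rw [map_smul, smul_add]⟩
    obtain ⟨e', t₀, ht₀, hte⟩ := CycLib.exists_smul_germ_eq M hA hxA t
    suffices h : P (germM M A x hxA e') by
      have h' := hsmul (↑ht₀.unit⁻¹) _ h
      rwa [← hte, smul_smul, IsUnit.val_inv_mul, one_smul] at h'
    obtain ⟨p, hp⟩ := QCoh.app_surjective_of_epi q (hA.preimage π) e'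
    rw [← hp]
    have key : ∀ z : Γ(C', π ⁻¹ᵁ A), P (germM M A x hxA (show Γ(M, A) from q.app (π ⁻¹ᵁ A) (z • p))) := by
      have hp' : p ∈ Submodule.span Γ(C', π ⁻¹ᵁ A) (Set.range (eta π F A)) :=
        span_eta π F hA ▸ Submodule.mem_top
      clear hp
      induction hp' using Submodule.span_induction with
      | mem y hy =>
        obtain ⟨m, rfl⟩ := hy
        intro z
        obtain ⟨g, r₁, r₂, hg, hgr⟩ := hdec z
        let q₁ : Γ(M, A) := q.app (π ⁻¹ᵁ A) (eta π F A m)
        let q₂ : Γ(M, A) := (show Γ(M, A) from bw • q.app (π ⁻¹ᵁ A) (eta π F A m))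
        let q₃ : Γ(M, A) := (show Γ(M, A) from q.app (π ⁻¹ᵁ A) (z • eta π F A m))
        have e1 : g • q₃ = r₁ • q₁ + r₂ • q₂ := by
          change π.app A g • q.app (π ⁻¹ᵁ A) (z • eta π F A m) =
            π.app A r₁ • q.app (π ⁻¹ᵁ A) (eta π F A m) + π.app A r₂ • bw • q.app (π ⁻¹ᵁ A) (eta π F A m)
          rw [Scheme.Modules.Hom.app_smul, smul_smul, smul_smul, hgr, add_smul]
        have e2 := congrArg (germM M A x hxA) e1
        have e3 : C.presheaf.germ A x hxA g • germM M A x hxA q₃ =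
            C.presheaf.germ A x hxA r₁ • germM M A x hxA q₁ + C.presheaf.germ A x hxA r₂ • germM M A x hxA q₂ :=
          (germM_smul M A x hxA g q₃).symm.trans (e2.trans ((map_add _ _ _).trans
            (congrArg₂ (· + ·) (germM_smul M A x hxA r₁ q₁) (germM_smul M A x hxA r₂ q₂))))
        have hq₁ : germM M A x hxA q₁ = stalkLin β x (germM F A x hxA m) :=
          ((stalkLin_germ β A x hxA m).trans (congrArg _ (unit_push_app π q A m))).symm
        have h := hsmul (↑hg.unit⁻¹) _ (hadd _ _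
          (hsmul (C.presheaf.germ A x hxA r₁) _ (⟨germM F A x hxA m, 0, 0, by simp, by rw [add_zero, hq₁]⟩ : P (germM M A x hxA q₁)))
          (hsmul (C.presheaf.germ A x hxA r₂) _ (⟨0, germM F A x hxA m, germM M A x hxA q₂, hW m, by rw [map_zero, zero_add]⟩ : P (germM M A x hxA q₂))))
        rwa [← e3, smul_smul, IsUnit.val_inv_mul, one_smul] at h
      | zero =>
        intro z
        rw [smul_zero, map_zero]
        exact ⟨0, 0, 0, by simp, by rw [map_zero, add_zero]; exact map_zero _⟩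
      | add y y' _ _ hy hy' =>
        intro z
        rw [smul_add, map_add]
        have h := hadd _ _ (hy z) (hy' z)
        rw [← map_add] at h
        exact h
      | smul r y _ hy =>
        intro z
        rw [smul_smul]
        exact hy _
    have h := key 1
    rwa [one_smul] at h
  · obtain ⟨m, t₀, ht₀, htm⟩ := CycLib.exists_smul_germ_eq F hA hxA f
    refine ⟨(↑ht₀.unit⁻¹ : C.presheaf.stalk x) • germM M A x hxA (show Γ(M, A) from bw • q.app (π ⁻¹ᵁ A) (eta π F A m)), ?_⟩
    rw [smul_comm, hW m, ← htm, map_smul, smul_comm σ, smul_smul, IsUnit.val_inv_mul, one_smul]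

omit [IsReduced C] [IsReduced C'] [AlgebraicGeometry.IsNoetherian C] [AlgebraicGeometry.IsNoetherian C']
  [IsAlgClosed k] [LocallyOfFiniteType (C ↘ Spec (CommRingCat.of k))] in
/-- The direct image of a bundle has free stalks where the map is an isomorphism. -/
theorem push_free_of_mem {r : ℕ} (hE : FlatMod.IsFinLocFreeOfRank r E) {x : C} (hx : x ∈ U) :
    Nonempty ((Fin r → C.presheaf.stalk x) ≃ₗ[C.presheaf.stalk x] ((Scheme.Modules.pushforward π).obj E).presheaf.stalk x) := by
  let y : C' := (inv (π ∣_ U) ⟨x, hx⟩).1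
  have hy : π y = x := by
    have h : (π ∣_ U) (inv (π ∣_ U) ⟨x, hx⟩) = ⟨x, hx⟩ := by
      show (inv (π ∣_ U) ≫ (π ∣_ U)) ⟨x, hx⟩ = _
      rw [IsIso.inv_hom_id]
      rfl
    exact (morphismRestrict_base_coe π U _).symm.trans (congrArg Subtype.val h)
  obtain ⟨G, hyG, ⟨ψ⟩⟩ := hE y
  obtain ⟨e, he⟩ := VBLib.exists_isFrame_of_iso ψ
  let W : C.Opens := U ⊓ ⟨(π '' ((G : Set C')ᶜ))ᶜ, (π.isClosedMap _ G.2.isClosed_compl).isOpen_compl⟩
  have hWG : π ⁻¹ᵁ W ≤ G := fun z hz => by_contra fun h => hz.2 ⟨z, h, rfl⟩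
  have hxW : x ∈ W := by
    refine ⟨hx, ?_⟩
    rintro ⟨z, hz, hzx⟩
    have hzU : z ∈ π ⁻¹ᵁ U := by
      show π z ∈ U
      rw [hzx]; exact hx
    have h1 : (⟨z, hzU⟩ : ↥(π ⁻¹ᵁ U)) = inv (π ∣_ U) ⟨x, hx⟩ := by
      have h2 : (π ∣_ U) ⟨z, hzU⟩ = ⟨x, hx⟩ := Subtype.ext ((morphismRestrict_base_coe π U _).trans hzx)
      rw [← h2]
      show _ = ((π ∣_ U) ≫ inv (π ∣_ U)) ⟨z, hzU⟩
      rw [IsIso.hom_inv_id]
      rfl
    have hzy : z = y := congrArg Subtype.val h1
    exact hz (show z ∈ (G : Set C') by rw [hzy]; exact hyG)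
  let e' : Fin r → Γ((Scheme.Modules.pushforward π).obj E, W) := fun i => res E hWG (e i)
  have he' : LFFrame.IsFrame ((Scheme.Modules.pushforward π).obj E) W e' := by
    intro W' hW'
    have hf := he (π ⁻¹ᵁ W') ((π.preimage_mono hW').trans hWG)
    have hcomb : LFFrame.comb ((Scheme.Modules.pushforward π).obj E) e' hW' =
        LFFrame.comb E e ((π.preimage_mono hW').trans hWG) ∘ fun a i => π.app W' (a i) :=
      funext fun a => Finset.sum_congr rfl fun i _ => by
        change π.app W' (a i) • res E (π.preimage_mono hW') (res E hWG (e i)) = _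
        rw [QCoh.res_res]
    rw [hcomb]
    exact hf.comp ((app_bijective π U (hW'.trans inf_le_left)).comp_left)
  exact ⟨LinearEquiv.ofBijective _ (he'.stalkComb_bijective x hxW)⟩

omit [IsReduced C] [IsReduced C'] [AlgebraicGeometry.IsNoetherian C] [AlgebraicGeometry.IsNoetherian C']
  [IsAlgClosed k] [LocallyOfFiniteType (C ↘ Spec (CommRingCat.of k))] in
/-- Where the map is an isomorphism the adjoint of an epimorphism between rank `r` modules is bijective. -/
theorem bijective_unit_push_of_mem [F.IsQuasicoherent] [E.IsQuasicoherent] {r : ℕ}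
    (hE : FlatMod.IsFinLocFreeOfRank r E) {x : C} (hx : x ∈ U)
    (φ : F.presheaf.stalk x ≃ₗ[C.presheaf.stalk x] (Fin r → C.presheaf.stalk x)) :
    Function.Bijective (stalkLin ((Scheme.Modules.pullbackPushforwardAdjunction π).unit.app F ≫
      (Scheme.Modules.pushforward π).map q) x) := by
  obtain ⟨ψ⟩ := push_free_of_mem π U hE hx
  have hs := surjective_unit_push_of_mem π U q hx
  refine ⟨?_, hs⟩
  let f : (Fin r → C.presheaf.stalk x) →ₗ[C.presheaf.stalk x] (Fin r → C.presheaf.stalk x) :=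
    ψ.symm.toLinearMap.comp ((stalkLin ((Scheme.Modules.pullbackPushforwardAdjunction π).unit.app F ≫
      (Scheme.Modules.pushforward π).map q) x).comp φ.symm.toLinearMap)
  have hf : Function.Injective f := OrzechProperty.injective_of_surjective_endomorphism f
    (ψ.symm.surjective.comp (hs.comp φ.symm.surjective))
  intro a b hab
  obtain ⟨a, rfl⟩ := φ.symm.surjective a
  obtain ⟨b, rfl⟩ := φ.symm.surjective b
  exact congrArg φ.symm (hf (congrArg ψ.symm hab))

end Groth.Agent.NodalLib
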