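import Groth.Agent.NodalLib.GenusNorm
import Groth.Agent.TFCurvLib.NormPush
import Groth.Agent.Ref1.Hull
import Groth.Agent.VBLib.Basic
import Groth.Agent.DimOneAmple.Ample
import Groth.Agent.ZClosLib.CohDescent
import Groth.Agent.CohDev.Loc
import Groth.Agent.ShStabLib.Quot
import Groth.Agent.S15926
import Mathlib.RingTheory.DedekindDomain.Dvr
import Mathlib.RingTheory.DedekindDomain.PID

/-!
# Modules on a nodal curve inside direct images of bundles on the normalisation
-/

set_option autoImplicit false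
set_option linter.style.haveILetI false

universe u

open CategoryTheory CategoryTheory.Limits AlgebraicGeometry TopologicalSpace
open Groth.Agent.PullStalk.Sky Groth.Agent.PullStalk.Exact
open Groth.Agent.StrictSSLib Groth.Agent.QCoh
open Groth.Agent.TFCurvLib (eta eta_eq eta_smul span_eta bijective_eta)

noncomputable section

namespace Groth.Agent.NodalLib

/-- Biduality is surjective where the local ring is a principal ideal domain. -/
theorem surjective_bidual_of_pid {X : Scheme.{u}} [IsLocallyNoetherian X] (H : X.Modules) (hH : Coh.IsCoh H)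
    (y : X) [IsDomain (X.presheaf.stalk y)] [IsPrincipalIdealRing (X.presheaf.stalk y)] :
    Function.Surjective (stalkLin (RefHull.bidualMap H) y) := by
  haveI := HomShQC.finite_stalk H hH.2 y
  let R := X.presheaf.stalk y
  let Q := H.presheaf.stalk y ⧸ Submodule.torsion R (H.presheaf.stalk y)
  haveI : Module.Free R Q := Module.free_of_finite_type_torsion_free'
  have h := DomMod.surjective_eval_of_free_quotient (Submodule.torsion R (H.presheaf.stalk y)).mkQ
    (Submodule.mkQ_surjective _) fun φ x hx => by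
      obtain ⟨c, hc⟩ := (Submodule.Quotient.mk_eq_zero _).mp hx
      have h1 := congrArg φ hc
      rw [Submonoid.smul_def, map_smul, map_zero, smul_eq_mul] at h1
      exact (mul_eq_zero.mp h1).resolve_left (nonZeroDivisors.ne_zero c.2)
  have hF := HomShQC.isFP_of_isCoh H hH
  have hD := HomShQC.isFP_of_isCoh _ (HomShQC.isCoh_dual H hH)
  intro z
  obtain ⟨v, hv⟩ := h (HomShQC.ddualEquiv H hF hD y z)
  refine ⟨v, (HomShQC.ddualEquiv H hF hD y).injective ?_⟩
  exact (HomShQC.ddualEquiv_bidual H hF hD y v).trans hv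

/-- The double dual is finite locally free on a one-dimensional normal scheme. -/
theorem isFinLocFree_ddual {X : Scheme.{u}} [IsLocallyNoetherian X] (H : X.Modules) (hH : Coh.IsCoh H)
    (hdom : ∀ y : X, IsDomain (X.presheaf.stalk y)) (hP : ∀ y : X, IsPrincipalIdealRing (X.presheaf.stalk y)) :
    FlatMod.IsFinLocFree (RefHull.ddual H) := by
  have hD := HomShQC.isCoh_dual H hH
  have hDD : Coh.IsCoh (RefHull.ddual H) := HomShQC.isCoh_dual _ hD
  haveI := hDD.1
  haveI := hDD.2
  refine Props.QProj.isFinLocFree_of _ (fun x => ?_) fun x => ?_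
  · obtain ⟨U, hU, hx, -⟩ := exists_isAffineOpen_mem_and_subset (X := X) (Opens.mem_top x)
    haveI : IsNoetherianRing Γ(X, U) := IsLocallyNoetherian.component_noetherian ⟨U, hU⟩
    haveI := QCoh.finite_sections_of_isFiniteType (RefHull.ddual H) hU
    exact ⟨U, hU, hx, Module.finitePresentation_of_finite _ _⟩
  · haveI := HomShQC.finite_stalk (RefHull.ddual H) hDD.2 x
    haveI := hdom x
    haveI := hP x
    haveI : Module.IsTorsionFree (X.presheaf.stalk x) ((RefHull.ddual H).presheaf.stalk x) :=
      (HomShQC.dualEquiv (RefHull.dual H) (HomShQC.isFP_of_isCoh _ hD) x).injective.moduleIsTorsionFree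
        (HomShQC.dualEquiv (RefHull.dual H) (HomShQC.isFP_of_isCoh _ hD) x) (map_smul _)
    exact Module.free_of_finite_type_torsion_free'

variable {C C' : Scheme.{u}} (π : C' ⟶ C)

/-- The unit into the direct image of the double dual of the pullback. -/
def normEmbed (F : C.Modules) :
    F ⟶ (Scheme.Modules.pushforward π).obj (RefHull.ddual ((Scheme.Modules.pullback π).obj F)) :=
  (Scheme.Modules.pullbackPushforwardAdjunction π).homEquiv F _
    (RefHull.bidualMap ((Scheme.Modules.pullback π).obj F))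

theorem normEmbed_app (F : C.Modules) (W : C.Opens) (m : Γ(F, W)) :
    (normEmbed π F).app W m =
      (RefHull.bidualMap ((Scheme.Modules.pullback π).obj F)).app (π ⁻¹ᵁ W) (eta π F W m) := by
  rw [eta_eq]
  exact congrArg (fun ψ : F ⟶ _ => ψ.app W m)
    ((Scheme.Modules.pullbackPushforwardAdjunction π).homEquiv_unit F _
      (RefHull.bidualMap ((Scheme.Modules.pullback π).obj F)))

theorem germ_normEmbed (F : C.Modules) {W : C.Opens} {x : C} (hx : x ∈ W) (m : Γ(F, W)) :
    stalkLin (normEmbed π F) x (germM F W x hx m) =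
      germM ((Scheme.Modules.pushforward π).obj (RefHull.ddual ((Scheme.Modules.pullback π).obj F))) W x hx
        ((RefHull.bidualMap ((Scheme.Modules.pullback π).obj F)).app (π ⁻¹ᵁ W) (eta π F W m)) :=
  (stalkLin_germ (normEmbed π F) W x hx m).trans (congrArg _ (normEmbed_app π F W m))

variable [IsFinite π] [IsReduced C] [IsReduced C'] [AlgebraicGeometry.IsNoetherian C] [AlgebraicGeometry.IsNoetherian C']
  (U : C.Opens) [IsIso (π ∣_ U)]
  (hU : genericPoints (C : Type u) ⊆ (U : Set C)) (hU' : genericPoints (C' : Type u) ⊆ ((π ⁻¹ᵁ U : C'.Opens) : Set C'))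

include hU in
/-- The unit into the double dual is injective at maximal points. -/
theorem injective_normEmbed (F : C.Modules) (hF : Coh.IsCoh F) {η : C} (hη : η ∈ genericPoints (C : Type u)) :
    Function.Injective (stalkLin (normEmbed π F) η) := by
  haveI := hF.1
  let P := (Scheme.Modules.pullback π).obj F
  have hPc : Coh.IsCoh P := ZClosLib.CohDescent.isCoh_pullback π F hF
  haveI := hPc.1
  let E := RefHull.ddual P
  let M := (Scheme.Modules.pushforward π).obj E
  refine (injective_iff_map_eq_zero _).2 fun v hv => ?_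
  obtain ⟨W, hW, m, rfl⟩ := exists_germM_eq F η v
  rw [germ_normEmbed] at hv
  obtain ⟨W', hW', i₁, i₂, hz⟩ := M.presheaf.germ_eq η hW hW
    ((RefHull.bidualMap P).app (π ⁻¹ᵁ W) (eta π F W m) : Γ(M, W)) 0 (hv.trans (map_zero _).symm)
  obtain ⟨A, hA, hηA, hAle⟩ := exists_isAffineOpen_mem_and_subset
    (show η ∈ W' ⊓ U from ⟨hW', hU hη⟩)
  have hAW : A ≤ W := fun z hz' => i₁.le (hAle hz').1
  have hAU : A ≤ U := fun z hz' => (hAle hz').2
  have hb := app_bijective π U hAU
  let mA := res F hAW m
  have h0 : (RefHull.bidualMap P).app (π ⁻¹ᵁ A) (eta π F A mA) = 0 := by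
    rw [← normEmbed_app]
    have hnat : (normEmbed π F).app A (res F hAW m) = res M hAW ((normEmbed π F).app W m) :=
      QCoh.app_res (normEmbed π F) hAW m
    refine hnat.trans ?_
    rw [← QCoh.res_res M i₁.le (fun z hz' => (hAle hz').1), normEmbed_app]
    exact (congrArg _ (hz.trans (map_zero _))).trans (map_zero _)
  let y : C' := (inv (π ∣_ U) ⟨η, hU hη⟩).1
  have hy : π y = η := by
    have h : (π ∣_ U) (inv (π ∣_ U) ⟨η, hU hη⟩) = ⟨η, hU hη⟩ := by
      show (inv (π ∣_ U) ≫ (π ∣_ U)) ⟨η, hU hη⟩ = _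
      rw [IsIso.inv_hom_id]
      rfl
    exact (morphismRestrict_base_coe π U _).symm.trans (congrArg Subtype.val h)
  have hyA : y ∈ π ⁻¹ᵁ A := by
    show π y ∈ A
    rw [hy]; exact hηA
  -- the point over a maximal point is maximal
  have hη0 : Order.coheight η = 0 := Order.coheight_eq_zero.2 fun w hw =>
    (show η ⤳ w from (FlatMor.GenericPts.closure_mem_irreducibleComponents_iff η).mp hη w hw)
  have hco : Order.coheight y ≤ 0 := by
    rw [← hη0, ← hy]
    exact Order.coheight_le_coheight_apply_of_strictMono _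
      (AlgSpCov.IntegralDim.strictMono_of_isIntegralHom π) y
  haveI : Ring.KrullDimLE 0 (C'.presheaf.stalk y) := krullDimLE_of_coheight_le (z := y) (n := 0) hco
  letI : Field (C'.presheaf.stalk y) := (Ring.KrullDimLE.isField_of_isReduced).toField
  haveI : Module.Free (C'.presheaf.stalk y) (P.presheaf.stalk y) := Module.Free.of_divisionRing _ _
  have h1 : germM P (π ⁻¹ᵁ A) y hyA (eta π F A mA) = 0 := by
    apply (Ref1.bijective_bidual_of_free P hPc y).1
    refine ((RefHull.stalkMapₗ_germ _ _ hyA _).trans ?_).trans (map_zero _).symm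
    rw [h0]
    exact map_zero _
  obtain ⟨s, hs, hs0⟩ := CycLib.exists_smul_eq_zero_of_germ_eq_zero P (hA.preimage π) hyA _ h1
  obtain ⟨r, rfl⟩ := hb.2 s
  rw [← eta_smul] at hs0
  have h2 : r • mA = 0 := (bijective_eta π F hA hb).1 (hs0.trans (by rw [eta_eq]; exact (map_zero _).symm))
  have hr : IsUnit (C.presheaf.germ A η hηA r) := by
    have hηy : π y ∈ A := by rw [hy]; exact hηA
    have h : IsUnit (C.presheaf.germ A (π y) hηy r) := by
      rw [← isUnit_map_iff (π.stalkMap y).hom]
      have e := Scheme.Hom.germ_stalkMap_apply π A y hηy r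
      exact e ▸ hs
    rw [← C.mem_basicOpen r η hηA, ← hy]
    exact (C.mem_basicOpen r _ hηy).2 h
  have h := congrArg (germM F A η hηA) h2
  rw [germM_smul, show germM F A η hηA (0 : Γ(F, A)) = 0 from map_zero _, hr.smul_eq_zero] at h
  exact (GGDesc.germM_res_eq F hAW η hηA m).symm.trans h

include hU in
/-- A module whose subsheaves are pure of dimension one embeds. -/
theorem mono_normEmbed (F : C.Modules) (hF : Coh.IsCoh F) (hpure : ShStab.IsPure C F 1)
    (hdim : topologicalKrullDim C ≤ 1) : Mono (normEmbed π F) := by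
  haveI := hF.1
  let P := (Scheme.Modules.pullback π).obj F
  have hPc : Coh.IsCoh P := ZClosLib.CohDescent.isCoh_pullback π F hF
  have hEc : Coh.IsCoh (RefHull.ddual P) := HomShQC.isCoh_dual _ (HomShQC.isCoh_dual P hPc)
  have hMc := ProperFin.isCoh_push_of_isFinite π _ hEc
  have hK : Coh.IsCoh (kernel (normEmbed π F)) := VBLib.isCoh_kernel _ hF hMc
  refine Preadditive.mono_of_isZero_kernel _ ?_
  by_contra h0
  have hd := hpure _ (kernel.ι (normEmbed π F)) inferInstance hK h0
  have hclosed : IsClosed (CohB1.support (kernel (normEmbed π F))) := by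
    haveI := hK.1
    have h := CycLib.isClosed_support (M := kernel (normEmbed π F)) hK
    convert h using 1
    exact Set.ext fun x => not_subsingleton_iff_nontrivial
  have hgen : ∀ η ∈ genericPoints (C : Type u), η ∉ CohB1.support (kernel (normEmbed π F)) := by
    intro η hη hne
    refine hne (subsingleton_of_forall_eq 0 fun t => ?_)
    apply VBLib.stalkLin_injective (kernel.ι (normEmbed π F)) η
    apply injective_normEmbed π U hU F hF hη
    obtain ⟨W, hW, s, rfl⟩ := exists_germM_eq (kernel (normEmbed π F)) η t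
    rw [stalkLin_germ, stalkLin_germ, map_zero, map_zero]
    have h : (normEmbed π F).app W ((kernel.ι (normEmbed π F)).app W s) = 0 := by
      rw [← ConcreteCategory.comp_apply, ← Scheme.Modules.Hom.comp_app, kernel.condition]
      rfl
    exact (congrArg _ h).trans (map_zero _)
  obtain ⟨hfin, hcl⟩ := S15926.finite_of_nhd hdim (G := (CohB1.support (kernel (normEmbed π F)))ᶜ) fun η hη =>
    ⟨⟨_, hclosed.isOpen_compl⟩, hgen η hη, fun y hy => hy⟩
  rw [compl_compl] at hfin
  haveI : Finite ↥(CohB1.support (kernel (normEmbed π F))) := hfin.to_subtype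
  haveI : T1Space ↥(CohB1.support (kernel (normEmbed π F))) := ⟨fun x => by
    have h := (hcl x.1 (not_not_intro x.2)).preimage
      (continuous_subtype_val (p := fun z => z ∈ CohB1.support (kernel (normEmbed π F))))
    convert h using 1
    ext z
    simp [Subtype.ext_iff]⟩
  have h := (topologicalKrullDim_zero_of_discreteTopology ↥(CohB1.support (kernel (normEmbed π F))))
  rw [hd] at h
  exact absurd h (by simp)

variable (k : Type u) [Field k] [IsAlgClosed k] [C.Over (Spec (CommRingCat.of k))]
  [LocallyOfFiniteType (C ↘ Spec (CommRingCat.of k))]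

include hU hU' in
/-- At smooth points the functions upstairs come from below, up to a unit. -/
theorem exists_mul_eq_app {x : C} (hx : x ∈ (C ↘ Spec (CommRingCat.of k)).smoothLocus) {W : C.Opens}
    (hW : IsAffineOpen W) (hxW : x ∈ W) (b : Γ(C', π ⁻¹ᵁ W)) :
    ∃ g r : Γ(C, W), IsUnit (C.presheaf.germ W x hxW g) ∧ π.app W g * b = π.app W r := by
  let γ := (C.presheaf.germ W x hxW).hom
  obtain ⟨t₀, ht₀⟩ := (bijective_unitMap π U hU hU' k hx).2 (germM (pushO π) W x hxW b)
  obtain ⟨a, rfl⟩ := exists_smul_oneGerm x t₀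
  rw [stalkLin_smul_oneGerm] at ht₀
  haveI : (pushO π).IsQuasicoherent := (ProperFin.isCoh_push_of_isFinite π _ (ProperFin.isCoh_structureModule C')).1
  letI := TopCat.Presheaf.algebra_section_stalk C.presheaf (⟨x, hxW⟩ : W)
  haveI := hW.isLocalization_stalk ⟨x, hxW⟩
  obtain ⟨⟨r, t⟩, hrt⟩ := IsLocalization.surj (hW.primeIdealOf ⟨x, hxW⟩).asIdeal.primeCompl a
  have hrt' : γ t.1 * a = γ r := (mul_comm _ _).trans hrt
  have h0 : germM (pushO π) W x hxW (show Γ(pushO π, W) from π.app W t.1 * b - π.app W r) = 0 := by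
    refine (map_sub _ _ _).trans (sub_eq_zero.2 ?_)
    refine Eq.trans ?_ (germ_app π hxW r).symm
    refine (germM_smul (pushO π) W x hxW t.1 b).trans ?_
    rw [← ht₀, smul_smul]
    exact congrArg (· • secGerm (unitMap π) x) hrt'
  obtain ⟨t', ht', h1⟩ := CycLib.exists_smul_eq_zero_of_germ_eq_zero (pushO π) hW hxW _ h0
  refine ⟨t' * t.1, t' * r, ?_, ?_⟩
  · rw [map_mul]
    exact ht'.mul ((CycLib.not_mem_primeIdealOf_iff hW hxW t.1).1 t.2)
  · rw [map_mul, map_mul, mul_assoc]
    exact sub_eq_zero.1 ((mul_sub _ _ _).symm.trans h1)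

include hU hU' in
/-- At smooth points the unit into the double dual is surjective. -/
theorem surjective_normEmbed (F : C.Modules) (hF : Coh.IsCoh F)
    (hdom : ∀ y : C', IsDomain (C'.presheaf.stalk y)) (hP : ∀ y : C', IsPrincipalIdealRing (C'.presheaf.stalk y))
    {x : C} (hx : x ∈ (C ↘ Spec (CommRingCat.of k)).smoothLocus) :
    Function.Surjective (stalkLin (normEmbed π F) x) := by
  haveI := hF.1
  let P := (Scheme.Modules.pullback π).obj F
  have hPc : Coh.IsCoh P := ZClosLib.CohDescent.isCoh_pullback π F hF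
  haveI := hPc.1
  haveI := (HomShQC.isCoh_dual _ (HomShQC.isCoh_dual P hPc)).1
  haveI : Epi (RefHull.bidualMap P) := Omega.Stalks.epi_of_stalk fun y => by
    haveI := hdom y
    haveI := hP y
    exact surjective_bidual_of_pid P hPc y
  intro t
  let M := (Scheme.Modules.pushforward π).obj (RefHull.ddual P)
  obtain ⟨W, hW, e, rfl⟩ := exists_germM_eq M x t
  obtain ⟨A, hA, hxA, hAW⟩ := exists_isAffineOpen_mem_and_subset hW
  rw [← HomShQC.germM_res M hAW x hxA e]
  generalize (res M hAW e : Γ(M, A)) = e'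
  obtain ⟨p, hp⟩ := QCoh.app_surjective_of_epi (RefHull.bidualMap P) (hA.preimage π) e'
  rw [← hp]
  clear hp e'
  have hp' : p ∈ Submodule.span Γ(C', π ⁻¹ᵁ A) (Set.range (eta π F A)) :=
    span_eta π F hA ▸ Submodule.mem_top
  change germM M A x hxA ((RefHull.bidualMap P).app (π ⁻¹ᵁ A) p) ∈ LinearMap.range (stalkLin (normEmbed π F) x)
  induction hp' using Submodule.span_induction with
  | mem q hq =>
    obtain ⟨m, rfl⟩ := hq
    exact ⟨germM F A x hxA m, germ_normEmbed π F hxA m⟩
  | zero => exact ⟨0, by rw [map_zero, map_zero]; exact (map_zero _).symm⟩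
  | add q q' _ _ hq hq' =>
    let q₁ : Γ(M, A) := (RefHull.bidualMap P).app (π ⁻¹ᵁ A) q
    let q₂ : Γ(M, A) := (RefHull.bidualMap P).app (π ⁻¹ᵁ A) q'
    have e : ((RefHull.bidualMap P).app (π ⁻¹ᵁ A) (q + q') : Γ(M, A)) = q₁ + q₂ := map_add _ q q'
    have e2 : germM M A x hxA (q₁ + q₂) = germM M A x hxA q₁ + germM M A x hxA q₂ :=
      map_add (M.presheaf.germ A x hxA).hom q₁ q₂
    exact ((congrArg (germM M A x hxA) e).trans e2) ▸ add_mem hq hq'
  | smul s q _ hq =>
    obtain ⟨g, r, hg, hgr⟩ := exists_mul_eq_app π U hU hU' k hx hA hxA s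
    let q₁ : Γ(M, A) := (RefHull.bidualMap P).app (π ⁻¹ᵁ A) q
    let q₂ : Γ(M, A) := (RefHull.bidualMap P).app (π ⁻¹ᵁ A) (s • q)
    have key : r • q₁ = g • q₂ := by
      change (π.app A r) • ((RefHull.bidualMap P).app (π ⁻¹ᵁ A) q) =
        (π.app A g) • ((RefHull.bidualMap P).app (π ⁻¹ᵁ A) (s • q))
      rw [Scheme.Modules.Hom.app_smul, smul_smul, hgr]
    have h : C.presheaf.germ A x hxA g • germM M A x hxA q₂ ∈ LinearMap.range (stalkLin (normEmbed π F) x) :=
      ((germM_smul M A x hxA r q₁).symm.trans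
        ((congrArg (germM M A x hxA) key).trans (germM_smul M A x hxA g q₂))) ▸ Submodule.smul_mem _ _ hq
    exact (Submodule.smul_mem_iff_of_isUnit _ hg).1 h

end Groth.Agent.NodalLib
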