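import Groth.Agent.NodalLib.ClopenSemi
import Groth.Agent.HilbPolyX.Ample
import Groth.Agent.VBLib.Fitting

/-!
# Semistability is tested on the connected components
-/

set_option autoImplicit false
set_option linter.style.haveILetI false

universe u

open CategoryTheory Limits AlgebraicGeometry Opposite TopologicalSpace
open Groth.Agent.PullStalk.Sky Groth.Agent.PullStalk.Exact
open StabCat Groth.Agent.HilbPolyX

noncomputable section

namespace Groth.Agent.NodalLib

variable {X : Scheme.{u}} (k : Type u) [Field k] [X.Over (Spec (CommRingCat.of k))]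
  [IsProper (X ↘ Spec (CommRingCat.of k))]

/-- Reduced comparison of polynomials of degree at most one. -/
theorem redLE_iff_linear {P Q : Polynomial ℚ} (hP : P.natDegree ≤ 1) (hQ : Q.natDegree ≤ 1) :
    RedLE 1 P Q ↔ alpha 1 Q * P.eval 0 ≤ alpha 1 P * Q.eval 0 := by
  have key : ∀ m : ℚ, (alpha 1 P • Q).eval m - (alpha 1 Q • P).eval m =
      alpha 1 P * Q.eval 0 - alpha 1 Q * P.eval 0 := fun m => by
    rw [Polynomial.eq_X_add_C_of_natDegree_le_one hP, Polynomial.eq_X_add_C_of_natDegree_le_one hQ]
    simp [alpha]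
    ring
  constructor
  · intro ⟨N, hN⟩
    linarith [hN N le_rfl, key N]
  · exact fun h => ⟨0, fun m _ => by linarith [key m]⟩

theorem mult_iso {L A B : X.Modules} (e : A ≅ B) : mult k L A = mult k L B := by
  rw [mult, mult, EulerChar.euler_iso k e, EulerChar.euler_iso k (ProjTwist.tensCongr e (Iso.refl L))]

theorem mult_zero {L A : X.Modules} (hL : PicF.IsInvertible L) (h : IsZero A) : mult k L A = 0 := by
  obtain ⟨P, hP⟩ : ∃ P, ShStab.IsHilbPoly k X L A P := ⟨0, hilbPoly_of_isZero k h⟩
  have h0 : P = 0 := hilbPoly_unique k hP (hilbPoly_of_isZero k h)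
  have e1 := eval_one_hilb k hP
  have e0 := eval_zero_hilb k hP
  rw [h0, Polynomial.eval_zero] at e1 e0
  rw [mult]
  exact_mod_cast (by rw [← e1, ← e0, sub_zero] :
    (Curv2.euler k X (CohB1.tensorMod A L) : ℚ) - Curv2.euler k X A = 0)

theorem mult_pos {L M : X.Modules} (hL : CohB1.IsAmple L) (hdim : topologicalKrullDim X ≤ 1) (hM : Coh.IsCoh M)
    (h0 : ¬ IsZero M) (hp : ShStab.IsPure X M 1) : 0 < mult k L M := by
  obtain ⟨P, hP⟩ := exists_hilbPoly k hL.1 hM
  have h := coeff_pos k hL 1 hM hP (dim_of_isPure hM h0 hp)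
  rw [← alpha_pos_iff (d := 1), alpha_hilb k hL.1 hdim hM hP] at h
  exact_mod_cast h

theorem partMap_mono {A : X.Opens} (hA : IsClosed (A : Set X)) {F E : X.Modules} (ι : F ⟶ E) [Mono ι] :
    Mono (partMap A ι) := by
  refine Omega.Stalks.mono_of_stalk fun x => ?_
  by_cases hx : x ∈ A
  · intro a b h
    obtain ⟨a, rfl⟩ := (bijective_stalk_toPart F hx).2 a
    obtain ⟨b, rfl⟩ := (bijective_stalk_toPart F hx).2 b
    rw [← Omega.Stalks.stalkLin_comp, ← Omega.Stalks.stalkLin_comp, ← toPart_natural, Omega.Stalks.stalkLin_comp,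
      Omega.Stalks.stalkLin_comp] at h
    rw [VBLib.stalkLin_injective ι x ((bijective_stalk_toPart E hx).1 h)]
  · haveI := subsingleton_stalk_part hA F hx
    exact fun a b _ => Subsingleton.elim _ _

theorem support_part_subset {A : X.Opens} (hA : IsClosed (A : Set X)) (F : X.Modules) :
    CohB1.support (part A F) ⊆ CohB1.support F := fun x hx h => by
  by_cases hxA : x ∈ A
  · haveI := h
    exact hx (bijective_stalk_toPart F hxA).2.subsingleton
  · exact hx (subsingleton_stalk_part hA F hxA)

theorem transfer_le {R : Type*} [CommRing R] [LinearOrder R] [IsStrictOrderedRing R] {aE aA aF xE xA xF : R}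
    (h : aE * xF ≤ aF * xE) (key : xA * aE = xE * aA) (hE : 0 < aE) (hA : 0 ≤ aA) : aA * xF ≤ aF * xA :=
  le_of_mul_le_mul_left (calc aE * (aA * xF) = aA * (aE * xF) := by ring
      _ ≤ aA * (aF * xE) := mul_le_mul_of_nonneg_left h hA
      _ = aF * (xE * aA) := by ring
      _ = aE * (aF * xA) := by rw [← key]; ring) hE

/-- A semistable module has semistable parts. -/
theorem isSemistable_part {L E : X.Modules} (hL : CohB1.IsAmple L) (hdim : topologicalKrullDim X ≤ 1)
    {A : X.Opens} (hA : IsClosed (A : Set X)) (hE : ShStab.IsSemistable k X L E 1) (h0 : ¬ IsZero (part A E)) :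
    ShStab.IsSemistable k X L (part A E) 1 := by
  haveI := EulerChar.isLocallyNoetherian k (X := X)
  have key := ss_part_eq k hL.1 hdim hA hE
  obtain ⟨hc, hE0, hp, hss⟩ := hE
  let B : X.Opens := ⟨(A : Set X)ᶜ, hA.isOpen_compl⟩
  have hB : IsClosed (B : Set X) := A.2.isClosed_compl
  haveI := isIso_lift_toPart hA hB disjoint_compl_right E fun x hxA hxB => absurd hxA hxB
  let j : part A E ⟶ E := biprod.inl ≫ inv (biprod.lift (toPart A E) (toPart B E))
  haveI : Mono j := mono_comp _ _
  have hcA := isCoh_part hA hc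
  have hpA : ShStab.IsPure X (part A E) 1 := isPure_of_mono hp j
  refine ⟨hcA, h0, hpA, fun F ι hι hF hF0 hi pF pA hpF hpA' => ?_⟩
  have hji : ¬ IsIso (ι ≫ j) := fun h => by
    haveI : Mono ι := hι
    haveI : Epi j := epi_of_epi ι j
    haveI : IsIso j := isIso_of_mono_of_epi j
    exact hi (IsIso.of_isIso_comp_right ι j)
  obtain ⟨pE, hpE⟩ := exists_hilbPoly k hL.1 hc
  haveI : Mono ι := hι
  have h1 := (redLE_iff_linear (natDegree_hilb k hL.1 hdim hF hpF) (natDegree_hilb k hL.1 hdim hc hpE)).mp
    (hss F (ι ≫ j) inferInstance hF hF0 hji pF pE hpF hpE)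
  rw [redLE_iff_linear (natDegree_hilb k hL.1 hdim hF hpF) (natDegree_hilb k hL.1 hdim hcA hpA')]
  rw [alpha_hilb k hL.1 hdim hc hpE, alpha_hilb k hL.1 hdim hF hpF, eval_zero_hilb k hpF, eval_zero_hilb k hpE] at h1
  rw [alpha_hilb k hL.1 hdim hcA hpA', alpha_hilb k hL.1 hdim hF hpF, eval_zero_hilb k hpF, eval_zero_hilb k hpA']
  have hEpos : (0 : ℚ) < mult k L E := by exact_mod_cast mult_pos k hL hdim hc hE0 hp
  have hApos : (0 : ℚ) ≤ mult k L (part A E) := by exact_mod_cast (mult_pos k hL hdim hcA h0 hpA).le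
  have key' := congrArg (fun z : ℤ => (z : ℚ)) key
  push_cast at key' h1 hEpos hApos ⊢
  exact transfer_le h1 key' hEpos hApos

/-- A module with semistable parts of the same reduced Hilbert polynomial is semistable. -/
theorem isSemistable_of_parts [AlgebraicGeometry.IsNoetherian X] {L E : X.Modules} (hL : CohB1.IsAmple L)
    (hdim : topologicalKrullDim X ≤ 1) (hE : Coh.IsCoh E) (hE0 : ¬ IsZero E)
    (h : ∀ c : _root_.ConnectedComponents X, ¬ IsZero (part (comp c) E) →
      ShStab.IsSemistable k X L (part (comp c) E) 1 ∧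
        Curv2.euler k X (part (comp c) E) * mult k L E = Curv2.euler k X E * mult k L (part (comp c) E)) :
    ShStab.IsSemistable k X L E 1 := by
  classical
  haveI := finite_components X
  letI := Fintype.ofFinite (_root_.ConnectedComponents X)
  have hpure : ShStab.IsPure X E 1 := by
    intro F ι hι hF hF0
    haveI : Mono ι := hι
    refine le_antisymm (by exact_mod_cast EulerChar.dim_support_le hdim) ?_
    obtain ⟨x, hx⟩ : (CohB1.support F).Nonempty := Set.nonempty_iff_ne_empty.mpr fun he =>
      hF0 (CohDev.isZero_of_support_eq_empty he)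
    let A := comp (ConnectedComponents.mk x)
    have hA := isClosed_comp (ConnectedComponents.mk x)
    haveI := partMap_mono hA ι
    have hFA : ¬ IsZero (part A F) := fun hz => by
      have : x ∈ CohB1.support (part A F) := fun hs => by
        haveI := hs
        exact hx (bijective_stalk_toPart F (show x ∈ A from rfl)).1.subsingleton
      rw [support_eq_empty_of_isZero hz] at this
      exact this
    have hEA : ¬ IsZero (part A E) := fun hz => hFA (IsZero.of_mono (partMap A ι) hz)
    rw [← (h _ hEA).1.2.2.1 _ (partMap A ι) inferInstance (isCoh_part hA hF) hFA]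
    exact Topology.IsInducing.topologicalKrullDim_le (f := Set.inclusion (support_part_subset hA F))
      (Topology.IsEmbedding.inclusion _).isInducing
  refine ⟨hE, hE0, hpure, fun F ι hι hF hF0 hi pF pE hpF hpE => ?_⟩
  haveI : Mono ι := hι
  rw [redLE_iff_linear (natDegree_hilb k hL.1 hdim hF hpF) (natDegree_hilb k hL.1 hdim hE hpE),
    alpha_hilb k hL.1 hdim hE hpE, alpha_hilb k hL.1 hdim hF hpF, eval_zero_hilb k hpF, eval_zero_hilb k hpE]
  have hFL := ProjTwist.isCoh_tensor hL.1 hF
  have s0 := euler_eq_sum_comp k hF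
  have s1 : mult k L F = ∑ c, mult k L (part (comp c) F) := by
    rw [mult, euler_eq_sum_comp k hFL, s0, ← Finset.sum_sub_distrib]
    exact Finset.sum_congr rfl fun c _ => by rw [mult, euler_part_tens k _ (isClosed_comp c) hF.1 hL.1]
  suffices hint : mult k L E * Curv2.euler k X F ≤ mult k L F * Curv2.euler k X E by exact_mod_cast hint
  rw [s0, s1, Finset.mul_sum, Finset.sum_mul]
  refine Finset.sum_le_sum fun c _ => ?_
  haveI := partMap_mono (isClosed_comp c) ι
  by_cases hz : IsZero (part (comp c) F)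
  · rw [EulerChar.euler_of_isZero k hz, mult_zero k hL.1 hz, mul_zero, zero_mul]
  have hzE : ¬ IsZero (part (comp c) E) := fun h0 => hz (IsZero.of_mono (partMap (comp c) ι) h0)
  obtain ⟨⟨hc', -, hp', hss⟩, heq⟩ := h c hzE
  have hpos := mult_pos k hL hdim hc' hzE hp'
  by_cases hiso : IsIso (partMap (comp c) ι)
  · rw [EulerChar.euler_iso k (asIso (partMap (comp c) ι)), mult_iso k (asIso (partMap (comp c) ι)), mul_comm, heq]
    exact le_of_eq (mul_comm _ _)
  obtain ⟨qF, hqF⟩ := exists_hilbPoly k hL.1 (isCoh_part (isClosed_comp c) hF)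
  obtain ⟨qE, hqE⟩ := exists_hilbPoly k hL.1 hc'
  have h1 := (redLE_iff_linear (natDegree_hilb k hL.1 hdim (isCoh_part (isClosed_comp c) hF) hqF)
    (natDegree_hilb k hL.1 hdim hc' hqE)).mp
    (hss _ (partMap (comp c) ι) inferInstance (isCoh_part (isClosed_comp c) hF) hz hiso qF qE hqF hqE)
  rw [alpha_hilb k hL.1 hdim hc' hqE, alpha_hilb k hL.1 hdim (isCoh_part (isClosed_comp c) hF) hqF,
    eval_zero_hilb k hqF, eval_zero_hilb k hqE] at h1
  have h1' : mult k L (part (comp c) E) * Curv2.euler k X (part (comp c) F) ≤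
      mult k L (part (comp c) F) * Curv2.euler k X (part (comp c) E) := by exact_mod_cast h1
  have hE0' : 0 ≤ mult k L E := (mult_pos k hL hdim hE hE0 hpure).le
  exact transfer_le h1' heq.symm hpos hE0'

end Groth.Agent.NodalLib

end
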